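/-
Elementary tools for small simple groups: Burnside transfer, embeddings into alternating groups.
-/
import Mathlib

set_option autoImplicit false

namespace CfsgLib.SmallSimple

open MulAction Subgroup

variable {G : Type*} [Group G] [Finite G]

/-- Homomorphisms from a non-abelian simple group to a commutative group are trivial. -/
theorem hom_comm_eq_one [IsSimpleGroup G] (hG : ¬ IsMulCommutative G) {A : Type*} [CommGroup A]
    (f : G →* A) : f = 1 := by
  rcases IsSimpleGroup.eq_bot_or_eq_top_of_normal f.ker inferInstance with h | h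
  · exact absurd (⟨⟨fun a b => (MonoidHom.ker_eq_bot_iff f).mp h (by rw [map_mul, map_mul, mul_comm])⟩⟩ :
      IsMulCommutative G) hG
  · exact MonoidHom.ker_eq_top_iff.mp h

/-- Every permutation action of a non-abelian simple group is by even permutations. -/
theorem sign_eq_one [IsSimpleGroup G] (hG : ¬ IsMulCommutative G) {X : Type*} [Fintype X]
    [DecidableEq X] (f : G →* Equiv.Perm X) (g : G) : Equiv.Perm.sign (f g) = 1 :=
  DFunLike.congr_fun (hom_comm_eq_one hG (Equiv.Perm.sign.comp f)) g

/-- The action on the cosets of a proper subgroup of a simple group is faithful. -/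
theorem cosetHom_injective [IsSimpleGroup G] (H : Subgroup G) (hH : H ≠ ⊤) :
    Function.Injective (MulAction.toPermHom G (G ⧸ H)) := by
  refine (MonoidHom.ker_eq_bot_iff _).mp ?_
  rcases IsSimpleGroup.eq_bot_or_eq_top_of_normal (MulAction.toPermHom G (G ⧸ H)).ker inferInstance
    with h | h
  · exact h
  · refine absurd (top_le_iff.mp fun g _ => ?_) hH
    have hg : g ∈ (MulAction.toPermHom G (G ⧸ H)).ker := h ▸ Subgroup.mem_top g
    rw [← Subgroup.normalCore_eq_ker] at hg
    exact Subgroup.normalCore_le H hg

/-- A simple group embeds into the symmetric group on the cosets of a proper subgroup. -/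
theorem card_dvd_factorial [IsSimpleGroup G] (H : Subgroup G) (hH : H ≠ ⊤) :
    Nat.card G ∣ H.index.factorial := by
  have h := Subgroup.card_dvd_of_injective _ (cosetHom_injective H hH)
  rwa [Nat.card_perm, ← Subgroup.index_eq_card] at h

/-- A non-abelian simple group embeds into the alternating group on the cosets. -/
theorem exists_hom_alternating [IsSimpleGroup G] (hG : ¬ IsMulCommutative G) (H : Subgroup G)
    (hH : H ≠ ⊤) :
    ∃ f : G →* alternatingGroup (Fin H.index), Function.Injective f := by
  classical
  haveI := Fintype.ofFinite (G ⧸ H)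
  let e : G ⧸ H ≃ Fin H.index := Finite.equivFinOfCardEq rfl
  let f : G →* Equiv.Perm (Fin H.index) :=
    e.permCongrHom.toMonoidHom.comp (MulAction.toPermHom G (G ⧸ H))
  refine ⟨f.codRestrict _ fun g => Equiv.Perm.mem_alternatingGroup.mpr (sign_eq_one hG f g), ?_⟩
  intro a b hab
  exact cosetHom_injective H hH (e.permCongrHom.injective (congrArg Subtype.val hab))

/-- Burnside: in a simple group a Sylow normaliser does not centralise. -/
theorem not_le_centralizer [IsSimpleGroup G] {p : ℕ} [Fact p.Prime] (P : Sylow p G)
    (h1 : 1 < Nat.card (P : Subgroup G)) (h2 : Nat.card (P : Subgroup G) < Nat.card G) :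
    ¬ normalizer ((P : Subgroup G) : Set G) ≤ centralizer ((P : Subgroup G) : Set G) := by
  intro hle
  have hmul := (MonoidHom.ker_transferSylow_isComplement' P hle).card_mul_card
  rcases IsSimpleGroup.eq_bot_or_eq_top_of_normal (MonoidHom.transferSylow P hle).ker
    inferInstance with h | h <;> rw [h] at hmul
  · rw [Subgroup.card_bot, one_mul] at hmul; omega
  · rw [Subgroup.card_top] at hmul
    have := Nat.card_pos (α := G)
    nlinarith

/-- The number of Sylow subgroups is not one in a simple group, for a proper nontrivial Sylow. -/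
theorem card_sylow_ne_one [IsSimpleGroup G] {p : ℕ} [Fact p.Prime] (P : Sylow p G)
    (h1 : 1 < Nat.card (P : Subgroup G)) (h2 : Nat.card (P : Subgroup G) < Nat.card G) :
    Nat.card (Sylow p G) ≠ 1 := by
  intro h
  haveI : Subsingleton (Sylow p G) := (Nat.card_eq_one_iff_unique.mp h).1
  haveI : (P : Subgroup G).Normal := Sylow.normal_of_subsingleton P
  rcases IsSimpleGroup.eq_bot_or_eq_top_of_normal (P : Subgroup G) inferInstance with h' | h'
  · rw [h', Subgroup.card_bot] at h1; omega
  · rw [h', Subgroup.card_top] at h2; omega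

/-- A simple group with a non-trivial proper Sylow subgroup is non-abelian. -/
theorem not_comm_of_sylow [IsSimpleGroup G] {p : ℕ} [Fact p.Prime] (P : Sylow p G)
    (h1 : 1 < Nat.card (P : Subgroup G)) (h2 : Nat.card (P : Subgroup G) < Nat.card G) :
    ¬ IsMulCommutative G := fun h =>
  not_le_centralizer P h1 h2 fun g _ => Subgroup.mem_centralizer_iff.mpr fun x _ => h.is_comm.comm x g

/-- `|G| = n_p · |N(P)|`. -/
theorem card_sylow_mul {p : ℕ} [Fact p.Prime] (P : Sylow p G) :
    Nat.card (Sylow p G) * Nat.card (normalizer ((P : Subgroup G) : Set G)) = Nat.card G := by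
  rw [P.card_eq_index_normalizer, mul_comm]
  exact Subgroup.card_mul_index _

/-- Sylow order read off from the group order. -/
theorem card_sylow_eq {p : ℕ} [hp : Fact p.Prime] (P : Sylow p G) {k m : ℕ}
    (h : Nat.card G = p ^ k * m) (hm : ¬ p ∣ m) : Nat.card (P : Subgroup G) = p ^ k := by
  have hm0 : m ≠ 0 := fun h0 => hm (h0 ▸ dvd_zero p)
  rw [P.card_eq_multiplicity, h, Nat.factorization_mul (pow_ne_zero _ hp.out.ne_zero) hm0,
    Finsupp.add_apply, hp.out.factorization_pow, Finsupp.single_eq_same,
    Nat.factorization_eq_zero_of_not_dvd hm, add_zero]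

/-- An element of order dividing `p` normalising a Sylow subgroup lies in it. -/
theorem mem_sylow_of_smul_eq {p : ℕ} [Fact p.Prime] {y : G} {n : ℕ} (hy : y ^ p ^ n = 1)
    (Q : Sylow p G) (h : y • Q = Q) : y ∈ (Q : Subgroup G) := by
  obtain ⟨k, -, hk⟩ := (Nat.dvd_prime_pow Fact.out).mp (orderOf_dvd_of_pow_eq_one hy)
  have hp : IsPGroup p (zpowers y) := IsPGroup.of_card (n := k) (by rw [Nat.card_zpowers, hk])
  have hn : zpowers y ≤ normalizer ((Q : Subgroup G) : Set G) :=
    zpowers_le.mpr (Sylow.smul_eq_iff_mem_normalizer.mp h)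
  exact (Q.3 (hp.to_sup_of_normal_right' Q.2 hn) le_sup_right).le
    (Subgroup.mem_sup_left (mem_zpowers y))

end CfsgLib.SmallSimple
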