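/-
Multiplicities of characters on a self-centralising element of prime order.
-/
import Cfsg.Agent.Char.GaloisTwist
import Cfsg.Agent.Char.Kernel
import Cfsg.Agent.Char.Central
import Cfsg.Agent.SmallSimple.Basic
import Cfsg.Agent.SmallSimple.ColumnTable
import Mathlib.Analysis.Fourier.ZMod

set_option autoImplicit false
set_option linter.style.haveILetI false
set_option linter.unusedSectionVars false

namespace CfsgLib.ColumnData

open Finset CfsgLib.Char
open scoped ComplexConjugate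

variable {G : Type*} [Group G] [Finite G] {p : ℕ} [Fact p.Prime] {x : G}

theorem pow_val_add (hx : orderOf x = p) (a b : ZMod p) : x ^ (a + b).val = x ^ a.val * x ^ b.val := by
  rw [← pow_add, ZMod.val_add, ← pow_mod_orderOf x (a.val + b.val), hx]

theorem pow_val_mul (hx : orderOf x = p) (a b : ZMod p) : x ^ (a * b).val = (x ^ a.val) ^ b.val := by
  rw [← pow_mul, ZMod.val_mul, ← pow_mod_orderOf x (a.val * b.val), hx]

/-- Roots of unity of order `p` are the values of the standard additive character. -/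
theorem exists_stdAddChar_eq {z : ℂ} (hz : z ^ p = 1) : ∃ b : ZMod p, ZMod.stdAddChar b = z := by
  obtain ⟨i, -, rfl⟩ := (Complex.isPrimitiveRoot_exp p (Fact.out : p.Prime).ne_zero).eq_pow_of_pow_eq_one hz
  refine ⟨((i : ℤ) : ZMod p), ?_⟩
  rw [ZMod.stdAddChar_coe, ← Complex.exp_nat_mul]
  congr 1
  push_cast
  ring

theorem exists_count (hx : orderOf x = p) {χ : G → ℂ} (hχ : Cfsg.IsCharacter G χ) :
    ∃ c : ZMod p → ℕ, ∀ j : ZMod p, χ (x ^ j.val) = ∑ b, (c b : ℂ) * ZMod.stdAddChar (b * j) := by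
  obtain ⟨s, -, hs, hk⟩ := IsCharacter.exists_roots hχ x
  rw [hx] at hs
  have key : ∀ s : Multiset ℂ, (∀ z ∈ s, z ^ p = 1) → ∃ c : ZMod p → ℕ, ∀ j : ZMod p,
      (s.map fun z => z ^ j.val).sum = ∑ b, (c b : ℂ) * ZMod.stdAddChar (b * j) := by
    intro s
    induction s using Multiset.induction with
    | empty => exact fun _ => ⟨0, fun j => by simp⟩
    | cons z s ih =>
      intro h
      obtain ⟨b₀, hb₀⟩ := exists_stdAddChar_eq (h z (Multiset.mem_cons_self z s))
      obtain ⟨c, hc⟩ := ih fun w hw => h w (Multiset.mem_cons_of_mem hw)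
      refine ⟨fun b => c b + if b = b₀ then 1 else 0, fun j => ?_⟩
      have hzj : z ^ j.val = ZMod.stdAddChar (b₀ * j) := by
        rw [← hb₀, ← AddChar.map_nsmul_eq_pow, nsmul_eq_mul, ZMod.natCast_zmod_val, mul_comm]
      rw [Multiset.map_cons, Multiset.sum_cons, hc, hzj]
      simp only [Nat.cast_add, add_mul, Finset.sum_add_distrib, Nat.cast_ite, Nat.cast_one, Nat.cast_zero,
        ite_mul, one_mul, zero_mul, Finset.sum_ite_eq', Finset.mem_univ, if_true]
      ring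
  obtain ⟨c, hc⟩ := key s hs
  exact ⟨c, fun j => by rw [hk, hc]⟩

theorem sum_stdAddChar (b : ZMod p) : ∑ j : ZMod p, ZMod.stdAddChar (j * b) = if b = 0 then (p : ℂ) else 0 := by
  rw [AddChar.sum_mulShift b (ZMod.isPrimitive_stdAddChar p), ZMod.card]
  split_ifs <;> simp

/-- Inversion: the multiplicities are determined by the values. -/
theorem count_formula (hx : orderOf x = p) {χ : G → ℂ} {c : ZMod p → ℕ}
    (hc : ∀ j : ZMod p, χ (x ^ j.val) = ∑ b, (c b : ℂ) * ZMod.stdAddChar (b * j)) (k : ZMod p) :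
    (p : ℂ) * c k = ∑ j : ZMod p, χ (x ^ j.val) * ZMod.stdAddChar (-(k * j)) := by
  simp only [hc, Finset.sum_mul]
  rw [Finset.sum_comm]
  have h : ∀ b : ZMod p, ∑ j : ZMod p, (c b : ℂ) * ZMod.stdAddChar (b * j) * ZMod.stdAddChar (-(k * j)) =
      if b = k then (p : ℂ) * c k else 0 := by
    intro b
    simp only [mul_assoc, ← AddChar.map_add_eq_mul, ← Finset.mul_sum]
    rw [Finset.sum_congr rfl (fun j _ => by rw [show b * j + -(k * j) = j * (b - k) by ring]), sum_stdAddChar]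
    by_cases hbk : b = k
    · rw [if_pos (sub_eq_zero.mpr hbk), if_pos hbk, hbk, mul_comm]
    · rw [if_neg fun e => hbk (sub_eq_zero.mp e), if_neg hbk, mul_zero]
  rw [Finset.sum_congr rfl fun b _ => h b, Finset.sum_ite_eq', if_pos (Finset.mem_univ k)]

theorem sum_count (hx : orderOf x = p) {χ : G → ℂ} {c : ZMod p → ℕ}
    (hc : ∀ j : ZMod p, χ (x ^ j.val) = ∑ b, (c b : ℂ) * ZMod.stdAddChar (b * j)) :
    χ 1 = ((∑ b, c b : ℕ) : ℂ) := by
  have h := hc 0
  simpa [ZMod.val_zero] using h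

theorem sum_sq (hx : orderOf x = p) {χ : G → ℂ} {c : ZMod p → ℕ}
    (hc : ∀ j : ZMod p, χ (x ^ j.val) = ∑ b, (c b : ℂ) * ZMod.stdAddChar (b * j)) :
    ∑ j : ZMod p, χ (x ^ j.val) * conj (χ (x ^ j.val)) = (p : ℂ) * ∑ b, (c b : ℂ) ^ 2 := by
  have h : ∀ j : ZMod p, χ (x ^ j.val) * conj (χ (x ^ j.val)) =
      ∑ b, (c b : ℂ) * (χ (x ^ j.val) * ZMod.stdAddChar (-(b * j))) := by
    intro j
    conv_lhs => arg 2; rw [hc j, map_sum]
    rw [Finset.mul_sum]
    refine Finset.sum_congr rfl fun b _ => ?_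
    rw [map_mul, map_natCast, AddChar.map_neg_eq_conj]
    ring
  rw [Finset.sum_congr rfl fun j _ => h j, Finset.sum_comm, Finset.mul_sum]
  refine Finset.sum_congr rfl fun b _ => ?_
  rw [← Finset.mul_sum, ← count_formula hx hc]
  ring

/-- Behaviour under a power map. -/
theorem count_pow (hx : orderOf x = p) {χ χ' : G → ℂ} {c c' : ZMod p → ℕ}
    (hc : ∀ j : ZMod p, χ (x ^ j.val) = ∑ b, (c b : ℂ) * ZMod.stdAddChar (b * j))
    (hc' : ∀ j : ZMod p, χ' (x ^ j.val) = ∑ b, (c' b : ℂ) * ZMod.stdAddChar (b * j))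
    {a : ZMod p} (ha : a ≠ 0) (h : ∀ j : ZMod p, χ' (x ^ j.val) = χ (x ^ (a * j).val)) (k : ZMod p) :
    c' (a * k) = c k := by
  have hp : (p : ℂ) ≠ 0 := Nat.cast_ne_zero.mpr (Fact.out : p.Prime).ne_zero
  have : (p : ℂ) * c' (a * k) = (p : ℂ) * c k := by
    rw [count_formula hx hc', count_formula hx hc]
    refine Fintype.sum_equiv (Equiv.mulLeft₀ a ha) _ _ fun j => ?_
    rw [h, Equiv.mulLeft₀_apply]
    congr 2
    ring
  exact_mod_cast mul_left_cancel₀ hp this

theorem ne_one_of_simple [IsSimpleGroup G] (hG : ¬ IsMulCommutative G) {χ : G → ℂ} (hχ : Cfsg.IsIrrCharacter G χ)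
    (h1 : χ ≠ fun _ => 1) : χ 1 ≠ 1 := by
  intro h
  obtain ⟨lam, rfl⟩ := IsCharacter.exists_hom (IsIrrCharacter.isCharacter hχ) h
  refine h1 (funext fun g => ?_)
  rw [CfsgLib.SmallSimple.hom_comm_eq_one hG lam]
  simp

theorem faithful [IsSimpleGroup G] {χ : G → ℂ} (hχ : Cfsg.IsIrrCharacter G χ) (h1 : χ ≠ fun _ => 1)
    (h11 : χ 1 ≠ 1) {g : G} (hg : g ≠ 1) : χ g ≠ χ 1 := by
  intro h
  obtain ⟨n, ρ, hρ, rfl⟩ := hχ
  rw [ρ.char_one] at h h11
  have hker : g ∈ MonoidHom.ker ρ := MonoidHom.mem_ker.mpr (apply_eq_one_of_character_eq ρ h)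
  rcases IsSimpleGroup.eq_bot_or_eq_top_of_normal (MonoidHom.ker ρ) inferInstance with e | e
  · exact hg (by rwa [e, Subgroup.mem_bot] at hker)
  · -- a trivial irreducible representation is one-dimensional
    have hirr : Cfsg.IsIrrCharacter G ρ.character := isIrrCharacter_character ρ
    have hconst : ∀ y, ρ.character y = (Module.finrank ℂ (Fin n → ℂ) : ℂ) := fun y =>
      (character_eq_iff ρ y).mpr (MonoidHom.mem_ker.mp (e ▸ Subgroup.mem_top y))
    haveI := Fintype.ofFinite G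
    have hn := IsIrrCharacter.classInner_self hirr
    simp only [Cfsg.classInner, hconst, Complex.conj_natCast, Finset.sum_const, Finset.card_univ, nsmul_eq_mul,
      ← Nat.card_eq_fintype_card] at hn
    rw [← mul_assoc, inv_mul_cancel₀ (Nat.cast_ne_zero.mpr Nat.card_pos.ne'), one_mul] at hn
    refine h11 ?_
    have : Module.finrank ℂ (Fin n → ℂ) * Module.finrank ℂ (Fin n → ℂ) = 1 := by exact_mod_cast hn
    rw [Nat.eq_one_of_mul_eq_one_right this, Nat.cast_one]

/-- A column relation incompatible with the table. -/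
theorem false_of_table [IsSimpleGroup G] (hG : ¬ IsMulCommutative G) {n e t : ℕ} (g : ZMod p)
    (hn : Nat.card G = n) (hp : p = 1 + e * t) (he : 0 < e) (ht : 0 < t) (hg : g ≠ 0)
    (hgen : (Finset.univ : Finset (ZMod p)).val = 0 ::ₘ (Multiset.range (e * t)).map (fun i => g ^ i))
    (hx : orderOf x = p) (hC : Nat.card (Subgroup.centralizer ({x} : Set G)) = p)
    (hh : ∃ h : G, h * x * h⁻¹ = x ^ (g ^ t).val) {D : List ℕ} {T : List (ℤ × ℤ)}
    (hD : ∀ d ∈ List.range (Nat.sqrt (n - 1) + 1), 2 ≤ d → d ∣ n → d ∈ D)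
    (hT : ColumnTable.check n p e t D T = true) : False := by
  classical
  haveI := Fintype.ofFinite G
  obtain ⟨h, hh⟩ := hh
  set S : Finset (G → ℂ) := (irrFinset G).erase (fun _ => 1) with hS
  have hirr : ∀ χ ∈ S, Cfsg.IsIrrCharacter G χ := fun χ hχ => mem_irrFinset.1 (Finset.mem_of_mem_erase hχ)
  have hone : (fun _ => (1 : ℂ)) ∈ irrFinset G := mem_irrFinset.2 isIrrCharacter_one
  choose! c hc using fun χ (hχ : χ ∈ S) => exists_count hx (IsIrrCharacter.isCharacter (hirr χ hχ))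
  set vec : (G → ℂ) → ColumnTable.Vec := fun χ => (c χ 0, fun i => c χ (g ^ i)) with hvec
  have hgt : g ^ t ≠ 0 := pow_ne_zero _ hg
  have hinv : ∀ χ ∈ S, ∀ k : ZMod p, c χ (g ^ t * k) = c χ k := fun χ hχ =>
    count_pow hx (hc χ hχ) (hc χ hχ) hgt fun j => by
      rw [pow_val_mul hx, ← hh, conj_pow,
        IsCharacter.isClassFunction (IsIrrCharacter.isCharacter (hirr χ hχ))]
  have hper : ∀ χ ∈ S, ∀ i, c χ (g ^ (i + t)) = c χ (g ^ i) := fun χ hχ i => by
    rw [pow_add, mul_comm, hinv χ hχ]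
  -- sums over all residues
  have hsumall : ∀ χ ∈ S, ∀ F : ℕ → ℤ, ∑ b : ZMod p, F (c χ b) = F (c χ 0) + e * ∑ i ∈ range t, F (c χ (g ^ i)) := by
    intro χ hχ F
    rw [Finset.sum_eq_multiset_sum, hgen, Multiset.map_cons, Multiset.sum_cons, Multiset.map_map]
    congr 1
    exact (ColumnTable.sum_periodic (fun i => F (c χ (g ^ i))) t (fun i => by show F _ = F _; rw [hper χ hχ]) e).trans
      (nsmul_eq_mul _ _)
  have hdeg : ∀ χ ∈ S, χ 1 = (ColumnTable.deg e t (vec χ) : ℂ) := by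
    intro χ hχ
    rw [sum_count hx (hc χ hχ)]
    congr 1
    have := hsumall χ hχ (fun a => (a : ℤ))
    exact_mod_cast this
  have hwt : ∀ χ ∈ S, (ColumnTable.wt p e t (vec χ) : ℂ) =
      (∑ j : ZMod p, χ (x ^ j.val) * conj (χ (x ^ j.val))) - χ 1 ^ 2 := by
    intro χ hχ
    rw [sum_sq hx (hc χ hχ), hdeg χ hχ, ColumnTable.wt]
    have h2 := hsumall χ hχ (fun a => (a : ℤ) ^ 2)
    have h2' := congrArg (Int.cast : ℤ → ℂ) h2
    push_cast at h2' ⊢
    rw [h2']
  -- the Galois action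
  obtain ⟨σ, hσ⟩ : ∃ σ : ℂ ≃+* ℂ, ∀ z : ℂ, z ^ p = 1 → σ z = z ^ (g⁻¹).val := by
    refine exists_ringEquiv_pow (Fact.out : p.Prime).pos ?_
    refine ((Fact.out : p.Prime).coprime_iff_not_dvd.mpr fun hd => inv_ne_zero hg ?_).symm
    rw [← ZMod.natCast_zmod_val g⁻¹]
    exact (ZMod.natCast_eq_zero_iff _ _).mpr hd
  set tw : (G → ℂ) → (G → ℂ) := fun χ y => σ (χ y) with htw
  have htwS : ∀ χ ∈ S, tw χ ∈ S := fun χ hχ => by
    refine Finset.mem_erase.mpr ⟨fun e1 => (Finset.mem_erase.mp hχ).1 (funext fun y => ?_),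
      mem_irrFinset.2 (IsIrrCharacter.map_ringEquiv (hirr χ hχ) σ)⟩
    have := congrFun e1 y
    exact σ.injective (this.trans (map_one σ).symm)
  have htwinj : Function.Injective tw := fun a b e1 => funext fun y => σ.injective (congrFun e1 y)
  have hperm : S.val.map tw = S.val := by
    refine Multiset.eq_of_le_of_card_le ?_ (by simp)
    exact (Multiset.le_iff_subset (S.nodup.map htwinj)).mpr fun v hv => by
      obtain ⟨χ, hχ, rfl⟩ := Multiset.mem_map.mp hv
      exact htwS χ hχ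
  have hrot : ∀ χ ∈ S, vec (tw χ) = ColumnTable.rot (vec χ) := by
    intro χ hχ
    have key : ∀ k, c (tw χ) (g⁻¹ * k) = c χ k := count_pow hx (hc χ hχ) (hc _ (htwS χ hχ)) (inv_ne_zero hg) fun j => by
      have h1 : σ (χ (x ^ j.val)) = χ ((x ^ j.val) ^ (g⁻¹).val) :=
        IsCharacter.map_ringEquiv_eq_pow (IsIrrCharacter.isCharacter (hirr χ hχ)) σ fun z hz => hσ z (by
          have hd : orderOf (x ^ j.val) ∣ p := (orderOf_pow_dvd (x := x) j.val).trans (dvd_of_eq hx)
          obtain ⟨k, hk⟩ := hd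
          rw [hk, pow_mul, hz, one_pow])
      show σ (χ (x ^ j.val)) = _
      rw [h1, mul_comm g⁻¹ j, pow_val_mul hx]
    refine Prod.ext ?_ (funext fun i => ?_)
    · simpa [hvec, ColumnTable.rot] using key 0
    · have := key (g ^ (i + 1))
      rw [pow_succ', ← mul_assoc, inv_mul_cancel₀ hg, one_mul, ← pow_succ'] at this
      exact this
  set M := S.val.map vec with hM
  have hMrot : M.map ColumnTable.rot = M := by
    conv_rhs => rw [hM, ← hperm, Multiset.map_map]
    rw [hM, Multiset.map_map]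
    exact Multiset.map_congr rfl fun χ hχ => (hrot χ hχ).symm
  -- the two column relations
  have hx1 : ∀ j : ZMod p, j ≠ 0 → x ^ j.val ≠ 1 := fun j hj e1 => hj ((ZMod.val_eq_zero j).mp
    (Nat.eq_zero_of_dvd_of_lt ((dvd_of_eq hx.symm).trans (orderOf_dvd_of_pow_eq_one e1)) (ZMod.val_lt j)))
  have hcol : ∀ j : ZMod p, j ≠ 0 →
      ∑ χ ∈ irrFinset G, χ (x ^ j.val) * conj (χ (x ^ j.val)) = (p : ℂ) := by
    intro j hj
    rw [sum_irr_mul_conj, if_pos (IsConj.refl _)]
    have hcent : Subgroup.centralizer ({x ^ j.val} : Set G) = Subgroup.centralizer ({x} : Set G) := by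
      ext y
      simp only [Subgroup.mem_centralizer_singleton_iff]
      refine ⟨fun h' => ?_, fun h' => (Commute.pow_right (show Commute y x from h') _).eq⟩
      have h2 := (Commute.pow_right (show Commute y (x ^ j.val) from h') (j⁻¹).val).eq
      rwa [← pow_val_mul hx, mul_inv_cancel₀ hj, ZMod.val_one, pow_one] at h2
    rw [hcent, hC]
  have hsumd : ∑ χ ∈ S, χ 1 ^ 2 = (n : ℂ) - 1 := by
    rw [hS, Finset.sum_erase_eq_sub hone, sum_degree_sq, hn, one_pow]
  have htot : ∑ χ ∈ irrFinset G, ∑ j : ZMod p, χ (x ^ j.val) * conj (χ (x ^ j.val)) = (n : ℂ) + ((p : ℂ) - 1) * p := by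
    rw [Finset.sum_comm, ← Finset.add_sum_erase _ _ (Finset.mem_univ (0 : ZMod p)),
      Finset.sum_congr rfl (fun j hj => hcol j (Finset.ne_of_mem_erase hj)), Finset.sum_const,
      Finset.card_erase_of_mem (Finset.mem_univ _), Finset.card_univ, ZMod.card, nsmul_eq_mul,
      Nat.cast_sub (Fact.out : p.Prime).one_le]
    congr 1
    · rw [ZMod.val_zero, pow_zero, ← hn, ← sum_degree_sq]
      refine Finset.sum_congr rfl fun χ hχ => ?_
      obtain ⟨d, -, hd⟩ := IsIrrCharacter.exists_degree (mem_irrFinset.1 hχ)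
      rw [hd, Complex.conj_natCast, sq]
    · push_cast; ring
  have hMw : (M.map (ColumnTable.wt p e t)).sum = ((p : ℤ) - 1) ^ 2 := by
    rw [hM, Multiset.map_map]
    have : ((∑ χ ∈ S, ColumnTable.wt p e t (vec χ) : ℤ) : ℂ) = ((((p : ℤ) - 1) ^ 2 : ℤ) : ℂ) := by
      push_cast
      rw [Finset.sum_congr rfl hwt, Finset.sum_sub_distrib, hsumd, hS, Finset.sum_erase_eq_sub hone, htot]
      simp [ZMod.card]
      ring
    exact_mod_cast this
  have hMd : (M.map fun u => (ColumnTable.deg e t u : ℤ) ^ 2).sum = (n : ℤ) - 1 := by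
    rw [hM, Multiset.map_map]
    have : ((∑ χ ∈ S, (ColumnTable.deg e t (vec χ) : ℤ) ^ 2 : ℤ) : ℂ) = (((n : ℤ) - 1 : ℤ) : ℂ) := by
      push_cast
      rw [← hsumd]
      exact Finset.sum_congr rfl fun χ hχ => by rw [hdeg χ hχ]
    exact (Finset.sum_eq_multiset_sum S _).symm.trans (Int.cast_injective this)
  refine ColumnTable.no_decomposition hp he ht hT M hMrot (fun u hu => ?_) hMw hMd
  obtain ⟨χ, hχ, rfl⟩ := Multiset.mem_map.mp hu
  have hne1 := (Finset.mem_erase.mp (show χ ∈ (irrFinset G).erase _ from hχ)).1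
  have hd1 := ne_one_of_simple hG (hirr χ hχ) hne1
  refine ⟨hper χ hχ, hD _ ?_ ?_ ?_, fun e1 => ?_⟩
  · rw [List.mem_range, Nat.lt_succ_iff, Nat.le_sqrt]
    have h1 : (ColumnTable.deg e t (vec χ) : ℤ) ^ 2 ≤ (n : ℤ) - 1 := by
      rw [← hMd, hM, Multiset.map_map]
      exact Finset.single_le_sum (f := fun χ => (ColumnTable.deg e t (vec χ) : ℤ) ^ 2) (fun _ _ => sq_nonneg _) hχ
    rw [← sq]
    have : ((ColumnTable.deg e t (vec χ) ^ 2 : ℕ) : ℤ) ≤ (n : ℤ) - 1 := by exact_mod_cast h1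
    omega
  · rw [hdeg χ hχ] at hd1
    have h0 := IsIrrCharacter.apply_one_ne_zero (hirr χ hχ)
    rw [hdeg χ hχ] at h0
    have a : ColumnTable.deg e t (vec χ) ≠ 1 := fun e2 => hd1 (by rw [e2, Nat.cast_one])
    have b : ColumnTable.deg e t (vec χ) ≠ 0 := fun e2 => h0 (by rw [e2, Nat.cast_zero])
    omega
  · exact hn ▸ IsIrrCharacter.degree_dvd_card (hirr χ hχ) (hdeg χ hχ)
  · refine faithful (hirr χ hχ) hne1 hd1 (g := x) (fun hx1' => ?_) ?_
    · rw [hx1', orderOf_one] at hx; exact (Fact.out : p.Prime).one_lt.ne hx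
    · have hz : ∀ b : ZMod p, b ≠ 0 → c χ b = 0 := by
        intro b hb
        have h1 : ∑ b' : ZMod p, c χ b' = c χ 0 := by
          have h2 := sum_count hx (hc χ hχ)
          rw [hdeg χ hχ, e1] at h2
          exact_mod_cast h2.symm
        rw [← Finset.add_sum_erase _ _ (Finset.mem_univ (0 : ZMod p))] at h1
        exact (Finset.sum_eq_zero_iff.mp (by omega : ∑ b' ∈ Finset.univ.erase (0 : ZMod p), c χ b' = 0)) b
          (Finset.mem_erase.mpr ⟨hb, Finset.mem_univ b⟩)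
      have h3 : χ x = χ (x ^ (1 : ZMod p).val) := by rw [ZMod.val_one, pow_one]
      rw [h3, hc χ hχ, hdeg χ hχ, e1]
      rw [Finset.sum_eq_single (0 : ZMod p) (fun b _ hb => by rw [hz b hb]; simp) (fun h' => absurd (Finset.mem_univ _) h'),
        zero_mul, AddChar.map_zero_eq_one, mul_one]

end CfsgLib.ColumnData
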