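/-
Local structure of a simple group of order 168.
-/
import Cfsg.Agent.SmallSimple.Basic
import Cfsg.Agent.InvChar.SylowTools
import Cfsg.Agent.Char.Orthogonality

set_option autoImplicit false
set_option linter.style.haveILetI false
set_option linter.unusedSectionVars false

namespace CfsgLib.Simple168

open Subgroup CfsgLib.SmallSimple
open scoped Pointwise

instance : Fact (Nat.Prime 7) := ⟨by norm_num⟩
instance : Fact (Nat.Prime 3) := ⟨by norm_num⟩
instance : Fact (Nat.Prime 2) := ⟨Nat.prime_two⟩

section General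

variable {G : Type*} [Group G] [Finite G]

theorem card_orderOf_prime {p : ℕ} [hp : Fact p.Prime] (hsyl : ∀ Q : Sylow p G, Nat.card (Q : Subgroup G) = p) :
    Nat.card {g : G // orderOf g = p} = Nat.card (Sylow p G) * (p - 1) := by
  classical
  haveI := Fintype.ofFinite (Sylow p G)
  have hmem : ∀ (Q : Sylow p G) (x : (Q : Subgroup G)), x ≠ 1 → orderOf (x : G) = p := fun Q x hx => by
    rw [Subgroup.orderOf_coe]
    exact ((Nat.dvd_prime hp.out).mp ((_root_.orderOf_dvd_natCard x).trans (hsyl Q).dvd)).resolve_left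
      fun h => hx (orderOf_eq_one_iff.mp h)
  let f : (Σ Q : Sylow p G, {x : (Q : Subgroup G) // x ≠ 1}) → {g : G // orderOf g = p} :=
    fun a => ⟨((a.2 : (a.1 : Subgroup G)) : G), hmem a.1 a.2 a.2.2⟩
  have hfz : ∀ (Q : Sylow p G) (x : G), orderOf x = p → x ∈ (Q : Subgroup G) →
      (Q : Subgroup G) = zpowers x := fun Q x hx hxQ =>
    (eq_of_le_of_card_ge (zpowers_le.mpr hxQ) (by rw [hsyl, Nat.card_zpowers, hx])).symm
  have hbij : Function.Bijective f := by
    constructor
    · rintro ⟨Q, ⟨x, hx⟩⟩ ⟨R, ⟨y, hy⟩⟩ h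
      have hxy : (x : G) = y := congrArg Subtype.val h
      obtain rfl : Q = R := Sylow.ext ((hfz Q _ (hmem Q x hx) x.2).trans
        (hfz R _ (hmem Q x hx) (hxy ▸ y.2)).symm)
      obtain rfl : x = y := Subtype.ext hxy
      rfl
    · rintro ⟨g, hg⟩
      obtain ⟨Q, hQ⟩ := (IsPGroup.of_card (n := 1) (G := zpowers g)
        (by rw [Nat.card_zpowers, hg, pow_one])).exists_le_sylow
      refine ⟨⟨Q, ⟨⟨g, hQ (mem_zpowers g)⟩, fun h => ?_⟩⟩, rfl⟩
      rw [show g = 1 from congrArg Subtype.val h, orderOf_one] at hg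
      exact hp.out.one_lt.ne hg
  have hfib : ∀ Q : Sylow p G, Nat.card {x : (Q : Subgroup G) // x ≠ 1} = p - 1 := by
    intro Q
    haveI := Fintype.ofFinite (Q : Subgroup G)
    rw [Nat.card_eq_fintype_card, Fintype.card_subtype_compl, Fintype.card_subtype_eq,
      ← Nat.card_eq_fintype_card, hsyl]
  rw [← Nat.card_eq_of_bijective f hbij, Nat.card_sigma, Finset.sum_congr rfl fun Q _ => hfib Q,
    Finset.sum_const, smul_eq_mul, Finset.card_univ, ← Nat.card_eq_fintype_card]

theorem dvd_card_of_mem {H : Subgroup G} {y : G} (hy : y ∈ H) : orderOf y ∣ Nat.card H := by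
  rw [← Subgroup.orderOf_mk y hy]; exact orderOf_dvd_natCard _

theorem four_cases {x g : G} (hx : orderOf x = 4) (hg : g ∈ zpowers x) :
    g = 1 ∨ g = x ∨ g = x * x ∨ g = x⁻¹ := by
  classical
  rw [mem_zpowers_iff_mem_range_orderOf, hx, Finset.mem_image] at hg
  obtain ⟨k, hk, rfl⟩ := hg
  rw [Finset.mem_range] at hk
  have hinv : x ^ 3 = x⁻¹ := by
    rw [eq_inv_iff_mul_eq_one, ← pow_succ, show 3 + 1 = orderOf x by omega, pow_orderOf_eq_one]
  interval_cases k
  exacts [Or.inl (pow_zero x), Or.inr (Or.inl (pow_one x)), Or.inr (Or.inr (Or.inl (sq x))),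
    Or.inr (Or.inr (Or.inr hinv))]

/-- A conjugate of a generator of a normalised cyclic group of order four. -/
theorem conj_four {x y : G} (hx : orderOf x = 4) (h : y * x * y⁻¹ ∈ zpowers x) :
    y * x * y⁻¹ = x ∨ y * x * y⁻¹ = x⁻¹ := by
  have hord : orderOf (y * x * y⁻¹) = 4 := by rw [← MulAut.conj_apply, MulEquiv.orderOf_eq, hx]
  rcases four_cases hx h with e | e | e | e
  · rw [e, orderOf_one] at hord; omega
  · exact Or.inl e
  · rw [e, ← sq, orderOf_pow, hx] at hord
    norm_num at hord
  · exact Or.inr e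

theorem conj_four_sq {x y : G} (hx : orderOf x = 4) (h : y * x * y⁻¹ ∈ zpowers x) :
    y * (x * x) * y⁻¹ = x * x := by
  have h4 : x * x * (x * x) = 1 := by
    rw [← mul_assoc, ← pow_three', ← pow_succ, show 3 + 1 = orderOf x by omega, pow_orderOf_eq_one]
  have : y * (x * x) * y⁻¹ = (y * x * y⁻¹) * (y * x * y⁻¹) := by group
  rw [this]
  rcases conj_four hx h with e | e <;> rw [e]
  rw [← mul_inv_rev]
  exact inv_eq_of_mul_eq_one_right h4

theorem le_normalizer_of_normal {H M : Subgroup G} (hle : H ≤ M) (hn : (H.subgroupOf M).Normal) :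
    M ≤ normalizer (H : Set G) := by
  intro m hm
  rw [mem_normalizer_iff]
  intro x
  constructor
  · intro hx
    exact hn.conj_mem ⟨x, hle hx⟩ hx ⟨m, hm⟩
  · intro hx
    have h := hn.conj_mem ⟨m * x * m⁻¹, hle hx⟩ hx ⟨m⁻¹, inv_mem hm⟩
    simpa [Subgroup.mem_subgroupOf, mul_assoc] using h

theorem klein_sq {U : Subgroup G} [IsKleinFour ↥U] {x : G} (hx : x ∈ U) : x * x = 1 :=
  congrArg Subtype.val (IsKleinFour.mul_self (⟨x, hx⟩ : U))

theorem isKleinFour_of {U : Subgroup G} (h4 : Nat.card U = 4) (h : ∀ x ∈ U, x * x = 1) : IsKleinFour ↥U := by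
  haveI : Nontrivial U := Finite.one_lt_card_iff_nontrivial.mp (by omega)
  refine ⟨h4, (Monoid.exponent_eq_prime_iff Nat.prime_two).mpr fun x hx => ?_⟩
  exact orderOf_eq_prime (by rw [sq]; exact Subtype.ext (h x x.2)) hx

end General

variable {G : Type*} [Group G] [Finite G] [IsSimpleGroup G] (h : Nat.card G = 168)
include h

theorem index_ge (H : Subgroup G) (hH : H ≠ ⊤) : 7 ≤ H.index := by
  have hd := card_dvd_factorial H hH
  rw [h] at hd
  by_contra hlt
  have h0 : H.index ≠ 0 := index_ne_zero_of_finite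
  have := hd.trans (Nat.factorial_dvd_factorial (show H.index ≤ 6 by omega))
  norm_num [Nat.factorial] at this

theorem card_le (H : Subgroup G) (hH : H ≠ ⊤) : Nat.card H ≤ 24 := by
  have h1 := H.card_mul_index
  have := index_ge h H hH
  nlinarith

theorem card_seven (R : Sylow 7 G) : Nat.card (R : Subgroup G) = 7 := by
  rw [card_sylow_eq R (k := 1) (m := 24) (by rw [h]; norm_num) (by norm_num)]; norm_num

theorem card_three (R : Sylow 3 G) : Nat.card (R : Subgroup G) = 3 := by
  rw [card_sylow_eq R (k := 1) (m := 56) (by rw [h]; norm_num) (by norm_num)]; norm_num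

theorem card_two (R : Sylow 2 G) : Nat.card (R : Subgroup G) = 8 := by
  rw [card_sylow_eq R (k := 3) (m := 21) (by rw [h]; norm_num) (by norm_num)]; norm_num

theorem count_seven : Nat.card (Sylow 7 G) = 8 := by
  obtain ⟨P⟩ : Nonempty (Sylow 7 G) := Sylow.nonempty
  have h1 := (P : Subgroup G).card_mul_index
  rw [card_seven h, h] at h1
  have h2 : Nat.card (Sylow 7 G) ∣ 24 :=
    (show (P : Subgroup G).index = 24 by omega) ▸ P.card_dvd_index
  have h3 : Nat.card (Sylow 7 G) % 7 = 1 := card_sylow_modEq_one 7 G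
  have h4 := card_sylow_ne_one P (by rw [card_seven h]; norm_num) (by rw [card_seven h, h]; norm_num)
  have h5 := Nat.le_of_dvd (by norm_num) h2
  interval_cases hn : Nat.card (Sylow 7 G) <;> omega

theorem card_normalizer_seven (P : Sylow 7 G) : Nat.card (normalizer ((P : Subgroup G) : Set G)) = 21 := by
  have := card_sylow_mul P
  rw [count_seven h, h] at this
  omega

theorem count_three : Nat.card (Sylow 3 G) = 28 := by
  obtain ⟨P⟩ : Nonempty (Sylow 7 G) := Sylow.nonempty
  obtain ⟨⟨c, hcN⟩, hc⟩ := exists_prime_orderOf_dvd_card'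
    (G := normalizer ((P : Subgroup G) : Set G)) 3 (by rw [card_normalizer_seven h]; norm_num)
  rw [Subgroup.orderOf_mk] at hc
  obtain ⟨S, hS⟩ := (IsPGroup.of_card (n := 1) (G := zpowers c)
    (by rw [Nat.card_zpowers, hc, pow_one])).exists_le_sylow
  have hSc : (S : Subgroup G) = zpowers c :=
    (eq_of_le_of_card_ge hS (by rw [card_three h, Nat.card_zpowers, hc])).symm
  have hne1 := card_sylow_ne_one S (by rw [card_three h]; norm_num) (by rw [card_three h, h]; norm_num)
  have hd : Nat.card (Sylow 3 G) ∣ 56 := by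
    have h' := (S : Subgroup G).card_mul_index
    rw [card_three h, h] at h'
    exact (show (S : Subgroup G).index = 56 by omega) ▸ S.card_dvd_index
  have hmod : Nat.card (Sylow 3 G) % 3 = 1 := card_sylow_modEq_one 3 G
  have hge : 7 ≤ Nat.card (Sylow 3 G) := by
    rw [S.card_eq_index_normalizer]
    refine index_ge h _ fun htop => hne1 ?_
    rw [S.card_eq_index_normalizer, htop, index_top]
  set M := normalizer ((S : Subgroup G) : Set G) with hM
  have hmul : Nat.card (Sylow 3 G) * Nat.card M = 168 := h ▸ card_sylow_mul S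
  have hle := Nat.le_of_dvd (by norm_num) hd
  interval_cases hn : Nat.card (Sylow 3 G) <;> try omega
  -- seven Sylow subgroups: the element fixes every Sylow 7-subgroup
  exfalso
  have hM24 : Nat.card M = 24 := by omega
  have hfix : ∀ m : M, c • (m : G) • P = (m : G) • P := by
    intro m
    have h1 : (m : G)⁻¹ * c * m ∈ normalizer ((P : Subgroup G) : Set G) := by
      have := (mem_normalizer_iff.mp (inv_mem m.2) c).mp (hSc ▸ mem_zpowers c)
      rw [inv_inv, hSc] at this
      exact zpowers_le.mpr hcN this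
    rw [← mul_smul, show c * (m : G) = m * ((m : G)⁻¹ * c * m) by group, mul_smul,
      Sylow.smul_eq_iff_mem_normalizer.mpr h1]
  have hstab : Nat.card (MulAction.stabilizer M P) ∣ 3 := by
    have h1 : Nat.card (MulAction.stabilizer M P) ∣ 24 :=
      hM24 ▸ card_subgroup_dvd_card (MulAction.stabilizer M P)
    have h2 : Nat.card (MulAction.stabilizer M P) ∣ 21 := by
      rw [← card_normalizer_seven h P, ← card_map_of_injective M.subtype_injective]
      refine card_dvd_of_le ?_
      rintro _ ⟨m, hm, rfl⟩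
      exact Sylow.smul_eq_iff_mem_normalizer.mp hm
    exact Nat.dvd_gcd h1 h2
  have horb : MulAction.orbit M P = Set.univ := by
    refine Set.eq_of_subset_of_ncard_le (Set.subset_univ _) ?_ (Set.toFinite _)
    rw [Set.ncard_univ, count_seven h, ← MulAction.index_stabilizer]
    have h1 := (MulAction.stabilizer M P).card_mul_index
    rw [hM24] at h1
    have := Nat.le_of_dvd (by norm_num) hstab
    nlinarith
  have hker : c ∈ (MulAction.toPermHom G (Sylow 7 G)).ker := by
    refine MonoidHom.mem_ker.mpr (Equiv.ext fun R => ?_)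
    obtain ⟨m, rfl⟩ : R ∈ MulAction.orbit M P := horb ▸ Set.mem_univ R
    exact hfix m
  rcases IsSimpleGroup.eq_bot_or_eq_top_of_normal (MulAction.toPermHom G (Sylow 7 G)).ker inferInstance
    with hk | hk
  · rw [hk, mem_bot] at hker
    rw [hker, orderOf_one] at hc
    omega
  · have hall : ∀ R : Sylow 7 G, R = P := fun R => by
      obtain ⟨g, rfl⟩ := MulAction.exists_smul_eq G P R
      exact congrArg (fun e : Equiv.Perm (Sylow 7 G) => e P)
        (MonoidHom.mem_ker.mp (hk ▸ mem_top g : g ∈ (MulAction.toPermHom G (Sylow 7 G)).ker))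
    haveI : Subsingleton (Sylow 7 G) := ⟨fun a b => (hall a).trans (hall b).symm⟩
    have := count_seven h
    rw [Nat.card_of_subsingleton P] at this
    omega

theorem card_normalizer_three (R : Sylow 3 G) : Nat.card (normalizer ((R : Subgroup G) : Set G)) = 6 := by
  have := card_sylow_mul R
  rw [count_three h, h] at this
  omega

theorem exists_sylow_eq_zpowers {p : ℕ} [hp : Fact p.Prime] (hsyl : ∀ Q : Sylow p G, Nat.card (Q : Subgroup G) = p)
    {c : G} (hc : orderOf c = p) : ∃ R : Sylow p G, (R : Subgroup G) = zpowers c := by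
  obtain ⟨R, hR⟩ := (IsPGroup.of_card (n := 1) (G := zpowers c)
    (by rw [Nat.card_zpowers, hc, pow_one])).exists_le_sylow
  exact ⟨R, (eq_of_le_of_card_ge hR (by rw [hsyl, Nat.card_zpowers, hc])).symm⟩

theorem centralizer_prime {p q : ℕ} [hp : Fact p.Prime] (hq : q.Prime)
    (hsyl : ∀ Q : Sylow p G, Nat.card (Q : Subgroup G) = p)
    (hN : ∀ Q : Sylow p G, Nat.card (normalizer ((Q : Subgroup G) : Set G)) = q * p)
    (hlt : p < 168) {c : G} (hc : orderOf c = p) : centralizer ({c} : Set G) = zpowers c := by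
  obtain ⟨R, hR⟩ := exists_sylow_eq_zpowers h hsyl hc
  have hle : zpowers c ≤ centralizer ({c} : Set G) := zpowers_le.mpr (mem_centralizer_singleton_iff.mpr rfl)
  have hCR : centralizer ({c} : Set G) ≤ centralizer ((R : Subgroup G) : Set G) := by
    intro x hx
    rw [mem_centralizer_iff]
    intro y hy
    obtain ⟨i, rfl⟩ := mem_zpowers_iff.mp (hR ▸ hy : y ∈ zpowers c)
    exact (Commute.zpow_left (mem_centralizer_singleton_iff.mp hx).symm i).eq
  have hCN : centralizer ({c} : Set G) ≤ normalizer ((R : Subgroup G) : Set G) :=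
    hCR.trans (fun x hx => mem_normalizer_iff.mpr fun y => by
      have hcomm : ∀ y ∈ (R : Subgroup G), x * y * x⁻¹ = y := fun y hy => by
        rw [← mem_centralizer_iff.mp hx y hy, mul_inv_cancel_right]
      constructor
      · intro hy; rw [hcomm y hy]; exact hy
      · intro hy
        have := hcomm _ hy
        rw [← mul_inv_eq_iff_eq_mul] at this
        have h2 : x * y * x⁻¹ = y := by
          apply mul_left_cancel (a := x)
          apply mul_right_cancel (b := x⁻¹)
          have := hcomm _ hy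
          exact this
        exact h2 ▸ hy)
  have hdvd := card_dvd_of_le hCN
  obtain ⟨k, hk⟩ := card_dvd_of_le hle
  rw [Nat.card_zpowers, hc] at hk
  rw [hN, hk, mul_comm q p, Nat.mul_dvd_mul_iff_left hp.out.pos] at hdvd
  rcases (Nat.dvd_prime hq).mp hdvd with rfl | rfl
  · exact (eq_of_le_of_card_ge hle (by rw [hk, Nat.card_zpowers, hc, mul_one])).symm
  · exfalso
    have heq := eq_of_le_of_card_ge hCN (by rw [hN, hk, mul_comm])
    exact not_le_centralizer R (by rw [hsyl]; exact hp.out.one_lt) (by rw [hsyl, h]; exact hlt)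
      (heq ▸ hCR)

theorem centralizer_three {c : G} (hc : orderOf c = 3) : centralizer ({c} : Set G) = zpowers c :=
  centralizer_prime h Nat.prime_two (card_three h)
    (fun Q => (card_normalizer_three h Q).trans (by norm_num)) (by norm_num) hc

theorem centralizer_seven {c : G} (hc : orderOf c = 7) : centralizer ({c} : Set G) = zpowers c :=
  centralizer_prime h (show Nat.Prime 3 by norm_num) (card_seven h)
    (fun Q => (card_normalizer_seven h Q).trans (by norm_num)) (by norm_num) hc

theorem count_order_three : Nat.card {g : G // orderOf g = 3} = 56 := by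
  rw [card_orderOf_prime (card_three h), count_three h]

theorem count_order_seven : Nat.card {g : G // orderOf g = 7} = 48 := by
  rw [card_orderOf_prime (card_seven h), count_seven h]

theorem order_cases (g : G) : orderOf g = 3 ∨ orderOf g = 7 ∨ orderOf g ∣ 8 := by
  have hd : orderOf g ∣ 8 * 21 := by
    have := orderOf_dvd_natCard g
    rwa [h] at this
  have key : ∀ p : ℕ, p.Prime → (∀ c : G, orderOf c = p → centralizer ({c} : Set G) = zpowers c) →
      p ∣ orderOf g → orderOf g = p := by
    intro p hp hC hpd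
    obtain ⟨k, hk⟩ := hpd
    have hy : orderOf (g ^ k) = p := by
      rw [orderOf_pow, hk, Nat.gcd_mul_left_left, Nat.mul_div_cancel _ ?_]
      rcases Nat.eq_zero_or_pos k with rfl | hk0
      · have := orderOf_pos g; omega
      · exact hk0
    have hg : g ∈ centralizer ({g ^ k} : Set G) :=
      mem_centralizer_singleton_iff.mpr ((Commute.refl g).pow_right k).eq
    rw [hC _ hy] at hg
    have := dvd_card_of_mem hg
    rw [Nat.card_zpowers, hy] at this
    rcases (Nat.dvd_prime hp).mp this with h1 | h1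
    · have : p ∣ 1 := h1 ▸ Dvd.intro k hk.symm
      exact absurd (Nat.dvd_one.mp this) hp.ne_one
    · exact h1
  by_cases h3 : 3 ∣ orderOf g
  · exact Or.inl (key 3 (by norm_num) (fun c hc => centralizer_three h hc) h3)
  by_cases h7 : 7 ∣ orderOf g
  · exact Or.inr (Or.inl (key 7 (by norm_num) (fun c hc => centralizer_seven h hc) h7))
  refine Or.inr (Or.inr (Nat.Coprime.dvd_of_dvd_mul_right ?_ hd))
  rw [show 21 = 3 * 7 from rfl]
  exact Nat.Coprime.mul_right ((Nat.Prime.coprime_iff_not_dvd (by norm_num)).mpr h3).symm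
    ((Nat.Prime.coprime_iff_not_dvd (by norm_num)).mpr h7).symm

open scoped Classical in
theorem count_two_elements [Fintype G] :
    (Finset.univ.filter fun g : G => g ≠ 1 ∧ orderOf g ∣ 8).card = 63 := by
  have h3 : (Finset.univ.filter fun g : G => orderOf g = 3).card = 56 := by
    rw [← Fintype.card_subtype, ← Nat.card_eq_fintype_card, count_order_three h]
  have h7 : (Finset.univ.filter fun g : G => orderOf g = 7).card = 48 := by
    rw [← Fintype.card_subtype, ← Nat.card_eq_fintype_card, count_order_seven h]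
  have hsplit : (Finset.univ : Finset G) = {1} ∪ (Finset.univ.filter fun g : G => orderOf g = 3) ∪
      (Finset.univ.filter fun g : G => orderOf g = 7) ∪
      (Finset.univ.filter fun g : G => g ≠ 1 ∧ orderOf g ∣ 8) := by
    ext g
    simp only [Finset.mem_univ, true_iff, Finset.mem_union, Finset.mem_filter, Finset.mem_singleton, true_and]
    rcases order_cases h g with h' | h' | h'
    · exact Or.inl (Or.inl (Or.inr h'))
    · exact Or.inl (Or.inr h')
    · by_cases hg : g = 1
      · exact Or.inl (Or.inl (Or.inl hg))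
      · exact Or.inr ⟨hg, h'⟩
  have hc := congrArg Finset.card hsplit
  rw [Finset.card_union_of_disjoint, Finset.card_union_of_disjoint, Finset.card_union_of_disjoint,
    Finset.card_singleton, Finset.card_univ, ← Nat.card_eq_fintype_card, h, h3, h7] at hc
  · omega
  all_goals rw [Finset.disjoint_left]
  all_goals intro g hg hg'
  all_goals simp only [Finset.mem_union, Finset.mem_filter, Finset.mem_univ, true_and, Finset.mem_singleton] at hg hg'
  · subst hg; simp at hg'
  · rcases hg with hg | hg
    · subst hg; simp at hg'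
    · omega
  · rcases hg with (hg | hg) | hg
    · exact hg'.1 hg
    · rw [hg] at hg'; norm_num at hg'
    · rw [hg] at hg'; norm_num at hg'

theorem count_two : Nat.card (Sylow 2 G) = 21 := by
  classical
  haveI := Fintype.ofFinite G
  haveI := Fintype.ofFinite (Sylow 2 G)
  have hsub : (Finset.univ.filter fun g : G => g ≠ 1 ∧ orderOf g ∣ 8) ⊆
      (Finset.univ : Finset (Sylow 2 G)).biUnion fun T =>
        (Finset.univ.filter fun g : G => g ∈ (T : Subgroup G)).erase 1 := by
    intro g hg
    rw [Finset.mem_filter] at hg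
    obtain ⟨j, -, hj⟩ := (Nat.dvd_prime_pow Nat.prime_two).mp (show orderOf g ∣ 2 ^ 3 from hg.2.2)
    obtain ⟨T, hT⟩ := (IsPGroup.of_card (n := j) (G := zpowers g)
      (by rw [Nat.card_zpowers, hj])).exists_le_sylow
    exact Finset.mem_biUnion.mpr ⟨T, Finset.mem_univ _, Finset.mem_erase.mpr
      ⟨hg.2.1, Finset.mem_filter.mpr ⟨Finset.mem_univ _, hT (mem_zpowers g)⟩⟩⟩
  have hle := (Finset.card_le_card hsub).trans (Finset.card_biUnion_le_card_mul _ _ 7 fun T _ => by
    rw [Finset.card_erase_of_mem (Finset.mem_filter.mpr ⟨Finset.mem_univ _, one_mem _⟩),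
      ← Fintype.card_subtype, ← Nat.card_eq_fintype_card, card_two h])
  rw [count_two_elements h, Finset.card_univ, ← Nat.card_eq_fintype_card] at hle
  obtain ⟨T⟩ : Nonempty (Sylow 2 G) := Sylow.nonempty
  have h1 := (T : Subgroup G).card_mul_index
  rw [card_two h, h] at h1
  have h2 : Nat.card (Sylow 2 G) ∣ 21 :=
    (show (T : Subgroup G).index = 21 by omega) ▸ T.card_dvd_index
  have := Nat.le_of_dvd (by norm_num) h2
  interval_cases hn : Nat.card (Sylow 2 G) <;> omega

theorem normalizer_two (T : Sylow 2 G) : normalizer ((T : Subgroup G) : Set G) = T := by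
  refine (eq_of_le_of_card_ge le_normalizer ?_).symm
  have := card_sylow_mul T
  rw [count_two h, h] at this
  rw [card_two h]
  omega

theorem not_comm_two (T : Sylow 2 G) : ∃ u ∈ (T : Subgroup G), ∃ v ∈ (T : Subgroup G), u * v ≠ v * u := by
  by_contra hc
  push Not at hc
  refine not_le_centralizer T (by rw [card_two h]; norm_num) (by rw [card_two h, h]; norm_num) ?_
  rw [normalizer_two h]
  exact fun x hx => mem_centralizer_iff.mpr fun y hy => hc y hy x hx

theorem centralizer_central (T : Sylow 2 G) {z : G} (hz : z ∈ (T : Subgroup G)) (hz1 : z ≠ 1)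
    (hzc : ∀ t ∈ (T : Subgroup G), t * z = z * t) : centralizer ({z} : Set G) = T := by
  have hle : (T : Subgroup G) ≤ centralizer ({z} : Set G) := fun t ht =>
    mem_centralizer_singleton_iff.mpr (hzc t ht)
  refine (eq_of_le_of_card_ge hle ?_).symm
  rw [card_two h]
  have hno : ∀ p : ℕ, p.Prime → ¬ p ∣ 8 → (∀ c : G, orderOf c = p → centralizer ({c} : Set G) = zpowers c) →
      ¬ p ∣ Nat.card (centralizer ({z} : Set G)) := by
    intro p hp hp8 hC hd
    haveI := Fact.mk hp
    obtain ⟨⟨y, hy⟩, hyo⟩ := exists_prime_orderOf_dvd_card' p hd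
    rw [Subgroup.orderOf_mk] at hyo
    have hzy : z ∈ centralizer ({y} : Set G) :=
      mem_centralizer_singleton_iff.mpr (mem_centralizer_singleton_iff.mp hy).symm
    rw [hC y hyo] at hzy
    have h1 := dvd_card_of_mem hzy
    rw [Nat.card_zpowers, hyo] at h1
    have h2 := dvd_card_of_mem hz
    rw [card_two h] at h2
    rcases (Nat.dvd_prime hp).mp h1 with h3 | h3
    · exact hz1 (orderOf_eq_one_iff.mp h3)
    · exact hp8 (h3 ▸ h2)
  have hd : Nat.card (centralizer ({z} : Set G)) ∣ 8 * 21 :=
    (card_subgroup_dvd_card (centralizer ({z} : Set G))).trans (show Nat.card G = 8 * 21 from h).dvd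
  refine Nat.le_of_dvd (by norm_num) (Nat.Coprime.dvd_of_dvd_mul_right ?_ hd)
  rw [show 21 = 3 * 7 from rfl]
  exact Nat.Coprime.mul_right
    ((Nat.Prime.coprime_iff_not_dvd (by norm_num)).mpr
      (hno 3 (by norm_num) (by norm_num) fun c hc => centralizer_three h hc)).symm
    ((Nat.Prime.coprime_iff_not_dvd (by norm_num)).mpr
      (hno 7 (by norm_num) (by norm_num) fun c hc => centralizer_seven h hc)).symm

theorem exists_four (T : Sylow 2 G) : ∃ x ∈ (T : Subgroup G), orderOf x = 4 := by
  obtain ⟨u, hu, v, hv, huv⟩ := not_comm_two h T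
  obtain ⟨a, ha, ha2⟩ : ∃ a ∈ (T : Subgroup G), a * a ≠ 1 := by
    by_contra hall
    push Not at hall
    apply huv
    have h1 := inv_eq_of_mul_eq_one_right (hall _ (mul_mem hu hv))
    rwa [mul_inv_rev, inv_eq_of_mul_eq_one_right (hall u hu),
      inv_eq_of_mul_eq_one_right (hall v hv), eq_comm] at h1
  have hdvd := dvd_card_of_mem ha
  rw [card_two h] at hdvd
  obtain ⟨j, hj, hja⟩ := (Nat.dvd_prime_pow Nat.prime_two).mp (show orderOf a ∣ 2 ^ 3 from hdvd)
  interval_cases j
  · exact absurd (by rw [orderOf_eq_one_iff.mp hja, mul_one]) ha2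
  · exact absurd (by rw [← sq]; exact orderOf_dvd_iff_pow_eq_one.mp hja.dvd) ha2
  · exact ⟨a, ha, hja⟩
  · exfalso
    have heq : zpowers a = (T : Subgroup G) := eq_of_le_of_card_ge (zpowers_le.mpr ha)
      (by rw [Nat.card_zpowers, hja, card_two h]; norm_num)
    rw [← heq] at hu hv
    obtain ⟨i, rfl⟩ := hu
    obtain ⟨k, rfl⟩ := hv
    exact huv ((Commute.refl a).zpow_zpow i k).eq

theorem index_four (T : Sylow 2 G) {x : G} (hx : x ∈ (T : Subgroup G)) (hx4 : orderOf x = 4) :
    ((zpowers x).subgroupOf (T : Subgroup G)).index = 2 := by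
  have h' := ((zpowers x).subgroupOf (T : Subgroup G)).card_mul_index
  rw [Nat.card_congr (subgroupOfEquivOfLe (zpowers_le.mpr hx)).toEquiv, Nat.card_zpowers, hx4,
    card_two h] at h'
  omega

theorem conj_mem_four (T : Sylow 2 G) {x y : G} (hx : x ∈ (T : Subgroup G)) (hx4 : orderOf x = 4)
    (hy : y ∈ (T : Subgroup G)) : y * x * y⁻¹ ∈ zpowers x :=
  (normal_of_index_eq_two (index_four h T hx hx4)).conj_mem ⟨x, hx⟩ (mem_zpowers x) ⟨y, hy⟩

theorem centralizer_sq (T : Sylow 2 G) {x : G} (hx : x ∈ (T : Subgroup G)) (hx4 : orderOf x = 4) :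
    centralizer ({x * x} : Set G) = T := by
  refine centralizer_central h T (mul_mem hx hx) (fun e => ?_) fun t ht => ?_
  · have := orderOf_dvd_of_pow_eq_one (show x ^ 2 = 1 by rw [sq, e])
    rw [hx4] at this
    norm_num at this
  · have := conj_four_sq hx4 (conj_mem_four h T hx hx4 ht)
    rwa [mul_inv_eq_iff_eq_mul] at this

theorem centralizer_four {x : G} (hx4 : orderOf x = 4) : centralizer ({x} : Set G) = zpowers x := by
  obtain ⟨T, hT⟩ := (IsPGroup.of_card (n := 2) (G := zpowers x)
    (by rw [Nat.card_zpowers, hx4]; rfl)).exists_le_sylow (p := 2)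
  have hxT : x ∈ (T : Subgroup G) := hT (mem_zpowers x)
  have hle : centralizer ({x} : Set G) ≤ T := by
    rw [← centralizer_sq h T hxT hx4]
    intro y hy
    have hy' : Commute y x := mem_centralizer_singleton_iff.mp hy
    exact mem_centralizer_singleton_iff.mpr (hy'.mul_right hy').eq
  have hz : zpowers x ≤ centralizer ({x} : Set G) := zpowers_le.mpr (mem_centralizer_singleton_iff.mpr rfl)
  obtain ⟨u, hu, v, hv, huv⟩ := not_comm_two h T
  by_contra hne
  have hd := card_dvd_of_le hle
  obtain ⟨k, hk⟩ := card_dvd_of_le hz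
  rw [Nat.card_zpowers, hx4] at hk
  rw [hk, card_two h] at hd
  have hk2 : k ∣ 2 := Nat.dvd_of_mul_dvd_mul_left (show 0 < 4 by norm_num) (show 4 * k ∣ 4 * 2 from hd)
  rcases (Nat.dvd_prime Nat.prime_two).mp hk2 with rfl | rfl
  · exact hne (eq_of_le_of_card_ge hz (by rw [hk, Nat.card_zpowers, hx4])).symm
  have heq : centralizer ({x} : Set G) = T := eq_of_le_of_card_ge hle (by rw [hk, card_two h])
  have hcen : ∀ w ∈ zpowers x, ∀ t ∈ (T : Subgroup G), t * w = w * t := fun w hw t ht => by
    obtain ⟨i, rfl⟩ := mem_zpowers_iff.mp hw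
    exact (Commute.zpow_right (mem_centralizer_singleton_iff.mp (heq ▸ ht)) i).eq
  have hun : u ∉ zpowers x := fun hh => huv (hcen u hh v hv).symm
  have hvn : v ∉ zpowers x := fun hh => huv (hcen v hh u hu)
  have hprod : u * v ∈ zpowers x :=
    (mul_mem_iff_of_index_two (index_four h T hxT hx4) (a := ⟨u, hu⟩) (b := ⟨v, hv⟩)).mpr
      (iff_of_false hun hvn)
  apply huv
  apply mul_left_cancel (a := u)
  rw [hcen _ hprod u hu, mul_assoc]

theorem exists_sylow_four {x : G} (hx4 : orderOf x = 4) :
    ∃ T : Sylow 2 G, x ∈ (T : Subgroup G) ∧ centralizer ({x * x} : Set G) = T := by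
  obtain ⟨T, hT⟩ := (IsPGroup.of_card (n := 2) (G := zpowers x)
    (by rw [Nat.card_zpowers, hx4]; rfl)).exists_le_sylow (p := 2)
  exact ⟨T, hT (mem_zpowers x), centralizer_sq h T (hT (mem_zpowers x)) hx4⟩

/-- An element of order four and its square account for all non-trivial 2-elements. -/
theorem two_class {x : G} (hx4 : orderOf x = 4) {g : G} (hg1 : g ≠ 1) (hg : orderOf g ∣ 8) :
    IsConj x g ∨ IsConj (x * x) g := by
  classical
  haveI := Fintype.ofFinite G
  obtain ⟨T, -, hC⟩ := exists_sylow_four h hx4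
  have hzo : orderOf (x * x) = 2 := by rw [← sq, orderOf_pow, hx4]; norm_num
  have hcl : ∀ y : G, ∀ n m : ℕ, Nat.card (centralizer ({y} : Set G)) = n → n * m = 168 → n ≠ 0 →
      (Finset.univ.filter fun w : G => IsConj y w).card = m := by
    intro y n m hn hnm hn0
    have := CfsgLib.Char.card_conj_class_mul_card_centralizer y
    rw [h, hn] at this
    rw [← Fintype.card_subtype, ← Nat.card_eq_fintype_card]
    exact Nat.eq_of_mul_eq_mul_left (Nat.pos_of_ne_zero hn0)
      ((mul_comm n _).trans (this.trans hnm.symm))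
  have h1 := hcl x 4 42 (by rw [centralizer_four h hx4, Nat.card_zpowers, hx4]) (by norm_num) (by norm_num)
  have h2 := hcl (x * x) 8 21 (by rw [hC, card_two h]) (by norm_num) (by norm_num)
  have hsub : (Finset.univ.filter fun w : G => IsConj x w) ∪ (Finset.univ.filter fun w : G => IsConj (x * x) w) =
      Finset.univ.filter fun w : G => w ≠ 1 ∧ orderOf w ∣ 8 := by
    refine Finset.eq_of_subset_of_card_le (fun w hw => ?_) ?_
    · simp only [Finset.mem_union, Finset.mem_filter, Finset.mem_univ, true_and] at hw ⊢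
      have ho : orderOf w = 4 ∨ orderOf w = 2 := by
        rcases hw with hw | hw <;> obtain ⟨c, rfl⟩ := isConj_iff.mp hw <;>
          rw [← MulAut.conj_apply, MulEquiv.orderOf_eq]
        exacts [Or.inl hx4, Or.inr hzo]
      refine ⟨fun e => ?_, ?_⟩
      · rw [e, orderOf_one] at ho; omega
      · rcases ho with e | e <;> rw [e] <;> norm_num
    · rw [Finset.card_union_of_disjoint, h1, h2, count_two_elements h]
      rw [Finset.disjoint_left]
      intro w hw hw'
      simp only [Finset.mem_filter, Finset.mem_univ, true_and] at hw hw'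
      obtain ⟨c, hc⟩ := isConj_iff.mp (hw.trans hw'.symm)
      have := congrArg orderOf hc
      rw [← MulAut.conj_apply, MulEquiv.orderOf_eq, hx4, hzo] at this
      omega
  have := hsub.ge (Finset.mem_filter.mpr ⟨Finset.mem_univ g, hg1, hg⟩)
  simpa using this

theorem exists_four_elt : ∃ x : G, orderOf x = 4 := by
  obtain ⟨T⟩ : Nonempty (Sylow 2 G) := Sylow.nonempty
  obtain ⟨x, -, hx⟩ := exists_four h T
  exact ⟨x, hx⟩

theorem element_orders (g : G) :
    orderOf g = 1 ∨ orderOf g = 2 ∨ orderOf g = 3 ∨ orderOf g = 4 ∨ orderOf g = 7 := by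
  rcases order_cases h g with e | e | e
  · omega
  · omega
  by_cases hg : g = 1
  · exact Or.inl (orderOf_eq_one_iff.mpr hg)
  obtain ⟨x, hx⟩ := exists_four_elt h
  rcases two_class h hx hg e with hc | hc <;> obtain ⟨c, rfl⟩ := isConj_iff.mp hc <;>
    rw [← MulAut.conj_apply, MulEquiv.orderOf_eq]
  · omega
  · rw [← sq, orderOf_pow, hx]; norm_num

theorem isConj_of_four {s t : G} (hs : orderOf s = 4) (ht : orderOf t = 4) : IsConj s t := by
  refine (two_class h hs (fun e => ?_) (by rw [ht]; norm_num)).resolve_right fun hc => ?_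
  · rw [e, orderOf_one] at ht; omega
  · obtain ⟨c, rfl⟩ := isConj_iff.mp hc
    rw [← MulAut.conj_apply, MulEquiv.orderOf_eq, ← sq, orderOf_pow, hs] at ht
    norm_num at ht

theorem isConj_sq {x t : G} (hx : orderOf x = 4) (ht : orderOf t = 2) : IsConj (x * x) t := by
  refine (two_class h hx (fun e => ?_) (by rw [ht]; norm_num)).resolve_left fun hc => ?_
  · rw [e, orderOf_one] at ht; omega
  · obtain ⟨c, rfl⟩ := isConj_iff.mp hc
    rw [← MulAut.conj_apply, MulEquiv.orderOf_eq, hx] at ht
    omega

theorem isConj_of_two {s t : G} (hs : orderOf s = 2) (ht : orderOf t = 2) : IsConj s t := by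
  obtain ⟨x, hx⟩ := exists_four_elt h
  exact (isConj_sq h hx hs).symm.trans (isConj_sq h hx ht)

theorem card_class {y : G} {n m : ℕ} (hn : Nat.card (centralizer ({y} : Set G)) = n) (hnm : n * m = 168)
    (hn0 : n ≠ 0) : Nat.card {g : G // IsConj y g} = m := by
  have := CfsgLib.Char.card_conj_class_mul_card_centralizer y
  rw [h, hn] at this
  exact Nat.eq_of_mul_eq_mul_left (Nat.pos_of_ne_zero hn0) ((mul_comm n _).trans (this.trans hnm.symm))

theorem count_order_four : Nat.card {g : G // orderOf g = 4} = 42 := by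
  obtain ⟨x, hx⟩ := exists_four_elt h
  rw [← card_class h (y := x) (m := 42) (by rw [centralizer_four h hx, Nat.card_zpowers, hx]) (by norm_num)
    (by norm_num)]
  refine Nat.card_congr (Equiv.subtypeEquivRight fun g => ⟨fun e => isConj_of_four h hx e, fun hc => ?_⟩)
  obtain ⟨c, rfl⟩ := isConj_iff.mp hc
  rw [← MulAut.conj_apply, MulEquiv.orderOf_eq, hx]

theorem exists_sylow_centralizer {u : G} (hu : orderOf u = 2) :
    ∃ T : Sylow 2 G, centralizer ({u} : Set G) = T := by
  obtain ⟨x, hx⟩ := exists_four_elt h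
  obtain ⟨c, rfl⟩ := isConj_iff.mp (isConj_sq h hx hu)
  obtain ⟨T, -, hT⟩ := exists_sylow_four h hx
  refine ⟨c • T, ?_⟩
  rw [Sylow.coe_subgroup_smul, ← hT]
  ext y
  rw [mem_pointwise_smul_iff_inv_smul_mem, mem_centralizer_singleton_iff, mem_centralizer_singleton_iff]
  simp only [← map_inv, MulAut.smul_def, MulAut.conj_apply, inv_inv]
  constructor
  · intro hy
    calc c⁻¹ * y * c * (x * x) = c⁻¹ * (y * (c * (x * x) * c⁻¹)) * c := by group
      _ = x * x * (c⁻¹ * y * c) := by rw [hy]; group
  · intro hy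
    calc y * (c * (x * x) * c⁻¹) = c * (c⁻¹ * y * c * (x * x)) * c⁻¹ := by group
      _ = c * (x * x) * c⁻¹ * y := by rw [hy]; group

theorem count_order_two : Nat.card {g : G // orderOf g = 2} = 21 := by
  obtain ⟨x, hx⟩ := exists_four_elt h
  obtain ⟨T, -, hT⟩ := exists_sylow_four h hx
  rw [← card_class h (y := x * x) (m := 21) (by rw [hT, card_two h]) (by norm_num) (by norm_num)]
  refine Nat.card_congr (Equiv.subtypeEquivRight fun g => ⟨fun e => isConj_sq h hx e, fun hc => ?_⟩)
  obtain ⟨c, rfl⟩ := isConj_iff.mp hc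
  rw [← MulAut.conj_apply, MulEquiv.orderOf_eq, ← sq, orderOf_pow, hx]
  norm_num

/-- An involution is determined by its centraliser. -/
theorem central_unique {z z' : G} (hz : orderOf z = 2) (hz' : orderOf z' = 2)
    (hC : centralizer ({z} : Set G) = centralizer ({z'} : Set G)) : z = z' := by
  obtain ⟨c, rfl⟩ := isConj_iff.mp (isConj_of_two h hz hz')
  obtain ⟨T, hT⟩ := exists_sylow_centralizer h hz
  have hc : c ∈ normalizer ((T : Subgroup G) : Set G) := by
    rw [mem_normalizer_iff]
    intro y
    conv_rhs => rw [← hT, hC]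
    rw [← hT, mem_centralizer_singleton_iff, mem_centralizer_singleton_iff]
    constructor
    · intro hy
      calc c * y * c⁻¹ * (c * z * c⁻¹) = c * (y * z) * c⁻¹ := by group
        _ = c * z * c⁻¹ * (c * y * c⁻¹) := by rw [hy]; group
    · intro hy
      calc y * z = c⁻¹ * (c * y * c⁻¹ * (c * z * c⁻¹)) * c := by group
        _ = z * y := by rw [hy]; group
  rw [normalizer_two h, ← hT, mem_centralizer_singleton_iff] at hc
  rw [hc, mul_inv_cancel_right]

theorem exists_conj_mem (T : Sylow 2 G) : ∃ a b : G, a ∈ (T : Subgroup G) ∧ b ∈ (T : Subgroup G) ∧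
    orderOf a = 4 ∧ b ∉ zpowers a ∧ b * b = 1 ∧ b * a * b⁻¹ = a⁻¹ := by
  obtain ⟨a, ha, ha4⟩ := exists_four h T
  obtain ⟨b, hb, hbn⟩ : ∃ b ∈ (T : Subgroup G), b ∉ zpowers a := by
    by_contra hall
    push Not at hall
    have := Nat.le_of_dvd Nat.card_pos (card_dvd_of_le (H := (T : Subgroup G)) (K := zpowers a) hall)
    rw [card_two h, Nat.card_zpowers, ha4] at this
    omega
  refine ⟨a, b, ha, hb, ha4, hbn, ?_, ?_⟩
  · by_contra hb2
    have hb4 : orderOf b = 4 := by
      rcases element_orders h b with e | e | e | e | e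
      · rw [orderOf_eq_one_iff] at e; exact absurd (e ▸ one_mem _) hbn
      · exact absurd (by rw [← sq]; exact orderOf_dvd_iff_pow_eq_one.mp e.dvd) hb2
      · have := dvd_card_of_mem hb; rw [e, card_two h] at this; norm_num at this
      · exact e
      · have := dvd_card_of_mem hb; rw [e, card_two h] at this; norm_num at this
    obtain ⟨g, hg⟩ := isConj_iff.mp (isConj_of_four h ha4 hb4)
    have ho : ∀ y : G, orderOf y = 4 → orderOf (y * y) = 2 := fun y hy => by
      rw [← sq, orderOf_pow, hy]; norm_num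
    have he := central_unique h (ho a ha4) (ho b hb4)
      ((centralizer_sq h T ha ha4).trans (centralizer_sq h T hb hb4).symm)
    have hgT : g ∈ (T : Subgroup G) := by
      rw [← centralizer_sq h T ha ha4, mem_centralizer_singleton_iff]
      calc g * (a * a) = g * a * g⁻¹ * (g * a * g⁻¹) * g := by group
        _ = b * b * g := by rw [hg]
        _ = a * a * g := by rw [he]
    exact hbn (hg ▸ conj_mem_four h T ha ha4 hgT)
  · refine (conj_four ha4 (conj_mem_four h T ha ha4 hb)).resolve_left fun e => hbn ?_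
    rw [← centralizer_four h ha4, mem_centralizer_singleton_iff]
    exact mul_inv_eq_iff_eq_mul.mp e

theorem nonempty_dihedral (T : Sylow 2 G) : Nonempty (↥(T : Subgroup G) ≃* DihedralGroup 4) := by
  obtain ⟨a, b, ha, hb, ha4, hbn, hb2, hba⟩ := exists_conj_mem h T
  let A : ↥(T : Subgroup G) := ⟨a, ha⟩
  let B : ↥(T : Subgroup G) := ⟨b, hb⟩
  have hA4 : orderOf A = 4 := by rw [← ha4]; exact (Subgroup.orderOf_coe A).symm
  let pw : ZMod 4 → ↥(T : Subgroup G) := fun i => A ^ i.val
  have hadd : ∀ i j, pw (i + j) = pw i * pw j := fun i j => by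
    simp only [pw]
    rw [← pow_add, pow_eq_pow_iff_modEq, hA4, ZMod.val_add]
    exact Nat.mod_modEq _ _
  have hB : B * B = 1 := Subtype.ext hb2
  have hBA : B * A = A⁻¹ * B := Subtype.ext (mul_inv_eq_iff_eq_mul.mp hba)
  have hcomm : ∀ i, pw i * B = B * pw (-i) := by
    intro i
    have h0 : pw (-i) = (pw i)⁻¹ := by
      rw [eq_inv_iff_mul_eq_one, ← hadd, neg_add_cancel]
      simp [pw]
    rw [h0]
    simp only [pw, ← inv_pow]
    generalize i.val = k
    induction k with
    | zero => simp
    | succ k ih => rw [pow_succ', mul_assoc, ih, ← mul_assoc, pow_succ' A⁻¹, ← mul_assoc B]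
                   congr 1
                   calc A * B = B * B * A * B := by rw [hB, one_mul]
                     _ = B * (B * A) * B := by group
                     _ = B * A⁻¹ := by rw [hBA, mul_assoc, mul_assoc A⁻¹, hB, mul_one]
  let f : DihedralGroup 4 → ↥(T : Subgroup G) := fun
    | .r i => pw i
    | .sr i => B * pw i
  have hf : ∀ x y, f (x * y) = f x * f y := by
    rintro (i | i) (j | j)
    · exact hadd i j
    · show B * pw (j - i) = pw i * (B * pw j)
      rw [← mul_assoc, hcomm, mul_assoc, ← hadd]; ring_nf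
    · show B * pw (i + j) = B * pw i * pw j
      rw [mul_assoc, ← hadd]
    · show pw (j - i) = B * pw i * (B * pw j)
      rw [mul_assoc B, ← mul_assoc (pw i), hcomm, mul_assoc, ← hadd, ← mul_assoc, hB, one_mul]; ring_nf
  let φ : DihedralGroup 4 →* ↥(T : Subgroup G) := MonoidHom.mk' f hf
  have hinj : Function.Injective φ := by
    refine (injective_iff_map_eq_one φ).mpr fun x hx => ?_
    rcases x with i | i
    · have hi : A ^ i.val = 1 := hx
      rw [← orderOf_dvd_iff_pow_eq_one, hA4] at hi
      have hlt := i.val_lt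
      rw [show i = 0 from ZMod.val_injective 4 (by rw [ZMod.val_zero]; omega)]
      rfl
    · exfalso
      have hi : B * A ^ i.val = 1 := hx
      refine hbn ?_
      have : b = (a ^ i.val)⁻¹ := eq_inv_of_mul_eq_one_left (congrArg Subtype.val hi)
      rw [this]
      exact inv_mem (pow_mem (mem_zpowers a) _)
  exact ⟨(MulEquiv.ofBijective φ ((Nat.bijective_iff_injective_and_card φ).mpr
    ⟨hinj, by rw [DihedralGroup.nat_card, card_two h]⟩)).symm⟩

/-! ### Four-groups -/

omit h in
theorem klein_mem_order {U : Subgroup G} [IsKleinFour ↥U] {x : G} (hx : x ∈ U) (hx1 : x ≠ 1) :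
    orderOf x = 2 := orderOf_eq_prime (by rw [sq]; exact klein_sq hx) hx1

theorem exists_invol_pair {U : Subgroup G} [IsKleinFour ↥U] :
    ∃ u v : G, u ∈ U ∧ v ∈ U ∧ u ≠ v ∧ orderOf u = 2 ∧ orderOf v = 2 := by
  classical
  haveI := Fintype.ofFinite G
  have hc : (Finset.univ.filter fun g : G => g ∈ U).card = 4 := by
    rw [← Fintype.card_subtype, ← Nat.card_eq_fintype_card]; exact IsKleinFour.card_four
  obtain ⟨u, hu, v, hv, huv⟩ := Finset.one_lt_card.mp
    (show 1 < ((Finset.univ.filter fun g : G => g ∈ U).erase 1).card by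
      rw [Finset.card_erase_of_mem (Finset.mem_filter.mpr ⟨Finset.mem_univ _, one_mem U⟩), hc]; norm_num)
  simp only [Finset.mem_erase, Finset.mem_filter, Finset.mem_univ, true_and] at hu hv
  exact ⟨u, v, hu.2, hv.2, huv, klein_mem_order hu.2 hu.1, klein_mem_order hv.2 hv.1⟩

omit h in
theorem klein_le_centralizer {U : Subgroup G} [IsKleinFour ↥U] {u : G} (hu : u ∈ U) :
    U ≤ centralizer ({u} : Set G) := fun x hx =>
  mem_centralizer_singleton_iff.mpr (congrArg Subtype.val
    ((IsKleinFour.isMulCommutative (G := U)).is_comm.comm ⟨x, hx⟩ ⟨u, hu⟩))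

theorem klein_self_centralizing {U : Subgroup G} [IsKleinFour ↥U] :
    ∀ y : G, (∀ u ∈ U, y ∈ centralizer ({u} : Set G)) → y ∈ U := by
  obtain ⟨u, v, hu, hv, huv, hu2, hv2⟩ := exists_invol_pair h (U := U)
  obtain ⟨T, hT⟩ := exists_sylow_centralizer h hu2
  obtain ⟨T', hT'⟩ := exists_sylow_centralizer h hv2
  set I := centralizer ({u} : Set G) ⊓ centralizer ({v} : Set G) with hI
  have hUI : U ≤ I := le_inf (klein_le_centralizer hu) (klein_le_centralizer hv)
  have hd1 : Nat.card I ∣ 8 := card_two h T ▸ card_dvd_of_le (hI ▸ hT ▸ inf_le_left)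
  have hd2 : 4 ∣ Nat.card I := IsKleinFour.card_four (G := U) ▸ card_dvd_of_le hUI
  have h4 : Nat.card I = 4 := by
    by_contra hne
    have hI8 : Nat.card I = 8 := by
      have := Nat.le_of_dvd (by norm_num) hd1
      interval_cases Nat.card I <;> omega
    have e1 := eq_of_le_of_card_ge (H := I) (K := centralizer ({u} : Set G)) inf_le_left
      (by rw [hI8, hT, card_two h])
    have e2 := eq_of_le_of_card_ge (H := I) (K := centralizer ({v} : Set G)) inf_le_right
      (by rw [hI8, hT', card_two h])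
    exact huv (central_unique h hu2 hv2 (e1.symm.trans e2))
  have heq := eq_of_le_of_card_ge hUI (by rw [h4, IsKleinFour.card_four])
  intro y hy
  rw [heq]
  exact ⟨hy u hu, hy v hv⟩

theorem sylow_le_normalizer (T : Sylow 2 G) {U : Subgroup G} (hU : Nat.card U = 4) (hle : U ≤ (T : Subgroup G)) :
    (T : Subgroup G) ≤ normalizer (U : Set G) := by
  refine le_normalizer_of_normal hle (normal_of_index_eq_two ?_)
  have h' := (U.subgroupOf (T : Subgroup G)).card_mul_index
  rw [Nat.card_congr (subgroupOfEquivOfLe hle).toEquiv, hU, card_two h] at h'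
  omega

theorem centralizer_le_normalizer {U : Subgroup G} [IsKleinFour ↥U] {u : G} (hu : u ∈ U) (hu2 : orderOf u = 2) :
    centralizer ({u} : Set G) ≤ normalizer (U : Set G) := by
  obtain ⟨T, hT⟩ := exists_sylow_centralizer h hu2
  rw [hT]
  exact sylow_le_normalizer h T IsKleinFour.card_four (hT ▸ klein_le_centralizer hu)

theorem normalizer_klein_ne_top {U : Subgroup G} [IsKleinFour ↥U] : normalizer (U : Set G) ≠ ⊤ := by
  intro htop
  haveI : U.Normal := normalizer_eq_top_iff.mp htop
  have h4 : Nat.card U = 4 := IsKleinFour.card_four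
  rcases IsSimpleGroup.eq_bot_or_eq_top_of_normal U inferInstance with e | e <;> rw [e] at h4
  · rw [card_bot] at h4; omega
  · rw [card_top, h] at h4; omega

theorem card_normalizer_klein {U : Subgroup G} [IsKleinFour ↥U] : Nat.card (normalizer (U : Set G)) = 24 := by
  obtain ⟨u, v, hu, hv, huv, hu2, hv2⟩ := exists_invol_pair h (U := U)
  obtain ⟨T, hT⟩ := exists_sylow_centralizer h hu2
  have hle := centralizer_le_normalizer h hu hu2
  have hd : 8 ∣ Nat.card (normalizer (U : Set G)) := card_two h T ▸ hT ▸ card_dvd_of_le hle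
  have hmax := card_le h _ (normalizer_klein_ne_top h (U := U))
  have hne : Nat.card (normalizer (U : Set G)) ≠ 8 := by
    intro h8
    have e1 := eq_of_le_of_card_ge hle (by rw [h8, hT, card_two h])
    obtain ⟨T', hT'⟩ := exists_sylow_centralizer h hv2
    have e2 := eq_of_le_of_card_ge (centralizer_le_normalizer h hv hv2) (by rw [h8, hT', card_two h])
    exact huv (central_unique h hu2 hv2 (e1.trans e2.symm))
  have hdd : Nat.card (normalizer (U : Set G)) ∣ 168 := h ▸ card_subgroup_dvd_card (normalizer (U : Set G))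
  have := Nat.card_pos (α := normalizer (U : Set G))
  interval_cases hh : Nat.card (normalizer (U : Set G)) <;> omega

theorem klein_unique {U V : Subgroup G} [IsKleinFour ↥U] [IsKleinFour ↥V]
    (hN : normalizer (U : Set G) = normalizer (V : Set G)) : U = V := by
  refine (eq_of_le_of_card_ge (fun y hy => klein_self_centralizing h (U := U) y fun u hu => ?_)
    (by rw [IsKleinFour.card_four, IsKleinFour.card_four])).symm
  by_cases hu1 : u = 1
  · subst hu1; exact mem_centralizer_singleton_iff.mpr (by simp)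
  obtain ⟨T, hT⟩ := exists_sylow_centralizer h (klein_mem_order hu hu1)
  have hle : (T : Subgroup G) ≤ normalizer (V : Set G) :=
    hT ▸ hN ▸ centralizer_le_normalizer h hu (klein_mem_order hu hu1)
  rw [hT]
  have hV : IsPGroup 2 V := IsPGroup.of_card (n := 2) IsKleinFour.card_four
  exact (T.3 (T.2.to_sup_of_normal_right' hV hle) le_sup_left).le (mem_sup_right hy)

/-! ### Subgroups of order twenty-four and twelve -/

theorem card_sylow_three_sub {M : Subgroup G} {m : ℕ} (hM : Nat.card M = 3 * m) (hm : ¬ 3 ∣ m) (hm2 : 2 < m)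
    (hm8 : m ∣ 8) : Nat.card (Sylow 3 M) = 4 := by
  obtain ⟨S⟩ : Nonempty (Sylow 3 M) := Sylow.nonempty
  have hS : Nat.card (S : Subgroup M) = 3 := by
    rw [card_sylow_eq S (k := 1) (m := m) (by rw [hM]; ring) hm]; norm_num
  have h1 := (S : Subgroup M).card_mul_index
  rw [hS, hM] at h1
  have hd : Nat.card (Sylow 3 M) ∣ 8 :=
    ((show (S : Subgroup M).index = m by omega) ▸ S.card_dvd_index).trans hm8
  have hmod : Nat.card (Sylow 3 M) % 3 = 1 := card_sylow_modEq_one 3 M
  have hne : Nat.card (Sylow 3 M) ≠ 1 := by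
    intro h1'
    haveI : Subsingleton (Sylow 3 M) := (Nat.card_eq_one_iff_unique.mp h1').1
    haveI : (S : Subgroup M).Normal := Sylow.normal_of_subsingleton S
    set Q := (S : Subgroup M).map M.subtype with hQ
    have hQc : Nat.card Q = 3 := by rw [hQ, card_map_of_injective M.subtype_injective, hS]
    obtain ⟨R, hR⟩ := (IsPGroup.of_card (n := 1) (G := Q) (by rw [hQc]; norm_num)).exists_le_sylow (p := 3)
    have hQR : Q = (R : Subgroup G) := eq_of_le_of_card_ge hR (by rw [hQc, card_three h])
    have hle : M ≤ normalizer (Q : Set G) := by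
      refine le_normalizer_of_normal (map_subtype_le _) ?_
      rw [show Q.subgroupOf M = (S : Subgroup M) from comap_map_eq_self_of_injective M.subtype_injective _]
      infer_instance
    have h6 := card_dvd_of_le hle
    rw [hQR, card_normalizer_three h, hM] at h6
    have := Nat.le_of_dvd (by norm_num) h6
    omega
  have := Nat.le_of_dvd (by norm_num) hd
  interval_cases hn : Nat.card (Sylow 3 M) <;> omega

theorem nonempty_symmetric {M : Subgroup G} (hM : Nat.card M = 24) : Nonempty (↥M ≃* Equiv.Perm (Fin 4)) := by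
  have h4 := card_sylow_three_sub h (M := M) (m := 8) hM (by norm_num) (by norm_num) dvd_rfl
  let e : Sylow 3 M ≃ Fin 4 := Finite.equivFinOfCardEq h4
  let f : M →* Equiv.Perm (Fin 4) := e.permCongrHom.toMonoidHom.comp (MulAction.toPermHom M (Sylow 3 M))
  have hsyl : ∀ R : Sylow 3 M, Nat.card (R : Subgroup M) = 3 := fun R => by
    rw [card_sylow_eq R (k := 1) (m := 8) (by rw [hM]; norm_num) (by norm_num)]; norm_num
  set K := (MulAction.toPermHom M (Sylow 3 M)).ker with hK
  have hfix : ∀ y ∈ K, ∀ R : Sylow 3 M, y • R = R := fun y hy R =>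
    congrArg (fun σ : Equiv.Perm (Sylow 3 M) => σ R) (MonoidHom.mem_ker.mp hy)
  have hK3 : ¬ 3 ∣ Nat.card K := by
    intro hd
    obtain ⟨⟨y, hy⟩, hyo⟩ := exists_prime_orderOf_dvd_card' 3 hd
    rw [Subgroup.orderOf_mk] at hyo
    have hall : ∀ R : Sylow 3 M, (R : Subgroup M) = zpowers y := fun R =>
      (eq_of_le_of_card_ge (zpowers_le.mpr (mem_sylow_of_smul_eq (n := 1) (by rw [pow_one, ← hyo, pow_orderOf_eq_one])
        R (hfix y hy R))) (by rw [hsyl, Nat.card_zpowers, hyo])).symm
    haveI : Subsingleton (Sylow 3 M) := ⟨fun a b => Sylow.ext ((hall a).trans (hall b).symm)⟩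
    obtain ⟨R⟩ : Nonempty (Sylow 3 M) := Sylow.nonempty
    rw [Nat.card_of_subsingleton R] at h4
    omega
  have hK6 : Nat.card K ∣ 6 := by
    obtain ⟨R⟩ : Nonempty (Sylow 3 M) := Sylow.nonempty
    have hN := card_sylow_mul R
    rw [h4, hM] at hN
    rw [show 6 = Nat.card (normalizer ((R : Subgroup M) : Set M)) by omega]
    exact card_dvd_of_le fun y hy => Sylow.smul_eq_iff_mem_normalizer.mp (hfix y hy R)
  have hK1 : K = ⊥ := by
    refine eq_bot_of_card_eq _ ?_
    have := Nat.le_of_dvd (by norm_num) hK6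
    have := Nat.card_pos (α := K)
    interval_cases hk : Nat.card K <;> try omega
    exfalso
    obtain ⟨⟨y, hy⟩, hyo⟩ := exists_prime_orderOf_dvd_card' (G := K) 2 (by rw [hk])
    rw [Subgroup.orderOf_mk] at hyo
    have hzp : zpowers y = K := eq_of_le_of_card_ge (zpowers_le.mpr hy) (by rw [hk, Nat.card_zpowers, hyo])
    have hle : M ≤ centralizer ({(y : G)} : Set G) := by
      intro m hm
      have hc : (⟨m, hm⟩ : M) * y * (⟨m, hm⟩ : M)⁻¹ ∈ K := (MonoidHom.normal_ker _).conj_mem y hy _
      classical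
      rw [← hzp, mem_zpowers_iff_mem_range_orderOf, hyo] at hc
      obtain ⟨k, hk', hke⟩ := Finset.mem_image.mp hc
      rw [Finset.mem_range] at hk'
      interval_cases k
      · rw [pow_zero, eq_comm, conj_eq_one_iff] at hke
        rw [hke, orderOf_one] at hyo; omega
      · rw [pow_one] at hke
        exact mem_centralizer_singleton_iff.mpr
          (mul_inv_eq_iff_eq_mul.mp (congrArg Subtype.val hke.symm))
    obtain ⟨T, hT⟩ := exists_sylow_centralizer h (u := (y : G)) (by rw [Subgroup.orderOf_coe]; exact hyo)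
    have := Nat.le_of_dvd Nat.card_pos (card_dvd_of_le hle)
    rw [hT, card_two h, hM] at this
    omega
  have hinj : Function.Injective f :=
    e.permCongrHom.injective.comp ((MonoidHom.ker_eq_bot_iff _).mp hK1)
  exact ⟨MulEquiv.ofBijective f ((Nat.bijective_iff_injective_and_card f).mpr
    ⟨hinj, by rw [hM, Nat.card_perm, Nat.card_fin]; rfl⟩)⟩

end CfsgLib.Simple168
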