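import Cfsg.Agent.SmallSimple.Basic
import Cfsg.Agent.PermSimple.Criteria
import Mathlib.GroupTheory.Perm.Cycle.Type

/-!
# Fixed points on cosets of elements commuting with a Sylow subgroup of prime order
-/

set_option autoImplicit false
set_option linter.style.haveILetI false

namespace CfsgLib.FixedPoints

open MulAction Subgroup

variable {G : Type*} [Group G] [Finite G]

theorem factorization_eq_one {p : ℕ} (hp : p.Prime) {n : ℕ} (hn : n ≠ 0) (h1 : p ∣ n)
    (h2 : ¬ p ^ 2 ∣ n) : n.factorization p = 1 := by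
  have := (hp.pow_dvd_iff_le_factorization (k := 2) hn).not.1 h2
  have := hp.factorization_pos_of_dvd hn h1
  omega

theorem sylow_conj {p : ℕ} [hp : Fact p.Prime] (hsq : ¬ p ^ 2 ∣ Nat.card G) {g g' : G}
    (hg : orderOf g = p) (hg' : orderOf g' = p) : ∃ a : G, a * g' * a⁻¹ ∈ zpowers g := by
  have hf : (Nat.card G).factorization p = 1 :=
    factorization_eq_one hp.out Nat.card_pos.ne' (hg ▸ orderOf_dvd_natCard g) hsq
  let P : Sylow p G := Sylow.ofCard (zpowers g) (by rw [Nat.card_zpowers, hg, hf, pow_one])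
  let P' : Sylow p G := Sylow.ofCard (zpowers g') (by rw [Nat.card_zpowers, hg', hf, pow_one])
  obtain ⟨a, ha⟩ := MulAction.exists_smul_eq G P' P
  refine ⟨a, ?_⟩
  have h : a * g' * a⁻¹ ∈ ((a • P' : Sylow p G) : Subgroup G) :=
    Subgroup.smul_mem_pointwise_smul g' (MulAut.conj a) (zpowers g') (mem_zpowers g')
  rw [ha] at h
  exact h

omit [Finite G] in
theorem zpowers_eq_of_mem {p : ℕ} [hp : Fact p.Prime] {g g' : G} (hg : orderOf g = p)
    (hg' : orderOf g' = p) (h : g' ∈ zpowers g) : zpowers g' = zpowers g := by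
  haveI : Finite (zpowers g) := Nat.finite_of_card_ne_zero (by
    rw [Nat.card_zpowers, hg]; exact hp.out.ne_zero)
  exact eq_of_le_of_card_ge (zpowers_le.2 h) (by rw [Nat.card_zpowers, Nat.card_zpowers, hg, hg'])

/-- A generator of a Sylow subgroup whose normaliser lies in `H` fixes one coset only. -/
theorem eq_base_of_fixed {p : ℕ} [hp : Fact p.Prime] (hsq : ¬ p ^ 2 ∣ Nat.card G) {g : G}
    (hg : orderOf g = p) {H : Subgroup G} (hN : normalizer ((zpowers g : Subgroup G) : Set G) ≤ H)
    {c : G ⧸ H} (hc : g • c = c) : c = ((1 : G) : G ⧸ H) := by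
  have hgH : g ∈ H := hN (le_normalizer (mem_zpowers g))
  induction c using QuotientGroup.induction_on with
  | _ a =>
    rw [Quotient.smul_coe, QuotientGroup.eq, smul_eq_mul, mul_inv_rev] at hc
    have hc' : a⁻¹ * g * a ∈ H := by simpa [mul_assoc] using H.inv_mem hc
    let g₀ : H := ⟨g, hgH⟩
    let g₁ : H := ⟨a⁻¹ * g * a, hc'⟩
    have h0 : orderOf g₀ = p := by rw [← Subgroup.orderOf_coe]; exact hg
    have h1 : orderOf g₁ = p := by
      rw [← Subgroup.orderOf_coe]
      show orderOf (a⁻¹ * g * a) = p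
      rw [← hg, show a⁻¹ * g * a = MulAut.conj a⁻¹ g by simp, MulEquiv.orderOf_eq]
    obtain ⟨h, hh⟩ := sylow_conj (fun hd => hsq (hd.trans (card_subgroup_dvd_card H))) h0 h1
    obtain ⟨i, hi⟩ := hh
    have hi' : g ^ i = (h : G) * (a⁻¹ * g * a) * (h : G)⁻¹ := congrArg Subtype.val hi
    have hmem : (h : G) * a⁻¹ ∈ normalizer ((zpowers g : Subgroup G) : Set G) := by
      have hconj : ((h : G) * a⁻¹) * g * ((h : G) * a⁻¹)⁻¹ = g ^ i := by rw [hi']; group
      have hm : ((h : G) * a⁻¹) * g * ((h : G) * a⁻¹)⁻¹ ∈ zpowers g := hconj ▸ ⟨i, rfl⟩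
      have ho : orderOf (((h : G) * a⁻¹) * g * ((h : G) * a⁻¹)⁻¹) = p :=
        ((MulAut.conj ((h : G) * a⁻¹)).orderOf_eq g).trans hg
      have hz := zpowers_eq_of_mem hg ho hm
      refine mem_normalizer_iff.2 fun b => ⟨fun hb => ?_, fun hb => ?_⟩
      · obtain ⟨j, rfl⟩ := hb
        exact hz ▸ ⟨j, conj_zpow⟩
      · rw [← hz] at hb
        obtain ⟨j, hj⟩ := hb
        exact ⟨j, (MulAut.conj ((h : G) * a⁻¹)).injective ((map_zpow _ g j).trans hj)⟩
    have ha : a ∈ H := by
      have h2 := H.inv_mem (H.mul_mem (H.inv_mem h.2) (hN hmem))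
      simpa using h2
    rw [QuotientGroup.eq]
    simpa using ha

/-- An element commuting with such a generator fixes a number of cosets congruent to one. -/
theorem card_fixed_mod {p : ℕ} [hp : Fact p.Prime] (hsq : ¬ p ^ 2 ∣ Nat.card G) {g : G}
    (hg : orderOf g = p) {H : Subgroup G} (hN : normalizer ((zpowers g : Subgroup G) : Set G) ≤ H)
    {v : G} (hv : Commute v g) : Nat.card {c : G ⧸ H // v • c = c} % p = 1 := by
  classical
  haveI := Fintype.ofFinite {c : G ⧸ H // v • c = c}
  have hstab : ∀ c : G ⧸ H, v • c = c ↔ v • MulAction.toPerm g c = MulAction.toPerm g c := by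
    intro c
    simp only [MulAction.toPerm_apply]
    rw [← mul_smul, hv.eq, mul_smul]
    exact ⟨fun h => by rw [h], fun h => smul_left_cancel g h⟩
  let σ : Equiv.Perm {c : G ⧸ H // v • c = c} :=
    (MulAction.toPerm g : Equiv.Perm (G ⧸ H)).subtypePerm fun c => (hstab c).symm
  have hpow : ∀ (n : ℕ) (c : {c : G ⧸ H // v • c = c}), ((σ ^ n) c : G ⧸ H) = g ^ n • (c : G ⧸ H) := by
    intro n
    induction n with
    | zero => intro c; simp
    | succ n ih =>
      intro c
      rw [pow_succ', pow_succ', Equiv.Perm.mul_apply, mul_smul, ← ih c]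
      rfl
  have hσ : σ ^ p ^ 1 = 1 := by
    ext c
    rw [hpow, pow_one, ← hg, pow_orderOf_eq_one, one_smul]
    rfl
  have hbase : v • ((1 : G) : G ⧸ H) = ((1 : G) : G ⧸ H) := by
    rw [Quotient.smul_coe, QuotientGroup.eq, smul_eq_mul, mul_one, mul_one, H.inv_mem_iff]
    refine hN (centralizer_le_normalizer _ (mem_centralizer_iff.2 fun y hy => ?_))
    obtain ⟨j, rfl⟩ := hy
    exact (hv.symm.zpow_left j).eq
  have hfix : σ.supportᶜ = {⟨_, hbase⟩} := by
    ext c
    simp only [Finset.mem_compl, Equiv.Perm.mem_support, not_not, Finset.mem_singleton]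
    constructor
    · intro h
      exact Subtype.ext (eq_base_of_fixed hsq hg hN (congrArg Subtype.val h))
    · rintro rfl
      refine Subtype.ext ?_
      show g • ((1 : G) : G ⧸ H) = _
      rw [Quotient.smul_coe, QuotientGroup.eq, smul_eq_mul, mul_one, mul_one, H.inv_mem_iff]
      exact hN (le_normalizer (mem_zpowers g))
  have h := Equiv.Perm.card_compl_support_modEq hσ
  rw [hfix, Finset.card_singleton, ← Nat.card_eq_fintype_card] at h
  exact Eq.trans h.symm (Nat.mod_eq_of_lt hp.out.one_lt)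

/-- An element of prime order fixes the whole set modulo that prime. -/
theorem card_fixed_modEq {q : ℕ} [hq : Fact q.Prime] {v : G} (hv : v ^ q = 1) (Ω : Type*)
    [Finite Ω] [MulAction G Ω] : Nat.card {c : Ω // v • c = c} % q = Nat.card Ω % q := by
  classical
  haveI := Fintype.ofFinite Ω
  have h := Equiv.Perm.card_compl_support_modEq
    (σ := (MulAction.toPermHom G Ω v)) (p := q) (n := 1) (by rw [pow_one, ← map_pow, hv, map_one])
  rw [← Nat.card_eq_fintype_card] at h
  rw [← h, Nat.card_eq_fintype_card, Fintype.card_subtype]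
  congr 2
  ext c
  simp

/-- An involution of a simple group is a product of an even number of transpositions. -/
theorem involution_parity [IsSimpleGroup G] (hG : ¬ IsMulCommutative G) {v : G} (hv : v ^ 2 = 1)
    (Ω : Type*) [Finite Ω] [MulAction G Ω] :
    ∃ k, Nat.card Ω = Nat.card {c : Ω // v • c = c} + 4 * k := by
  classical
  haveI := Fintype.ofFinite Ω
  set σ := MulAction.toPermHom G Ω v with hσdef
  have hfix : Nat.card {c : Ω // v • c = c} + σ.support.card = Nat.card Ω := by
    rw [Nat.card_eq_fintype_card, Nat.card_eq_fintype_card, Fintype.card_subtype]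
    have : σ.support = Finset.univ.filter fun c => ¬ v • c = c := by ext c; simp [σ]
    rw [this, Finset.card_filter_add_card_filter_not, Finset.card_univ]
  have hsign : Equiv.Perm.sign σ = 1 := CfsgLib.SmallSimple.sign_eq_one hG _ v
  have hdvd : 4 ∣ σ.support.card := by
    by_cases h1 : σ = 1
    · simp [h1]
    have hord : orderOf σ = 2 := orderOf_eq_prime (by rw [← map_pow, hv, map_one]) h1
    obtain ⟨n, hn⟩ := Equiv.Perm.cycleType_prime_order (σ := σ) (by rw [hord]; exact Nat.prime_two)
    have hs := Equiv.Perm.sum_cycleType σ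
    rw [hn, hord, Multiset.sum_replicate, smul_eq_mul] at hs
    rw [Equiv.Perm.sign_of_cycleType, hn, hord, Multiset.sum_replicate, Multiset.card_replicate,
      smul_eq_mul] at hsign
    have he : Even (n + 1) := by
      by_contra ho
      have hodd : Odd ((n + 1) * 2 + (n + 1)) := by
        obtain ⟨m, hm⟩ := Nat.not_even_iff_odd.1 ho
        exact ⟨3 * m + 1, by rw [hm]; ring⟩
      rw [hodd.neg_one_pow] at hsign
      exact absurd hsign (by decide)
    obtain ⟨m, hm⟩ := he
    exact ⟨m, by rw [← hs, hm]; ring⟩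
  obtain ⟨k, hk⟩ := hdvd
  exact ⟨k, by omega⟩

/-- Only the identity fixes every coset of a proper subgroup of a simple group. -/
theorem eq_one_of_fixed [IsSimpleGroup G] {H : Subgroup G} (hH : H ≠ ⊤) {v : G}
    (h : Nat.card {c : G ⧸ H // v • c = c} = Nat.card (G ⧸ H)) : v = 1 := by
  classical
  haveI := Fintype.ofFinite (G ⧸ H)
  refine CfsgLib.SmallSimple.cosetHom_injective H hH (Equiv.ext fun c => ?_)
  rw [map_one]
  by_contra hc
  have hlt : Nat.card {c : G ⧸ H // v • c = c} < Nat.card (G ⧸ H) := by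
    rw [Nat.card_eq_fintype_card, Nat.card_eq_fintype_card]
    exact Fintype.card_subtype_lt hc
  omega

/-- The cosets of a centraliser fixed by the element are the conjugates commuting with it. -/
theorem card_fixed_centralizer (t : G) :
    Nat.card {c : G ⧸ centralizer ({t} : Set G) // t • c = c} =
      Nat.card {s : G // IsConj t s ∧ Commute t s} := by
  classical
  refine Nat.card_congr (Equiv.ofBijective (fun c => ⟨Quotient.liftOn' c.1
    (fun a => a * t * a⁻¹) ?_, ?_⟩) ⟨?_, ?_⟩)
  · intro a b hab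
    rw [QuotientGroup.leftRel_apply, mem_centralizer_singleton_iff] at hab
    calc a * t * a⁻¹ = a * (t * (a⁻¹ * b)) * b⁻¹ := by group
      _ = a * (a⁻¹ * b * t) * b⁻¹ := by rw [hab]
      _ = b * t * b⁻¹ := by group
  · obtain ⟨c, hc⟩ := c
    induction c using QuotientGroup.induction_on with
    | _ a =>
      refine ⟨isConj_iff.2 ⟨a, rfl⟩, ?_⟩
      rw [Quotient.smul_coe, QuotientGroup.eq, smul_eq_mul, mem_centralizer_singleton_iff,
        mul_inv_rev] at hc
      show t * (a * t * a⁻¹) = a * t * a⁻¹ * t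
      have h2 : t⁻¹ * (a * t * a⁻¹) = a * t * a⁻¹ * t⁻¹ := by
        calc t⁻¹ * (a * t * a⁻¹) = a * (a⁻¹ * t⁻¹ * a * t) * a⁻¹ := by group
          _ = a * (t * (a⁻¹ * t⁻¹ * a)) * a⁻¹ := by rw [hc]
          _ = _ := by group
      calc t * (a * t * a⁻¹) = t * (a * t * a⁻¹ * t⁻¹) * t := by group
        _ = t * (t⁻¹ * (a * t * a⁻¹)) * t := by rw [h2]
        _ = _ := by group
  · rintro ⟨c, hc⟩ ⟨d, hd⟩ h
    induction c using QuotientGroup.induction_on with
    | _ a =>
      induction d using QuotientGroup.induction_on with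
      | _ b =>
        have h' : a * t * a⁻¹ = b * t * b⁻¹ := congrArg Subtype.val h
        refine Subtype.ext (QuotientGroup.eq.2 (mem_centralizer_singleton_iff.2 ?_))
        calc a⁻¹ * b * t = a⁻¹ * (b * t * b⁻¹) * b := by group
          _ = a⁻¹ * (a * t * a⁻¹) * b := by rw [h']
          _ = t * (a⁻¹ * b) := by group
  · rintro ⟨s, hs, hts⟩
    obtain ⟨a, rfl⟩ := isConj_iff.1 hs
    refine ⟨⟨((a : G) : G ⧸ centralizer ({t} : Set G)), ?_⟩, rfl⟩
    rw [Quotient.smul_coe, QuotientGroup.eq, smul_eq_mul, mem_centralizer_singleton_iff,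
      mul_inv_rev]
    calc a⁻¹ * t⁻¹ * a * t = a⁻¹ * (t⁻¹ * (a * t * a⁻¹)) * a := by group
      _ = a⁻¹ * ((a * t * a⁻¹) * t⁻¹) * a := by rw [hts.inv_left.eq]
      _ = t * (a⁻¹ * t⁻¹ * a) := by group

/-- The Sylow count inside a subgroup. -/
theorem exists_count {p : ℕ} [hp : Fact p.Prime] (hsq : ¬ p ^ 2 ∣ Nat.card G) {g : G}
    (hg : orderOf g = p) {H : Subgroup G} (hgH : g ∈ H) :
    ∃ k, k % p = 1 ∧
      Nat.card H = k * Nat.card (normalizer ((zpowers g : Subgroup G) : Set G) ⊓ H : Subgroup G) := by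
  have hf : (Nat.card H).factorization p = 1 := by
    refine factorization_eq_one hp.out Nat.card_pos.ne' ?_
      fun hd => hsq (hd.trans (card_subgroup_dvd_card H))
    rw [← hg, ← Subgroup.orderOf_mk (a := g) hgH]
    exact orderOf_dvd_natCard _
  have hle : zpowers g ≤ H := zpowers_le.2 hgH
  let P : Sylow p H := Sylow.ofCard ((zpowers g).subgroupOf H) (by
    rw [Nat.card_congr (subgroupOfEquivOfLe hle).toEquiv, Nat.card_zpowers, hg, hf, pow_one])
  refine ⟨Nat.card (Sylow p H), Eq.trans (card_sylow_modEq_one p H) (Nat.mod_eq_of_lt hp.out.one_lt), ?_⟩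
  have h := CfsgLib.SmallSimple.card_sylow_mul P
  rw [show ((P : Subgroup H) : Set H) = (((zpowers g).subgroupOf H : Subgroup H) : Set H) from rfl,
    ← subgroupOf_normalizer_eq hle] at h
  rw [← h]
  congr 1
  refine (Nat.card_congr (Subgroup.equivMapOfInjective _ H.subtype H.subtype_injective).toEquiv).trans ?_
  rw [subgroupOf_map_subtype]

/-- A subgroup acting with a single fixed point for each of its nontrivial elements. -/
theorem card_dvd_of_semiregular {Ω : Type*} [Finite Ω] [Nonempty Ω] [MulAction G Ω]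
    (h : ∀ g : G, g ≠ 1 → Nat.card {c : Ω // g • c = c} = 1) :
    Nat.card G ∣ Nat.card Ω - 1 := by
  classical
  haveI := Fintype.ofFinite G
  haveI := Fintype.ofFinite Ω
  have hb := sum_card_fixedBy_eq_card_orbits_mul_card_group G Ω
  have hsum : ∑ g : G, Fintype.card (fixedBy Ω g) =
      Nat.card Ω + (Nat.card G - 1) := by
    rw [← Finset.add_sum_erase _ _ (Finset.mem_univ (1 : G)), Finset.sum_congr rfl fun g hg => ?_,
      Finset.sum_const, smul_eq_mul, mul_one, Finset.card_erase_of_mem (Finset.mem_univ _),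
      Finset.card_univ, ← Nat.card_eq_fintype_card]
    · congr 1
      · exact Nat.card_congr ((Equiv.setCongr (fixedBy_one_eq_univ Ω G)).trans (Equiv.Set.univ Ω))
      · rw [Nat.card_eq_fintype_card]
    · rw [← Nat.card_eq_fintype_card]
      exact h g (Finset.mem_erase.1 hg).1
  rw [hsum, ← Nat.card_eq_fintype_card, ← Nat.card_eq_fintype_card] at hb
  set o := Nat.card (Quotient (MulAction.orbitRel G Ω))
  have hpos : 0 < Nat.card G := Nat.card_pos
  haveI : Nonempty (Quotient (MulAction.orbitRel G Ω)) :=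
    ⟨Quotient.mk _ (Classical.arbitrary Ω)⟩
  have ho : 1 ≤ o := Nat.card_pos
  refine ⟨o - 1, ?_⟩
  have : Nat.card G * (o - 1) + Nat.card G = o * Nat.card G := by
    rw [← Nat.mul_succ, Nat.succ_eq_add_one, Nat.sub_add_cancel ho, mul_comm]
  omega

end CfsgLib.FixedPoints
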