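import Cfsg.Agent.Char.Values
import Cfsg.Agent.Char.AlgInt
import Cfsg.Agent.Char.Basic
import Mathlib.GroupTheory.Abelianization.Defs
import Mathlib.FieldTheory.Finite.Basic
import Mathlib.LinearAlgebra.Trace

/-!
# Congruences for the values of a character at an involution
-/

set_option autoImplicit false
set_option linter.style.haveILetI false

namespace CfsgLib.InvolValues

open CfsgLib.Char

variable {G : Type*} [Group G] [Finite G]

/-- The `p`-th power of a sum of algebraic integers, modulo `p`. -/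
theorem exists_sum_pow_prime {p : ℕ} (hp : p.Prime) (s : Multiset ℂ)
    (hs : ∀ z ∈ s, IsIntegral ℤ z) :
    ∃ r : ℂ, IsIntegral ℤ r ∧ s.sum ^ p = (s.map fun z => z ^ p).sum + (p : ℂ) * r := by
  induction s using Multiset.induction_on with
  | empty => exact ⟨0, isIntegral_zero, by simp [hp.ne_zero]⟩
  | cons a t ih =>
    obtain ⟨r, hr, hrt⟩ := ih fun z hz => hs z (Multiset.mem_cons_of_mem hz)
    have ha : IsIntegral ℤ a := hs a (Multiset.mem_cons_self a t)
    have ht : IsIntegral ℤ t.sum :=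
      IsIntegral.multiset_sum fun z hz => hs z (Multiset.mem_cons_of_mem hz)
    obtain ⟨w, hw⟩ := exists_add_pow_prime_eq hp
      (⟨a, ha⟩ : integralClosure ℤ ℂ) ⟨t.sum, ht⟩
    have hw' := congrArg (Subtype.val : integralClosure ℤ ℂ → ℂ) hw
    push_cast at hw'
    refine ⟨r + a * t.sum * (w : ℂ), hr.add ((ha.mul ht).mul w.2), ?_⟩
    rw [Multiset.sum_cons, Multiset.map_cons, Multiset.sum_cons, hw', hrt]
    ring

/-- Integral values at `g` and at `g ^ p` agree modulo `p`. -/
theorem int_value_congr {p : ℕ} (hp : p.Prime) {χ : G → ℂ} (hχ : Cfsg.IsCharacter G χ) {g h : G}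
    (hgh : g ^ p = h) {a b : ℤ} (ha : χ g = a) (hb : χ h = b) : (p : ℤ) ∣ b - a := by
  haveI : Fact p.Prime := ⟨hp⟩
  obtain ⟨s, -, hs, hk⟩ := IsCharacter.exists_roots hχ g
  obtain ⟨r, hr, hsum⟩ := exists_sum_pow_prime hp s fun z hz =>
    isIntegral_of_pow_eq_one (orderOf_pos g) (hs z hz)
  have h1 : χ g = s.sum := by simpa using hk 1
  have hp0 : (p : ℂ) ≠ 0 := Nat.cast_ne_zero.2 hp.ne_zero
  rw [← h1, ← hk p, hgh, ha, hb] at hsum
  obtain ⟨n, -, hn⟩ := exists_int_of_isIntegral_rat (((a ^ p - b : ℤ) : ℚ) / (p : ℚ)) hr (by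
    push_cast
    rw [eq_div_iff hp0]
    linear_combination -hsum)
  rw [div_eq_iff (Nat.cast_ne_zero.2 hp.ne_zero)] at hn
  have hn' : a ^ p - b = n * p := by exact_mod_cast hn
  rw [← ZMod.intCast_zmod_eq_zero_iff_dvd]
  have h2 := congrArg (Int.cast : ℤ → ZMod p) hn'
  push_cast [ZMod.natCast_self] at h2 ⊢
  rw [ZMod.pow_card, mul_zero] at h2
  linear_combination -h2

/-- A perfect group acts with determinant one, so at an involution the value of a character is
congruent to the degree modulo four. -/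
theorem invol_mod_four (hperf : commutator G = ⊤) {χ : G → ℂ} (hχ : Cfsg.IsCharacter G χ) {t : G}
    (ht : t * t = 1) {d : ℕ} (hd : χ 1 = d) :
    ∃ m : ℤ, χ t = m ∧ 4 ∣ (d : ℤ) - m ∧ -(d : ℤ) ≤ m ∧ m ≤ d := by
  obtain ⟨n, ρ, rfl⟩ := hχ
  rw [ρ.char_one, Module.finrank_fin_fun, Nat.cast_inj] at hd
  subst hd
  set T : Module.End ℂ (Fin n → ℂ) := ρ t with hT
  have hTT : T * T = 1 := by rw [hT, ← map_mul, ht, map_one]
  set Q : Module.End ℂ (Fin n → ℂ) := (2 : ℂ)⁻¹ • (1 - T) with hQ
  have hQQ : Q * Q = Q := by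
    rw [hQ, smul_mul_assoc, mul_smul_comm, smul_smul, sub_mul, mul_sub, mul_sub, one_mul, mul_one,
      one_mul, hTT]
    module
  obtain ⟨V, hV⟩ := (LinearMap.isProj_iff_isIdempotentElem Q).mpr hQQ
  have hc := hV.isCompl
  have htr : LinearMap.trace ℂ (Fin n → ℂ) Q = (Module.finrank ℂ V : ℂ) := hV.trace
  have hsum := Submodule.finrank_add_eq_of_isCompl hc
  rw [Module.finrank_fin_fun] at hsum
  set E := V.prodEquivOfIsCompl (LinearMap.ker Q) hc with hE
  have hconj : T = (E.toLinearMap ∘ₗ ((-1 : ℂ) • LinearMap.id).prodMap LinearMap.id) ∘ₗ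
      E.symm.toLinearMap := by
    refine LinearMap.ext fun v => ?_
    obtain ⟨⟨u, w⟩, rfl⟩ := E.surjective v
    have h1 : T = 1 - (2 : ℂ) • Q := by rw [hQ, smul_smul]; norm_num
    show T (E (u, w)) = E (((-1 : ℂ) • LinearMap.id).prodMap LinearMap.id (E.symm (E (u, w))))
    rw [LinearEquiv.symm_apply_apply, h1, hE]
    simp only [LinearMap.sub_apply, LinearMap.smul_apply, Module.End.one_apply,
      LinearMap.id_apply,
      LinearMap.prodMap_apply, Submodule.coe_prodEquivOfIsCompl', Submodule.coe_smul, map_add,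
      hV.map_id u.1 u.2, show Q w.1 = 0 from w.2]
    module
  have hdet : LinearMap.det T = 1 := by
    let f : G →* ℂ := LinearMap.det.comp ρ
    have hker : commutator G ≤ f.toHomUnits.ker := Abelianization.commutator_subset_ker _
    have h1 : f.toHomUnits t = 1 := MonoidHom.mem_ker.1 (hker (hperf ▸ Subgroup.mem_top t))
    have h3 := congrArg Units.val h1
    rw [MonoidHom.coe_toHomUnits, Units.val_one] at h3
    exact h3
  rw [hconj, LinearMap.comp_assoc, LinearMap.det_conj, LinearMap.det_prodMap, LinearMap.det_smul,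
    LinearMap.det_id, LinearMap.det_id, mul_one, mul_one, neg_one_pow_eq_one_iff_even (by norm_num)] at hdet
  obtain ⟨r, hr⟩ := hdet
  refine ⟨(n : ℤ) - 4 * r, ?_, ⟨r, by ring⟩, by omega, by omega⟩
  have h2 : LinearMap.trace ℂ (Fin n → ℂ) T = (n : ℂ) - 2 * (Module.finrank ℂ V : ℂ) := by
    have h1 : T = 1 - (2 : ℂ) • Q := by rw [hQ, smul_smul]; norm_num
    rw [h1, map_sub, map_smul, htr, LinearMap.trace_one, Module.finrank_fin_fun, smul_eq_mul]
  change LinearMap.trace ℂ (Fin n → ℂ) T = _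
  rw [h2, hr]
  push_cast
  ring

end CfsgLib.InvolValues
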