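/-
The centraliser of a transvection in SL(5,2).
-/
import Mathlib

set_option autoImplicit false

namespace CfsgLib.SLFiveTwo

open Matrix

/-- Parameters of a matrix commuting with the elementary transvection. -/
def paramMatrix (a : ZMod 2) (u c : Fin 3 → ZMod 2) (A : Matrix (Fin 3) (Fin 3) (ZMod 2)) :
    Matrix (Fin 5) (Fin 5) (ZMod 2) :=
  !![1, a, u 0, u 1, u 2; 0, 1, 0, 0, 0; 0, c 0, A 0 0, A 0 1, A 0 2; 0, c 1, A 1 0, A 1 1, A 1 2;
    0, c 2, A 2 0, A 2 1, A 2 2]

theorem det_paramMatrix (a : ZMod 2) (u c : Fin 3 → ZMod 2) (A : Matrix (Fin 3) (Fin 3) (ZMod 2)) :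
    (paramMatrix a u c A).det = A.det := by
  rw [paramMatrix, det_succ_column_zero, Fin.sum_univ_five, det_fin_three A]
  simp [det_succ_row_zero, Fin.sum_univ_succ, Fin.succAbove]
  simp only [CharTwo.sub_eq_add]
  try ring

theorem commute_iff (g : Matrix (Fin 5) (Fin 5) (ZMod 2)) :
    g * transvection 0 1 1 = transvection 0 1 1 * g ↔
      g 0 0 = g 1 1 ∧ (∀ i, i ≠ 0 → g i 0 = 0) ∧ ∀ j, j ≠ 1 → g 1 j = 0 := by
  have hd : g * transvection 0 1 1 = transvection 0 1 1 * g ↔
      g * Matrix.single 0 1 1 = Matrix.single 0 1 1 * g := by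
    simp [transvection, mul_add, add_mul]
  rw [hd]
  constructor
  · intro h
    refine ⟨?_, fun i hi => ?_, fun j hj => ?_⟩
    · simpa using congrFun (congrFun h 0) 1
    · simpa [hi] using congrFun (congrFun h i) 1
    · simpa [hj] using (congrFun (congrFun h 0) j).symm
  · rintro ⟨h0, h1, h2⟩
    ext i j
    by_cases hi : i = 0 <;> by_cases hj : j = 1
    · subst hi hj; simpa using h0
    · subst hi; simp [hj, h2 j hj]
    · subst hj; simp [hi, h1 i hi]
    · simp [hi, hj]

theorem card_det_one : Fintype.card {A : Matrix (Fin 3) (Fin 3) (ZMod 2) // A.det = 1} = 168 := by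
  let e : (Fin 3 → Fin 3 → ZMod 2) ≃ Matrix (Fin 3) (Fin 3) (ZMod 2) := Matrix.of
  rw [Fintype.card_subtype, ← Finset.card_map e.symm.toEmbedding]
  have h : (Finset.univ.filter fun A : Matrix (Fin 3) (Fin 3) (ZMod 2) => A.det = 1).map e.symm.toEmbedding =
      Finset.univ.filter fun f : Fin 3 → Fin 3 → ZMod 2 =>
        f 0 0 * f 1 1 * f 2 2 - f 0 0 * f 1 2 * f 2 1 - f 0 1 * f 1 0 * f 2 2 + f 0 1 * f 1 2 * f 2 0 +
          f 0 2 * f 1 0 * f 2 1 - f 0 2 * f 1 1 * f 2 0 = 1 := by
    ext f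
    simp [Finset.mem_map_equiv, e, det_fin_three]
  rw [h]
  decide +kernel

theorem card_centralizer (s : SpecialLinearGroup (Fin 5) (ZMod 2))
    (hs : (s : Matrix (Fin 5) (Fin 5) (ZMod 2)) = transvection 0 1 1) :
    Nat.card (Subgroup.centralizer ({s} : Set (SpecialLinearGroup (Fin 5) (ZMod 2)))) = 21504 := by
  let toC : ZMod 2 × (Fin 3 → ZMod 2) × (Fin 3 → ZMod 2) × {A : Matrix (Fin 3) (Fin 3) (ZMod 2) // A.det = 1} →
      Subgroup.centralizer ({s} : Set (SpecialLinearGroup (Fin 5) (ZMod 2))) := fun p =>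
    ⟨⟨paramMatrix p.1 p.2.1 p.2.2.1 p.2.2.2.1, (det_paramMatrix _ _ _ _).trans p.2.2.2.2⟩,
      Subgroup.mem_centralizer_singleton_iff.mpr (Subtype.ext (by
        show paramMatrix _ _ _ _ * (s : Matrix (Fin 5) (Fin 5) (ZMod 2)) =
          (s : Matrix (Fin 5) (Fin 5) (ZMod 2)) * paramMatrix _ _ _ _
        rw [hs, commute_iff]
        refine ⟨rfl, fun i hi => ?_, fun j hj => ?_⟩
        · fin_cases i <;> first | rfl | exact absurd rfl hi
        · fin_cases j <;> first | rfl | exact absurd rfl hj))⟩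
  have hb : Function.Bijective toC := by
    constructor
    · rintro ⟨a, u, c, A, hA⟩ ⟨a', u', c', A', hA'⟩ h
      have h' := congrFun₂ (congrArg (fun g : Subgroup.centralizer ({s} : Set (SpecialLinearGroup (Fin 5) (ZMod 2))) =>
        ((g : SpecialLinearGroup (Fin 5) (ZMod 2)) : Matrix (Fin 5) (Fin 5) (ZMod 2))) h)
      refine Prod.ext (h' 0 1) (Prod.ext (funext fun i => ?_) (Prod.ext (funext fun i => ?_) (Subtype.ext ?_)))
      · fin_cases i
        exacts [h' 0 2, h' 0 3, h' 0 4]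
      · fin_cases i
        exacts [h' 2 1, h' 3 1, h' 4 1]
      · ext i j
        fin_cases i <;> fin_cases j
        exacts [h' 2 2, h' 2 3, h' 2 4, h' 3 2, h' 3 3, h' 3 4, h' 4 2, h' 4 3, h' 4 4]
    · intro y
      obtain ⟨g, hgx, hg⟩ : ∃ g : Matrix (Fin 5) (Fin 5) (ZMod 2),
          ((y : SpecialLinearGroup (Fin 5) (ZMod 2)) : Matrix (Fin 5) (Fin 5) (ZMod 2)) = g ∧ g.det = 1 :=
        ⟨_, rfl, (y : SpecialLinearGroup (Fin 5) (ZMod 2)).2⟩
      have hc' : g * transvection 0 1 1 = transvection 0 1 1 * g := by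
        have := congrArg Subtype.val ((Subgroup.mem_centralizer_singleton_iff (G := SpecialLinearGroup (Fin 5) (ZMod 2))).mp y.2)
        rw [← hgx, ← hs]
        exact this
      obtain ⟨h0, h1, h2⟩ := (commute_iff g).mp hc'
      have hg00 : g 0 0 = 1 := by
        rcases (show ∀ x : ZMod 2, x = 0 ∨ x = 1 by decide) (g 0 0) with h | h
        · exfalso
          have : g.det = 0 := det_eq_zero_of_column_eq_zero 0 fun i => by
            by_cases hi : i = 0
            · rw [hi, h]
            · exact h1 i hi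
          rw [hg] at this
          exact one_ne_zero this
        · exact h
      let A : Matrix (Fin 3) (Fin 3) (ZMod 2) := Matrix.of fun i j => g i.succ.succ j.succ.succ
      have heq : paramMatrix (g 0 1) (fun i => g 0 i.succ.succ) (fun i => g i.succ.succ 1) A = g := by
        ext i j
        fin_cases i <;> fin_cases j <;>
          first | rfl | exact hg00.symm | exact (h1 _ (by decide)).symm | exact (h2 _ (by decide)).symm |
            exact (h0 ▸ hg00).symm
      exact ⟨(g 0 1, fun i => g 0 i.succ.succ, fun i => g i.succ.succ 1,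
        ⟨A, (det_paramMatrix _ _ _ A).symm.trans ((congrArg det heq).trans hg)⟩), Subtype.ext (Subtype.ext (heq.trans hgx.symm))⟩
  rw [← Nat.card_eq_of_bijective _ hb, Nat.card_prod, Nat.card_prod, Nat.card_prod,
    Nat.card_eq_fintype_card (α := {A : Matrix (Fin 3) (Fin 3) (ZMod 2) // A.det = 1}), card_det_one]
  simp

end CfsgLib.SLFiveTwo
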