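/-
Orders with a self-centralising Sylow subgroup of prime order refuted by a column table.
-/
import Cfsg.Agent.SmallSimple.ColumnData

set_option autoImplicit false
set_option linter.style.haveILetI false

namespace CfsgLib.ColumnData

open Subgroup

theorem false_of_order {G : Type*} [Group G] [Finite G] [IsSimpleGroup G] {n p e t k : ℕ} [Fact p.Prime]
    (g : ZMod p) (hn : Nat.card G = n) (hm : n = p * (k * e)) (hpm : ¬ p ∣ k * e)
    (hk : ∀ d ∈ List.range (k * e + 1), d ∣ k * e → d % p = 1 → d ≠ 1 → d = k)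
    (hp : p = 1 + e * t) (he : e.Prime) (ht : 0 < t) (hg : g ≠ 0)
    (hgen : (Finset.univ : Finset (ZMod p)).val = 0 ::ₘ (Multiset.range (e * t)).map (fun i => g ^ i))
    (hroots : ∀ r : ZMod p, r ^ e = 1 → r = 1 ∨ ∃ i ∈ List.range e, r ^ i = g ^ t)
    {D : List ℕ} {T : List (ℤ × ℤ)}
    (hD : ∀ d ∈ List.range (Nat.sqrt (n - 1) + 1), 2 ≤ d → d ∣ n → d ∈ D)
    (hT : ColumnTable.check n p e t D T = true) : False := by
  have hpp : p.Prime := Fact.out
  obtain ⟨P⟩ : Nonempty (Sylow p G) := inferInstance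
  have hP : Nat.card (P : Subgroup G) = p := by
    rw [CfsgLib.SmallSimple.card_sylow_eq P (k := 1) (m := k * e) (by rw [hn, hm, pow_one]) hpm, pow_one]
  have hke : 1 < k * e := by
    by_contra hle
    rcases (by omega : k * e = 0 ∨ k * e = 1) with h | h
    · rw [h] at hpm; exact hpm (dvd_zero p)
    · exact absurd (Nat.eq_one_of_mul_eq_one_left h) he.one_lt.ne'
  have h1 : 1 < Nat.card (P : Subgroup G) := by rw [hP]; exact hpp.one_lt
  have h2 : Nat.card (P : Subgroup G) < Nat.card G := by rw [hP, hn, hm]; exact lt_mul_of_one_lt_right hpp.pos hke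
  have hG := CfsgLib.SmallSimple.not_comm_of_sylow P h1 h2
  have hnp : Nat.card (Sylow p G) = k := by
    have hd : Nat.card (Sylow p G) ∣ k * e := by
      have h3 := P.card_dvd_index
      have h4 := (P : Subgroup G).card_mul_index
      rw [hP, hn, hm] at h4
      rwa [Nat.eq_of_mul_eq_mul_left hpp.pos h4] at h3
    exact hk _ (List.mem_range.2 (Nat.lt_succ_of_le (Nat.le_of_dvd (by omega) hd))) hd
      (Eq.trans (card_sylow_modEq_one p G) (Nat.mod_eq_of_lt hpp.one_lt))
      (CfsgLib.SmallSimple.card_sylow_ne_one P h1 h2)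
  have hN : Nat.card (normalizer ((P : Subgroup G) : Set G)) = p * e := by
    have h3 := CfsgLib.SmallSimple.card_sylow_mul P
    rw [hnp, hn, hm, mul_left_comm p k e] at h3
    exact Nat.eq_of_mul_eq_mul_left (Nat.pos_of_ne_zero fun h => by rw [h, zero_mul] at hke; omega) h3
  haveI : IsCyclic (P : Subgroup G) := isCyclic_of_prime_card hP
  obtain ⟨x, hx⟩ : ∃ x : (P : Subgroup G), orderOf x = p := by
    obtain ⟨x, hx⟩ := IsCyclic.exists_ofOrder_eq_natCard (α := (P : Subgroup G))
    exact ⟨x, hx.trans hP⟩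
  have hx' : orderOf (x : G) = p := by rw [Subgroup.orderOf_coe, hx]
  have hPz : (P : Subgroup G) = zpowers (x : G) :=
    (eq_of_le_of_card_ge (zpowers_le.mpr x.2) (by rw [Nat.card_zpowers, hx', hP])).symm
  have hCset : centralizer ({(x : G)} : Set G) = centralizer ((P : Subgroup G) : Set G) := by
    rw [show (((P : Subgroup G) : Set G)) = ((zpowers (x : G) : Subgroup G) : Set G) from congrArg _ hPz,
      Subgroup.zpowers_eq_closure, Subgroup.centralizer_closure]
  set N := normalizer ((P : Subgroup G) : Set G)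
  have hPC : (P : Subgroup G) ≤ centralizer ({(x : G)} : Set G) := fun y hy =>
    Subgroup.mem_centralizer_singleton_iff.mpr (setLike_mul_comm (S := Subgroup G) hy x.2)
  have hCN : centralizer ({(x : G)} : Set G) ≤ N := hCset ▸ centralizer_le_normalizer _
  obtain ⟨u, hu⟩ := hP ▸ card_dvd_of_le hPC
  have hCne : centralizer ({(x : G)} : Set G) ≠ N := fun h =>
    CfsgLib.SmallSimple.not_le_centralizer P h1 h2 (by rw [← hCset, h])
  have hu1 : u = 1 := by
    have hd : p * u ∣ p * e := hu ▸ hN ▸ card_dvd_of_le hCN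
    rcases (Nat.dvd_prime he).mp ((Nat.mul_dvd_mul_iff_left hpp.pos).mp hd) with h | h
    · exact h
    · exact absurd (eq_of_le_of_card_ge hCN (by rw [hN, hu, h])) hCne
  rw [hu1, mul_one] at hu
  obtain ⟨h, hhN, hhC⟩ := Set.exists_of_ssubset (lt_of_le_of_ne hCN hCne : _ < N)
  -- the action of an element of the normaliser
  obtain ⟨r, hr⟩ : ∃ r : ZMod p, h * x * h⁻¹ = (x : G) ^ r.val := by
    have hm' : h * x * h⁻¹ ∈ zpowers (x : G) := hPz ▸ (Subgroup.mem_normalizer_iff.mp hhN x).mp x.2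
    classical
    obtain ⟨i, hi⟩ := (mem_zpowers_iff_mem_range_orderOf).mp hm' |> Finset.mem_image.mp
    exact ⟨(i : ZMod p), by
      have h5 := pow_mod_orderOf (x : G) i
      rw [hx'] at h5
      rw [ZMod.val_natCast, h5, hi.2]⟩
  have hiter : ∀ m : ℕ, h ^ m * x * (h ^ m)⁻¹ = (x : G) ^ (r ^ m).val := by
    intro m
    induction m with
    | zero => simp [ZMod.val_one]
    | succ m ih =>
      rw [pow_succ', mul_inv_rev, show h * h ^ m * (x : G) * ((h ^ m)⁻¹ * h⁻¹) = h * (h ^ m * x * (h ^ m)⁻¹) * h⁻¹ by group,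
        ih, ← conj_pow, hr, pow_succ', pow_val_mul hx']
  have hre : r ^ e = 1 := by
    have h3 : h ^ (p * e) = 1 := by
      have := pow_card_eq_one' (x := (⟨h, hhN⟩ : N))
      rw [hN] at this
      exact congrArg Subtype.val this
    have h4 := hiter (p * e)
    rw [h3, one_mul, inv_one, mul_one, pow_mul, ZMod.pow_card] at h4
    have h5 : ((1 : ZMod p).val : ℕ) = (r ^ e).val := by
      have h6 : (x : G) ^ (1 : ℕ) = (x : G) ^ (r ^ e).val := (pow_one _).trans h4
      rw [pow_inj_mod, hx', Nat.mod_eq_of_lt hpp.one_lt, Nat.mod_eq_of_lt (ZMod.val_lt _)] at h6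
      rw [ZMod.val_one]; exact h6
    exact (ZMod.val_injective p h5).symm
  rcases hroots r hre with h3 | ⟨i, -, hi⟩
  · refine hhC (Subgroup.mem_centralizer_singleton_iff.mpr ?_)
    rw [h3, ZMod.val_one, pow_one, mul_inv_eq_iff_eq_mul] at hr
    exact hr
  · exact false_of_table hG g hn hp he.pos ht hg hgen hx' hu ⟨h ^ i, by rw [hiter, hi]⟩ hD hT

end CfsgLib.ColumnData
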