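import Cfsg.Agent.SmallSimple.ColumnTable

/-!
# A table with one more invariant

Besides the weights and the squares of the degrees, the table records the sum of the degrees times
the deficits `deg - p * u₀`, which the orthogonality of a column with the degrees determines.
-/

set_option autoImplicit false
set_option linter.style.haveILetI false

namespace CfsgLib.ColumnTable

open Finset

/-- The degree times its deficit. -/
def lin (p e t : ℕ) (u : Vec) : ℤ := (deg e t u : ℤ) * ((deg e t u : ℤ) - p * u.1)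

/-- The table is closed under adding each possible orbit. -/
def closedFor₃ (n p e t s d : ℕ) (B : ℤ) (T : List (ℤ × ℤ × ℤ)) (l : List ℤ) : Bool :=
  let E : ℤ := (e * (t / s) : ℕ)
  let S : ℤ := E * l.sum
  let m : ℤ := ((d : ℤ) - S) / p
  let w : ℤ := p * E * (l.map fun x => x * x).sum - S ^ 2
  if p * m = (d : ℤ) - S ∧ 0 ≤ m ∧ m ≠ d ∧ (∀ x ∈ l, 0 ≤ m + x) ∧ w ≠ 0 then
    T.all fun ab =>
      if ab.1 + s * w ≤ B ∧ ab.2.1 + s * (d : ℤ) ^ 2 ≤ (n : ℤ) - 1 then
        T.contains (ab.1 + s * w, ab.2.1 + s * (d : ℤ) ^ 2, ab.2.2 + s * ((d : ℤ) * S))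
      else true
  else true

/-- The whole check: bounds, closure and absence of the target. -/
def check₃ (n p e t : ℕ) (D : List ℕ) (T : List (ℤ × ℤ × ℤ)) : Bool :=
  let B : ℤ := ((p : ℤ) - 1) ^ 2
  T.contains (0, 0, 0) && (T.all fun ab =>
    !(ab.1 == B && ab.2.2 == (p : ℤ) - 1 && decide (ab.2.1 ≤ (n : ℤ) - 1) &&
      decide (((n : ℤ) - 1 - ab.2.1) % (p : ℤ) ^ 2 = 0))) &&
  (((List.range (t + 1)).filter fun s => decide (0 < s ∧ t % s = 0)).all fun s =>
    (devs ((e * (t / s) : ℕ) : ℤ) (B / s) (Nat.sqrt ((B / s).toNat / (e * (t / s)))) s).all fun l =>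
      D.all fun d => closedFor₃ n p e t s d B T l)

variable {n p e t : ℕ}

set_option maxHeartbeats 1600000 in
/-- Soundness of the table. -/
theorem reach₃ (hp : p = 1 + e * t) (he : 0 < e) (ht : 0 < t) {D : List ℕ} {T : List (ℤ × ℤ × ℤ)}
    (hT : check₃ n p e t D T = true) (M : Multiset Vec) (hM : M.map rot = M)
    (hgood : ∀ u ∈ M, (∀ i, u.2 (i + t) = u.2 i) ∧ deg e t u ∈ D ∧ deg e t u ≠ u.1)
    (hw : (M.map (wt p e t)).sum ≤ ((p : ℤ) - 1) ^ 2)
    (hd : (M.map fun u => (deg e t u : ℤ) ^ 2).sum ≤ (n : ℤ) - 1) :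
    ∃ ab ∈ T, (M.map (wt p e t)).sum = ab.1 ∧ ab.2.1 ≤ (M.map fun u => (deg e t u : ℤ) ^ 2).sum ∧
      ((M.map fun u => (deg e t u : ℤ) ^ 2).sum - ab.2.1) % (p : ℤ) ^ 2 = 0 ∧
      (M.map (lin p e t)).sum = ab.2.2 := by
  classical
  simp only [check₃, Bool.and_eq_true, List.all_eq_true, List.contains_eq_mem, decide_eq_true_eq] at hT
  obtain ⟨⟨h00, -⟩, hclosed⟩ := hT
  induction hk : Multiset.card M using Nat.strong_induction_on generalizing M with
  | _ k ih =>
  rcases M.empty_or_exists_mem with rfl | ⟨u, hu⟩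
  · exact ⟨(0, 0, 0), h00, by simp, by simp, by simp, by simp⟩
  obtain ⟨hper, hdD, hne⟩ := hgood u hu
  have hpt : Function.IsPeriodicPt rot t u := by
    show rot^[t] u = u
    rw [rot_iterate]
    exact Prod.ext rfl (funext hper)
  set s := Function.minimalPeriod rot u
  have hs : 0 < s := hpt.minimalPeriod_pos ht
  have hst : s ∣ t := hpt.minimalPeriod_dvd
  have hsper : ∀ i, u.2 (i + s) = u.2 i := fun i => by
    have h1 := Function.isPeriodicPt_minimalPeriod rot u
    rw [Function.IsPeriodicPt, Function.IsFixedPt, rot_iterate] at h1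
    exact congrFun (congrArg Prod.snd h1) i
  set O : Multiset Vec := (Multiset.range s).map (fun i => rot^[i] u)
  have hOn : O.Nodup := Multiset.Nodup.map_on (fun i hi j hj h =>
    (Function.iterate_eq_iterate_iff_of_lt_minimalPeriod (Multiset.mem_range.mp hi) (Multiset.mem_range.mp hj)).mp h)
    (Multiset.nodup_range s)
  have hmem : ∀ i, rot^[i] u ∈ M := by
    intro i
    induction i with
    | zero => exact hu
    | succ i ih => rw [Function.iterate_succ_apply', ← hM]; exact Multiset.mem_map_of_mem rot ih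
  have hOM : O ≤ M := (Multiset.le_iff_subset hOn).mpr fun v hv => by
    obtain ⟨i, -, rfl⟩ := Multiset.mem_map.mp hv
    exact hmem i
  have hOrot : O.map rot = O := by
    have hnd : (O.map rot).Nodup := by
      rw [Multiset.map_map]
      refine Multiset.Nodup.map_on (fun i hi j hj h => ?_) (Multiset.nodup_range s)
      simp only [Function.comp_apply, ← Function.iterate_succ_apply' rot] at h
      have h' := congrArg (rot^[t - 1]) h
      rw [← Function.iterate_add_apply, ← Function.iterate_add_apply,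
        show t - 1 + i.succ = i + t by omega, show t - 1 + j.succ = j + t by omega,
        Function.iterate_add_apply, Function.iterate_add_apply, hpt.eq] at h'
      exact (Function.iterate_eq_iterate_iff_of_lt_minimalPeriod (Multiset.mem_range.mp hi)
        (Multiset.mem_range.mp hj)).mp h'
    refine (Multiset.Nodup.ext hnd hOn).mpr fun v => ?_
    constructor
    · intro hv
      obtain ⟨w, hw', rfl⟩ := Multiset.mem_map.mp hv
      obtain ⟨i, -, rfl⟩ := Multiset.mem_map.mp hw'
      rw [← Function.iterate_succ_apply' rot, ← Function.iterate_mod_minimalPeriod_eq (f := rot) (x := u) (n := i.succ)]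
      exact Multiset.mem_map_of_mem (fun i => rot^[i] u) (Multiset.mem_range.mpr (Nat.mod_lt _ hs))
    · intro hv
      obtain ⟨i, hi, rfl⟩ := Multiset.mem_map.mp hv
      rw [← Function.iterate_mod_minimalPeriod_eq (f := rot) (x := u) (n := i)]
      refine Multiset.mem_map.mpr ⟨rot^[(i % s + (s - 1)) % s] u, Multiset.mem_map_of_mem _ (Multiset.mem_range.mpr (Nat.mod_lt _ hs)), ?_⟩
      rw [← Function.iterate_succ_apply' rot, ← Function.iterate_mod_minimalPeriod_eq (f := rot) (x := u) (n := ((i % s + (s - 1)) % s).succ)]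
      congr 1
      show ((i % s + (s - 1)) % s + 1) % s = i % s
      rw [Nat.mod_add_mod, show i % s + (s - 1) + 1 = i % s + s by omega, Nat.add_mod_right, Nat.mod_mod]
  set M' := M - O
  have hsplit : M' + O = M := tsub_add_cancel_of_le hOM
  have hM' : M'.map rot = M' := by
    have h1 : M'.map rot + O.map rot = M' + O := by rw [← Multiset.map_add, hsplit, hM]
    rwa [hOrot, add_left_inj] at h1
  have hOsum : ∀ F : Vec → ℤ, (∀ i, F (rot^[i] u) = F u) → (O.map F).sum = s * F u := by
    intro F hF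
    rw [Multiset.map_map, Function.comp_def, Multiset.map_congr rfl (g := fun _ => F u) (fun i _ => hF i), Multiset.map_const', Multiset.sum_replicate,
      Multiset.card_range, nsmul_eq_mul]
  have hwO := hOsum (wt p e t) fun i => (invariant_rot u hper i).1
  have hdO := hOsum (fun v => (deg e t v : ℤ) ^ 2) fun i => by rw [(invariant_rot (p := p) u hper i).2]
  have hwsum : (M.map (wt p e t)).sum = (M'.map (wt p e t)).sum + s * wt p e t u := by
    rw [← hsplit, Multiset.map_add, Multiset.sum_add, hwO]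
  have hdsum : (M.map fun v => (deg e t v : ℤ) ^ 2).sum =
      (M'.map fun v => (deg e t v : ℤ) ^ 2).sum + s * (deg e t u : ℤ) ^ 2 := by
    rw [← hsplit, Multiset.map_add, Multiset.sum_add, hdO]
  have hgO := hOsum (lin p e t) fun i => by
    simp only [lin, (invariant_rot (p := p) u hper i).2]
    rw [rot_iterate]
  have hgsum : (M.map (lin p e t)).sum = (M'.map (lin p e t)).sum + s * lin p e t u := by
    rw [← hsplit, Multiset.map_add, Multiset.sum_add, hgO]
  have hw0 := wt_nonneg hp u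
  have hs0 : (0 : ℤ) ≤ s := by positivity
  obtain ⟨ab, hab, ea, hb, hbm, hlin⟩ := ih (Multiset.card M') (by
      rw [← hk, ← hsplit, Multiset.card_add, Multiset.card_map, Multiset.card_range]; omega) M' hM'
    (fun v hv => hgood v (Multiset.mem_of_le tsub_le_self hv))
    (by linarith [mul_nonneg hs0 hw0]) (by linarith [mul_nonneg hs0 (sq_nonneg (deg e t u : ℤ))]) rfl
  -- the orbit in terms of deviations
  obtain ⟨q, hq⟩ := hst
  have hts : t / s = q := by rw [hq, Nat.mul_div_cancel_left _ hs]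
  set E : ℤ := ((e * (t / s) : ℕ) : ℤ) with hE
  set l : List ℤ := (List.range s).map fun i => (u.2 i : ℤ) - u.1 with hl
  have hqs : t = q * s := by rw [hq, mul_comm]
  have hsums : ∀ F : ℕ → ℤ, ∑ i ∈ range t, F (u.2 i) = (q : ℤ) * ∑ i ∈ range s, F (u.2 i) := by
    intro F
    rw [hqs, sum_periodic (fun i => F (u.2 i)) s (fun i => by show F _ = F _; rw [hsper]) q, nsmul_eq_mul]
  have e1 : ∀ f : ℕ → ℤ, ((List.range s).map f).sum = ∑ i ∈ range s, f i := fun f => by
    rw [Finset.sum_eq_multiset_sum, Finset.range_val, ← Multiset.coe_range, Multiset.map_coe, Multiset.sum_coe]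
  have hpE : (p : ℤ) = 1 + E * s := by
    rw [hE, hts, hp, hqs]; push_cast; ring
  have hdeg : (deg e t u : ℤ) = p * u.1 + E * l.sum := by
    have h1 : ∑ i ∈ range t, (u.2 i : ℤ) = (q : ℤ) * ∑ i ∈ range s, (u.2 i : ℤ) := hsums (fun x => (x : ℤ))
    rw [hpE, hE, hts, hl, e1, Finset.sum_sub_distrib, Finset.sum_const, card_range, nsmul_eq_mul, deg]
    push_cast
    rw [h1]
    ring
  have hwt : wt p e t u = p * E * (l.map fun x => x * x).sum - (E * l.sum) ^ 2 := by
    have h2 : ∑ i ∈ range t, (u.2 i : ℤ) ^ 2 = (q : ℤ) * ∑ i ∈ range s, (u.2 i : ℤ) ^ 2 := hsums (fun x => (x : ℤ) ^ 2)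
    have h3 : (l.map fun x => x * x).sum =
        ∑ i ∈ range s, (u.2 i : ℤ) ^ 2 - 2 * u.1 * ∑ i ∈ range s, (u.2 i : ℤ) + s * (u.1 : ℤ) ^ 2 := by
      rw [hl, List.map_map, e1, Finset.mul_sum, ← Finset.sum_sub_distrib,
        Finset.sum_congr rfl (fun i _ => show (((fun x : ℤ => x * x) ∘ fun i => (u.2 i : ℤ) - u.1) i) =
          ((u.2 i : ℤ) ^ 2 - 2 * u.1 * u.2 i) + (u.1 : ℤ) ^ 2 by simp only [Function.comp_apply]; ring),
        Finset.sum_add_distrib, Finset.sum_const, card_range, nsmul_eq_mul]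
    rw [wt, h2, h3, hdeg, hl, e1, Finset.sum_sub_distrib, Finset.sum_const, card_range, nsmul_eq_mul, hpE, hE, hts]
    push_cast
    ring
  rcases eq_or_ne (wt p e t u) 0 with h0 | h0
  · -- a vector of weight zero has degree divisible by `p`
    have hsum0 : l.sum = 0 := by
      have hz : ∀ x ∈ l, E * (x * x) ≤ 0 := fun x hx => by
        refine (dev_ge (E := E) (Int.natCast_nonneg _) l x hx).trans (le_of_eq ?_)
        rw [dev, hl, List.length_map, List.length_range, ← hl, ← hpE]
        rw [hwt] at h0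
        linarith
      have hEpos : 0 < E := by
        rw [hE, hts]; exact Int.natCast_pos.mpr (Nat.mul_pos he (Nat.pos_of_ne_zero fun h => by
          rw [h, zero_mul] at hqs; omega))
      exact List.sum_eq_zero fun x hx => by
        have h2 : x * x ≤ 0 := nonpos_of_mul_nonpos_right (hz x hx) hEpos
        exact mul_self_eq_zero.mp (le_antisymm h2 (mul_self_nonneg x))
    have hlin0 : lin p e t u = 0 := by rw [lin, hdeg, hsum0]; ring
    refine ⟨ab, hab, by rw [hwsum, h0, mul_zero, add_zero, ea], by rw [hdsum]; linarith [mul_nonneg hs0 (sq_nonneg (deg e t u : ℤ))], ?_,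
      by rw [hgsum, hlin0, mul_zero, add_zero, hlin]⟩
    have hdvd : (p : ℤ) ^ 2 ∣ (deg e t u : ℤ) ^ 2 := ⟨(u.1 : ℤ) ^ 2, by
        rw [hdeg, hsum0, mul_zero, add_zero]
        ring⟩
    rw [hdsum]
    refine Int.emod_eq_zero_of_dvd ?_
    have h1 := Int.dvd_of_emod_eq_zero hbm
    rw [show (M'.map fun v => (deg e t v : ℤ) ^ 2).sum + s * (deg e t u : ℤ) ^ 2 - ab.2.1 =
      ((M'.map fun v => (deg e t v : ℤ) ^ 2).sum - ab.2.1) + s * (deg e t u : ℤ) ^ 2 by ring]
    exact dvd_add h1 (hdvd.mul_left _)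
  -- apply the table
  have hB : (s : ℤ) * wt p e t u ≤ ((p : ℤ) - 1) ^ 2 := by
    have : 0 ≤ (M'.map (wt p e t)).sum := Multiset.sum_nonneg fun x hx => by
      obtain ⟨v, -, rfl⟩ := Multiset.mem_map.mp hx; exact wt_nonneg hp v
    linarith
  have hE0 : 0 ≤ E := Int.natCast_nonneg _
  have hmemdev : l ∈ devs E ((((p : ℤ) - 1) ^ 2) / s)
      (Nat.sqrt (((((p : ℤ) - 1) ^ 2) / s).toNat / (e * (t / s)))) s := by
    have hlen : l.length = s := by rw [hl, List.length_map, List.length_range]
    suffices h : l ∈ devs E ((((p : ℤ) - 1) ^ 2) / s)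
        (Nat.sqrt (((((p : ℤ) - 1) ^ 2) / s).toNat / (e * (t / s)))) l.length by rwa [hlen] at h
    refine mem_devs hE0 (fun x hx => ?_) l ?_
    · rw [Nat.le_sqrt, Nat.le_div_iff_mul_le (by
        rw [hts]; refine Nat.mul_pos he (Nat.pos_of_ne_zero fun h => ?_)
        rw [h, zero_mul] at hqs; omega)]
      have h1 : ((x.natAbs * x.natAbs * (e * (t / s)) : ℕ) : ℤ) = E * (x * x) := by
        rw [hE]; push_cast; rw [abs_mul_abs_self]; ring
      omega
    · rw [Int.le_ediv_iff_mul_le (by exact_mod_cast hs), dev, hl, List.length_map, List.length_range, ← hl, ← hpE,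
        mul_comm _ (s : ℤ)]
      rw [hwt] at hB
      linarith
  have hcl := hclosed s (by
      rw [List.mem_filter, List.mem_range, decide_eq_true_eq]
      exact ⟨Nat.lt_succ_of_le (Nat.le_of_dvd ht ⟨q, hq⟩), hs, Nat.mod_eq_zero_of_dvd ⟨q, hq⟩ |>.trans rfl⟩) l hmemdev _ hdD
  have hp0 : (p : ℤ) ≠ 0 := by rw [hp]; positivity
  have hm : ((deg e t u : ℤ) - E * l.sum) / p = u.1 := by
    rw [hdeg, add_sub_cancel_right, Int.mul_ediv_cancel_left _ hp0]
  unfold closedFor₃ at hcl
  simp only [← hE, hm, ← hwt] at hcl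
  rw [if_pos] at hcl
  · simp only [List.all_eq_true] at hcl
    have h := hcl ab hab
    rw [if_pos ⟨by linarith, by linarith⟩] at h
    simp only [List.contains_eq_mem, decide_eq_true_eq] at h
    refine ⟨_, h, by rw [hwsum, ea], by rw [hdsum]; linarith, ?_, ?_⟩
    · rw [hdsum]
      simpa using hbm
    · rw [hgsum, hlin, lin, hdeg]; ring
  · refine ⟨by rw [hdeg]; ring, by positivity, fun h => hne (by exact_mod_cast h.symm), fun x hx => ?_, h0⟩
    obtain ⟨i, -, rfl⟩ := List.mem_map.mp (hl ▸ hx)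
    linarith [Int.natCast_nonneg (u.2 i)]

/-- The table refutes an exact decomposition. -/
theorem no_decomposition₃ (hp : p = 1 + e * t) (he : 0 < e) (ht : 0 < t) {D : List ℕ} {T : List (ℤ × ℤ × ℤ)}
    (hT : check₃ n p e t D T = true) (M : Multiset Vec) (hM : M.map rot = M)
    (hgood : ∀ u ∈ M, (∀ i, u.2 (i + t) = u.2 i) ∧ deg e t u ∈ D ∧ deg e t u ≠ u.1)
    (hw : (M.map (wt p e t)).sum = ((p : ℤ) - 1) ^ 2)
    (hd : (M.map fun u => (deg e t u : ℤ) ^ 2).sum = (n : ℤ) - 1)
    (hl : (M.map (lin p e t)).sum = (p : ℤ) - 1) : False := by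
  obtain ⟨ab, hab, ea, hb, hbm, hlin⟩ := reach₃ hp he ht hT M hM hgood hw.le hd.le
  rw [hl] at hlin
  simp only [check₃, Bool.and_eq_true, List.all_eq_true] at hT
  have h := hT.1.2 ab hab
  rw [hd] at hbm hb
  rw [hw] at ea
  simp [← ea, hb, hbm, ← hlin] at h

end CfsgLib.ColumnTable
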