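import Cfsg.Agent.SmallSimple.FixedPoints
import Cfsg.Agent.SmallSimple.OneSixtyEight

/-!
# Tools for the local structure of a simple group of order 7920
-/

set_option autoImplicit false
set_option linter.style.haveILetI false

namespace CfsgLib.Order7920

open MulAction Subgroup CfsgLib.FixedPoints

section General

variable {G : Type*} [Group G] [Finite G]

omit [Finite G] in
theorem centralizer_zpowers (g : G) :
    centralizer ((zpowers g : Subgroup G) : Set G) = centralizer ({g} : Set G) := by
  rw [zpowers_eq_closure, centralizer_closure]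

omit [Finite G] in
theorem centralizer_le (g : G) :
    centralizer ({g} : Set G) ≤ normalizer ((zpowers g : Subgroup G) : Set G) :=
  centralizer_zpowers g ▸ centralizer_le_normalizer _

omit [Finite G] in
theorem conj_mem_zpowers {g n : G} (hn : n ∈ normalizer ((zpowers g : Subgroup G) : Set G)) :
    n * g * n⁻¹ ∈ zpowers g :=
  (mem_normalizer_iff.1 hn g).1 (mem_zpowers g)

theorem mem_normalizer_zpowers {g n : G} (h : n * g * n⁻¹ ∈ zpowers g) :
    n ∈ normalizer ((zpowers g : Subgroup G) : Set G) := by
  have hz : zpowers (n * g * n⁻¹) = zpowers g :=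
    eq_of_le_of_card_ge (zpowers_le.2 h) (by
      rw [Nat.card_zpowers, Nat.card_zpowers, show n * g * n⁻¹ = MulAut.conj n g from rfl,
        MulEquiv.orderOf_eq])
  refine mem_normalizer_iff.2 fun b => ⟨fun hb => ?_, fun hb => ?_⟩
  · obtain ⟨j, rfl⟩ := hb
    exact hz ▸ ⟨j, conj_zpow⟩
  · rw [← hz] at hb
    obtain ⟨j, hj⟩ := hb
    exact ⟨j, (MulAut.conj n).injective ((map_zpow _ g j).trans hj)⟩

theorem orderOf_mem_dvd {H : Subgroup G} {g : G} (hg : g ∈ H) : orderOf g ∣ Nat.card H := by
  rw [← Subgroup.orderOf_mk (a := g) hg]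
  exact orderOf_dvd_natCard _

theorem normalizer_dvd {p : ℕ} [Fact p.Prime] {g : G} (hg : orderOf g = p) :
    Nat.card (normalizer ((zpowers g : Subgroup G) : Set G)) ∣
      Nat.card (centralizer ({g} : Set G)) * (p - 1) := by
  rw [← centralizer_zpowers]
  exact CfsgLib.PermSimple.normalizer_card_dvd _ (by rw [Nat.card_zpowers, hg])

theorem exists_orderOf_mem {p : ℕ} [hp : Fact p.Prime] {H : Subgroup G} (h : p ∣ Nat.card H) :
    ∃ v ∈ H, orderOf v = p := by
  obtain ⟨v, hv⟩ := exists_prime_orderOf_dvd_card' p h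
  exact ⟨v, v.2, by rw [Subgroup.orderOf_coe, hv]⟩

theorem commute_of_mem {g v : G} (hv : v ∈ centralizer ({g} : Set G)) : Commute v g :=
  mem_centralizer_singleton_iff.1 hv

theorem normalizer_ne [IsSimpleGroup G] {p : ℕ} [hp : Fact p.Prime] (hsq : ¬ p ^ 2 ∣ Nat.card G)
    (hlt : p < Nat.card G) {g : G} (hg : orderOf g = p) :
    normalizer ((zpowers g : Subgroup G) : Set G) ≠ centralizer ({g} : Set G) := by
  intro he
  let P : Sylow p G := Sylow.ofCard (zpowers g) (by
    rw [Nat.card_zpowers, hg,
      factorization_eq_one hp.out Nat.card_pos.ne' (hg ▸ orderOf_dvd_natCard g) hsq, pow_one])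
  refine CfsgLib.SmallSimple.not_le_centralizer P ?_ ?_ ?_
  · show 1 < Nat.card (zpowers g)
    rw [Nat.card_zpowers, hg]; exact hp.out.one_lt
  · show Nat.card (zpowers g) < Nat.card G
    rw [Nat.card_zpowers, hg]; exact hlt
  · show normalizer ((zpowers g : Subgroup G) : Set G) ≤ centralizer ((zpowers g : Subgroup G) : Set G)
    rw [centralizer_zpowers]; exact he.le

theorem lt_of_ne_card {A B : Subgroup G} (hle : A ≤ B) (hne : A ≠ B) :
    Nat.card A < Nat.card B :=
  lt_of_not_ge fun h => hne (eq_of_le_of_card_ge hle h)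

/-- Facts on a group of order 120 with a central involution, six Sylow 5-subgroups and no element
of order 15. -/
theorem one_twenty (hK : Nat.card G = 120) {t : G} (htc : t ∈ center G) (ht : orderOf t = 2)
    {y : G} (hy : orderOf y = 5) (hC : Nat.card (centralizer ({y} : Set G)) = 10)
    (hN : Nat.card (normalizer ((zpowers y : Subgroup G) : Set G)) = 20) :
    Nat.card {s : G // orderOf s = 2} ≤ 31 ∧
      ∃ z : G, orderOf z = 3 ∧ ∀ s : G, orderOf s = 2 → Commute s z → s = t := by
  classical
  haveI := Fintype.ofFinite G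
  haveI : Fact (Nat.Prime 2) := ⟨Nat.prime_two⟩
  haveI : Fact (Nat.Prime 3) := ⟨by norm_num⟩
  haveI : Fact (Nat.Prime 5) := ⟨by norm_num⟩
  obtain ⟨z, hz⟩ := exists_prime_orderOf_dvd_card' (G := G) 3 (by rw [hK]; norm_num)
  set M := normalizer ((zpowers z : Subgroup G) : Set G)
  have h3 : ¬ 3 ^ 2 ∣ Nat.card G := by rw [hK]; norm_num
  have h5 : ¬ 5 ^ 2 ∣ Nat.card G := by rw [hK]; norm_num
  obtain ⟨k, hk3, hk⟩ := exists_count h3 hz (H := ⊤) (mem_top z)
  rw [inf_top_eq, card_top, hK] at hk
  have hzM : z ∈ M := le_normalizer (mem_zpowers z)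
  have htz : Commute t z := (mem_center_iff.1 htc z).symm
  have htM : t ∈ M := centralizer_le z (mem_centralizer_singleton_iff.2 htz.eq)
  have hdC := normalizer_dvd hz
  -- no element of order five normalizes `⟨z⟩`
  have hM5 : ¬ 5 ∣ Nat.card M := by
    intro hd
    have h5C : 5 ∣ Nat.card (centralizer ({z} : Set G)) :=
      (Nat.Coprime.dvd_mul_right (by norm_num)).1 (hd.trans hdC)
    obtain ⟨y', hy'C, hy'⟩ := exists_orderOf_mem h5C
    obtain ⟨a, ha⟩ := sylow_conj h5 hy hy'
    have hzp := zpowers_eq_of_mem hy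
      (show orderOf (a * y' * a⁻¹) = 5 from ((MulAut.conj a).orderOf_eq y').trans hy') ha
    have hcomm : Commute (a * z * a⁻¹) (a * y' * a⁻¹) :=
      (commute_of_mem hy'C).symm.map (MulAut.conj a)
    have hzy : a * z * a⁻¹ ∈ centralizer ({y} : Set G) := by
      rw [← centralizer_zpowers, ← hzp, centralizer_zpowers]
      exact mem_centralizer_singleton_iff.2 hcomm.eq
    have h := orderOf_mem_dvd hzy
    rw [show a * z * a⁻¹ = MulAut.conj a z from rfl, MulEquiv.orderOf_eq, hz, hC] at h
    norm_num at h
  have h6 : 6 ∣ Nat.card M := Nat.Coprime.mul_dvd_of_dvd_of_dvd (by norm_num)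
    (ht ▸ orderOf_mem_dvd htM) (hz ▸ orderOf_mem_dvd hzM)
  have hk10 : k = 10 ∧ Nat.card M = 12 := by
    obtain ⟨q, hq⟩ := h6
    rw [hq] at hk hM5
    have hkd : k ∣ 20 := ⟨q, by linarith⟩
    have hkle := Nat.le_of_dvd (by norm_num) hkd
    interval_cases k <;> omega
  -- counting elements of orders three and five
  obtain ⟨k5, hk5, hk5'⟩ := exists_count h5 hy (H := ⊤) (mem_top y)
  rw [inf_top_eq, card_top, hK, hN] at hk5'
  have hsyl : ∀ {p : ℕ} [Fact p.Prime], p ∣ Nat.card G → ¬ p ^ 2 ∣ Nat.card G →
      ∀ Q : Sylow p G, Nat.card (Q : Subgroup G) = p := by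
    intro p hp h1 h2 Q
    rw [Q.card_eq_multiplicity, factorization_eq_one hp.out Nat.card_pos.ne' h1 h2, pow_one]
  have hcnt : ∀ {p : ℕ} [Fact p.Prime], p ∣ Nat.card G → ¬ p ^ 2 ∣ Nat.card G → ∀ {g : G},
      orderOf g = p → ∀ m, Nat.card (normalizer ((zpowers g : Subgroup G) : Set G)) = m →
      Nat.card {h : G // orderOf h = p} * m = (p - 1) * 120 := by
    intro p hp h1 h2 g hg m hm
    let P : Sylow p G := Sylow.ofCard (zpowers g) (by
      rw [Nat.card_zpowers, hg, factorization_eq_one hp.out Nat.card_pos.ne' h1 h2, pow_one])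
    have h := CfsgLib.SmallSimple.card_sylow_mul P
    rw [show ((P : Subgroup G) : Set G) = ((zpowers g : Subgroup G) : Set G) from rfl, hm, hK] at h
    rw [CfsgLib.Simple168.card_orderOf_prime (hsyl h1 h2), mul_comm (Nat.card (Sylow p G)),
      mul_assoc, h]
  have c3 := hcnt (p := 3) (by rw [hK]; norm_num) h3 hz 12 hk10.2
  have c5 := hcnt (p := 5) (by rw [hK]; norm_num) h5 hy 20 hN
  refine ⟨?_, z, hz, ?_⟩
  · let A := {h : G // orderOf h = 3} ⊕ {h : G // orderOf h = 5}
    let val : A → G := Sum.elim Subtype.val Subtype.val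
    let f : A × Bool → {s : G // ¬ orderOf s = 2} := fun a =>
      ⟨val a.1 * (if a.2 then t else 1), by
        have hv : orderOf (val a.1) = 3 ∨ orderOf (val a.1) = 5 := by
          rcases a.1 with g | g
          · exact Or.inl g.2
          · exact Or.inr g.2
        split_ifs
        · have hc : Commute (val a.1) t := mem_center_iff.1 htc _
          rw [hc.orderOf_mul_eq_mul_orderOf_of_coprime (by rcases hv with h | h <;> rw [h, ht] <;> norm_num),
            ht]
          rcases hv with h | h <;> rw [h] <;> norm_num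
        · rw [mul_one]
          rcases hv with h | h <;> rw [h] <;> norm_num⟩
    have hf : Function.Injective f := by
      intro a b hab
      have h := congrArg Subtype.val hab
      simp only [f] at h
      have hsq : ∀ c : A × Bool, (val c.1 * (if c.2 then t else 1)) ^ 16 = val c.1 := by
        intro c
        have hc : Commute (val c.1) t := mem_center_iff.1 htc _
        have h15 : val c.1 ^ 15 = 1 := by
          rw [← orderOf_dvd_iff_pow_eq_one]
          rcases c.1 with g | g
          · simp only [val, Sum.elim_inl, g.2]; norm_num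
          · simp only [val, Sum.elim_inr, g.2]; norm_num
        have h16 : (if c.2 then t else 1) ^ 16 = (1 : G) := by
          split_ifs
          · rw [← orderOf_dvd_iff_pow_eq_one, ht]; norm_num
          · simp
        rw [Commute.mul_pow (by split_ifs <;> simp [hc]), h16, mul_one, pow_succ, h15, one_mul]
      have h1 : val a.1 = val b.1 := by rw [← hsq a, ← hsq b, h]
      have h2 : a.1 = b.1 := by
        rcases ha : a.1 with g | g <;> rcases hb : b.1 with g' | g' <;>
          rw [ha, hb] at h1 <;> simp only [val, Sum.elim_inl, Sum.elim_inr] at h1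
        · exact congrArg Sum.inl (Subtype.ext h1)
        · exfalso; have := g'.2; rw [← h1, g.2] at this; norm_num at this
        · exfalso; have := g'.2; rw [← h1, g.2] at this; norm_num at this
        · exact congrArg Sum.inr (Subtype.ext h1)
      rw [h1] at h
      refine Prod.ext h2 ?_
      have h3 := mul_left_cancel h
      have ht1 : t ≠ 1 := fun h0 => by rw [h0, orderOf_one] at ht; norm_num at ht
      cases ha : a.2 <;> cases hb : b.2 <;> simp [ha, hb, ht1, eq_comm] at h3 ⊢
    have h1 : Nat.card (A × Bool) + 1 ≤ Nat.card {s : G // ¬ orderOf s = 2} := by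
      rw [← Finite.card_option]
      refine Nat.card_le_card_of_injective
        (fun o => o.elim ⟨1, by rw [orderOf_one]; norm_num⟩ f) ?_
      have hne : ∀ a, f a ≠ ⟨1, by rw [orderOf_one]; norm_num⟩ := by
        intro a ha
        have h := congrArg Subtype.val ha
        simp only [f] at h
        have hp : val a.1 ^ 2 = 1 := by
          rw [eq_inv_of_mul_eq_one_left h]
          split_ifs
          · rw [inv_pow, inv_eq_one, ← orderOf_dvd_iff_pow_eq_one, ht]
          · simp
        rw [← orderOf_dvd_iff_pow_eq_one] at hp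
        obtain ⟨g | g, b⟩ := a
        · simp only [val, Sum.elim_inl, g.2] at hp; norm_num at hp
        · simp only [val, Sum.elim_inr, g.2] at hp; norm_num at hp
      rintro (_ | a) (_ | b) h
      · rfl
      · exact absurd h.symm (hne b)
      · exact absurd h (hne a)
      · exact congrArg some (hf h)
    have h2 : Nat.card {s : G // orderOf s = 2} + Nat.card {s : G // ¬ orderOf s = 2} = 120 := by
      rw [← Nat.card_sum, Nat.card_congr (Equiv.sumCompl _), hK]
    rw [Nat.card_prod, Nat.card_sum, Nat.card_eq_fintype_card (α := Bool), Fintype.card_bool] at h1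
    omega
  · -- the centralizer of `z` has order six
    set C := centralizer ({z} : Set G)
    have hCM : C ≤ M := centralizer_le z
    have hC6 : 6 ∣ Nat.card C := Nat.Coprime.mul_dvd_of_dvd_of_dvd (by norm_num)
      (ht ▸ orderOf_mem_dvd (mem_centralizer_singleton_iff.2 htz.eq))
      (hz ▸ orderOf_mem_dvd (mem_centralizer_singleton_iff.2 rfl))
    have hCd : Nat.card C ∣ 12 := hk10.2 ▸ card_dvd_of_le hCM
    have hC12 : Nat.card C ≠ 12 := by
      intro h12
      have hMC : M = C := (eq_of_le_of_card_ge hCM (by rw [h12, hk10.2])).symm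
      let P : Sylow 3 G := Sylow.ofCard (zpowers z) (by
        rw [Nat.card_zpowers, hz,
          factorization_eq_one (by norm_num) Nat.card_pos.ne' (hz ▸ orderOf_dvd_natCard z) h3,
          pow_one])
      have hPC : normalizer ((P : Subgroup G) : Set G) ≤ centralizer ((P : Subgroup G) : Set G) := by
        show normalizer ((zpowers z : Subgroup G) : Set G) ≤ _
        rw [show centralizer ((P : Subgroup G) : Set G) = C from centralizer_zpowers z]
        exact hMC.le
      have hcomp := MonoidHom.ker_transferSylow_isComplement' P hPC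
      set K0 := (MonoidHom.transferSylow P hPC).ker
      have hmul := hcomp.card_mul_card
      rw [show Nat.card (P : Subgroup G) = 3 by
        show Nat.card (zpowers z) = 3; rw [Nat.card_zpowers, hz], hK] at hmul
      have hidx : K0.index = 3 := by
        have := K0.card_mul_index
        rw [hK] at this
        nlinarith
      have hyK : ∀ g : G, orderOf g = 5 → g ∈ K0 := by
        intro g hg
        rw [← QuotientGroup.eq_one_iff, ← orderOf_eq_one_iff]
        refine Nat.eq_one_of_dvd_coprimes (show Nat.Coprime 5 3 by norm_num)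
          (hg ▸ orderOf_map_dvd (QuotientGroup.mk' K0) g) ?_
        have h := orderOf_dvd_natCard (QuotientGroup.mk' K0 g)
        rw [← Subgroup.index_eq_card, hidx] at h
        exact h
      obtain ⟨k0, hk0, hk0'⟩ := exists_count h5 hy (H := K0) (hyK y hy)
      have h5d : 5 ∣ Nat.card (normalizer ((zpowers y : Subgroup G) : Set G) ⊓ K0 : Subgroup G) :=
        hy ▸ orderOf_mem_dvd (mem_inf.2 ⟨le_normalizer (mem_zpowers y), hyK y hy⟩)
      obtain ⟨r, hr⟩ := h5d
      have h40 : Nat.card K0 = 40 := by omega
      rw [h40, hr] at hk0'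
      have hk8 : k0 ∣ 8 := ⟨r, by linarith⟩
      have hk8' := Nat.le_of_dvd (by norm_num) hk8
      have hk1 : k0 = 1 := by interval_cases k0 <;> omega
      have hle := Nat.le_of_dvd (by rw [hN]; norm_num)
        (card_dvd_of_le (inf_le_left : normalizer ((zpowers y : Subgroup G) : Set G) ⊓ K0 ≤ _))
      rw [hN, hr] at hle
      subst hk1
      omega
    have hCeq : Nat.card C = 6 := by
      obtain ⟨q, hq⟩ := hC6
      rw [hq] at hCd hC12 ⊢
      have := Nat.le_of_dvd (by norm_num) hCd
      rcases q with _ | _ | _ | q <;> omega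
    intro s hs hsz
    have hsC : s ∈ C := mem_centralizer_singleton_iff.2 hsz.eq
    have htC : t ∈ C := mem_centralizer_singleton_iff.2 htz.eq
    have hsq2 : ¬ 2 ^ 2 ∣ Nat.card C := by rw [hCeq]; norm_num
    obtain ⟨a, ha⟩ := sylow_conj hsq2 (g := (⟨t, htC⟩ : C)) (g' := (⟨s, hsC⟩ : C))
      (by rw [Subgroup.orderOf_mk, ht]) (by rw [Subgroup.orderOf_mk, hs])
    obtain ⟨i, hi⟩ := ha
    have hi' : t ^ i = (a : G) * s * (a : G)⁻¹ := congrArg Subtype.val hi
    have hs' : s = (a : G)⁻¹ * t ^ i * (a : G) := by rw [hi']; group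
    have hti : (a : G)⁻¹ * t ^ i * (a : G) = t ^ i := by
      have hc : Commute (a : G)⁻¹ (t ^ i) :=
        Commute.zpow_right (mem_center_iff.1 htc _) i
      rw [hc.eq, inv_mul_cancel_right]
    rw [hti] at hs'
    have hmem : s ∈ zpowers t := hs' ▸ ⟨i, rfl⟩
    classical
    obtain ⟨j, hj, rfl⟩ := Finset.mem_image.1 ((mem_zpowers_iff_mem_range_orderOf).1 hmem)
    rw [Finset.mem_range, ht] at hj
    interval_cases j
    · rw [pow_zero, orderOf_one] at hs; norm_num at hs
    · rw [pow_one]

end General

end CfsgLib.Order7920
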