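import Mathlib

/-!
# A finite check behind the character degrees of a simple group of order 7920
-/

set_option autoImplicit false

namespace CfsgLib.Degrees7920

/-- A row: the degree, four times the squared norm at an element of order eleven, twice the real
part there, and the value at an element of order five. -/
abbrev Row : Type := ℕ × ℕ × ℤ × ℤ

/-- The possible rows. -/
def table : List Row := [(8, 36, 5, -2), (48, 20, -3, -2), (18, 20, 3, -2), (72, 12, 1, 2), (12, 4, 2, 2), (88, 0, 0, -2), (33, 0, 0, -2), (22, 0, 0, 2), (36, 36, 6, 1), (36, 36, -5, 1), (24, 16, 4, -1), (16, 12, -1, 1), (6, 12, 1, 1), (66, 0, 0, 1), (44, 0, 0, -1), (11, 0, 0, 1), (80, 36, -5, 0), (80, 36, 6, 0), (30, 36, 5, 0), (30, 36, -6, 0), (40, 20, 3, 0), (15, 20, -3, 0), (20, 16, -4, 0), (60, 12, -1, 0), (5, 12, -1, 0), (45, 4, 2, 0), (10, 4, -2, 0), (55, 0, 0, 0)]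

/-- The rows of the nontrivial characters. -/
def target : List Row := [(55, 0, 0, 0), (10, 4, -2, 0), (10, 4, -2, 0), (10, 4, -2, 0), (45, 4, 2, 0), (11, 0, 0, 1), (44, 0, 0, -1), (16, 12, -1, 1), (16, 12, -1, 1)]

/-- Every way of completing the remaining totals by rows from the list gives the target. -/
def search : List Row → ℕ → ℕ → ℕ → ℤ → ℤ → ℤ → List Row → Bool
  | [], r, n, y, a, b, c, acc =>
    if r = 0 ∧ n = 0 ∧ y = 0 ∧ a = 0 ∧ b = 0 ∧ c = 0 then decide (acc = target) else true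
  | t :: L, r, n, y, a, b, c, acc => (List.range (r / (t.1 * t.1) + 1)).all fun k =>
    if k * (t.1 * t.1) ≤ r ∧ k * t.2.1 ≤ n ∧ k * t.2.2.2.natAbs ^ 2 ≤ y then
      search L (r - k * (t.1 * t.1)) (n - k * t.2.1) (y - k * t.2.2.2.natAbs ^ 2)
        (a - k * (t.1 * t.2.2.1)) (b - k * (t.1 * t.2.2.2)) (c - k * (t.2.2.1 * t.2.2.2))
        (List.replicate k t ++ acc)
    else true

theorem search_sound : ∀ (L : List Row), (∀ t ∈ L, 0 < t.1) →
    ∀ (r n y : ℕ) (a b c : ℤ) (acc : List Row), search L r n y a b c acc = true →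
    ∀ m : Multiset Row, (∀ t ∈ m, t ∈ L) → (m.map fun t => t.1 * t.1).sum = r →
      (m.map fun t => t.2.1).sum = n → (m.map fun t => t.2.2.2.natAbs ^ 2).sum = y →
      (m.map fun t => (t.1 : ℤ) * t.2.2.1).sum = a → (m.map fun t => (t.1 : ℤ) * t.2.2.2).sum = b →
      (m.map fun t => t.2.2.1 * t.2.2.2).sum = c → m + ↑acc = ↑target
  | [], _, r, n, y, a, b, c, acc, h, m, hm, h1, h2, h3, h4, h5, h6 => by
    have h0 : m = 0 := Multiset.eq_zero_of_forall_notMem fun t ht => List.not_mem_nil (hm t ht)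
    subst h0
    simp only [Multiset.map_zero, Multiset.sum_zero] at h1 h2 h3 h4 h5 h6
    subst h1 h2 h3 h4 h5 h6
    simp only [search, and_self, if_true, decide_eq_true_eq] at h
    rw [h, zero_add]
  | t :: L, hpos, r, n, y, a, b, c, acc, h, m, hm, h1, h2, h3, h4, h5, h6 => by
    classical
    set k := m.count t
    have hsplit : m = Multiset.replicate k t + m.filter (fun s => ¬ s = t) := by
      conv_lhs => rw [← Multiset.filter_add_not (fun s => s = t) m, Multiset.filter_eq' m t]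
    set m' := m.filter (fun s => ¬ s = t) with hm'
    have hk : k * (t.1 * t.1) + (m'.map fun t => t.1 * t.1).sum = r ∧
        k * t.2.1 + (m'.map fun t => t.2.1).sum = n ∧
        k * t.2.2.2.natAbs ^ 2 + (m'.map fun t => t.2.2.2.natAbs ^ 2).sum = y ∧
        (k : ℤ) * (t.1 * t.2.2.1) + (m'.map fun t => (t.1 : ℤ) * t.2.2.1).sum = a ∧
        (k : ℤ) * (t.1 * t.2.2.2) + (m'.map fun t => (t.1 : ℤ) * t.2.2.2).sum = b ∧
        (k : ℤ) * (t.2.2.1 * t.2.2.2) + (m'.map fun t => t.2.2.1 * t.2.2.2).sum = c := by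
      rw [hsplit] at h1 h2 h3 h4 h5 h6
      simp only [Multiset.map_add, Multiset.map_replicate, Multiset.sum_add, Multiset.sum_replicate,
        nsmul_eq_mul, Nat.cast_id] at h1 h2 h3 h4 h5 h6
      exact ⟨h1, h2, h3, h4, h5, h6⟩
    obtain ⟨k1, k2, k3, k4, k5, k6⟩ := hk
    have ht : 0 < t.1 * t.1 := Nat.mul_pos (hpos t (List.mem_cons_self ..)) (hpos t (List.mem_cons_self ..))
    have hkr : k ∈ List.range (r / (t.1 * t.1) + 1) :=
      List.mem_range.2 (Nat.lt_succ_of_le ((Nat.le_div_iff_mul_le ht).2 (by omega)))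
    rw [search, List.all_eq_true] at h
    have h' := h k hkr
    rw [if_pos ⟨by omega, by omega, by omega⟩] at h'
    have hrec := search_sound L (fun s hs => hpos s (List.mem_cons_of_mem _ hs)) _ _ _ _ _ _ _ h' m'
      (fun s hs => by
        rw [hm', Multiset.mem_filter] at hs
        exact (List.mem_cons.1 (hm s hs.1)).resolve_left hs.2)
      (by omega) (by omega) (by omega) (by omega) (by omega) (by omega)
    rw [← hrec, hsplit, ← Multiset.coe_add, Multiset.coe_replicate]
    abel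

theorem search_table : search table 7919 40 4 (-2) (-1) (-2) [] = true := by decide +kernel

/-- The rows passing the arithmetic conditions lie in the table. -/
def covers : Bool :=
  (List.range 89).all fun d => !decide (d ∣ 7920) || (List.range (d / 5 + 1)).all fun c₁ =>
    (List.range (d / 5 + 1)).all fun c₂ =>
      !decide (5 * (c₁ + c₂) ≤ d ∧ 0 < c₁ + c₂) ||
      (let r : ℤ := 2 * ((d : ℤ) - 5 * (c₁ + c₂)) - c₁ - c₂
       let n : ℤ := r * r + 11 * ((c₁ : ℤ) - c₂) * ((c₁ : ℤ) - c₂)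
       !decide (n ≤ 40) || (List.range (d / 4 + 1)).all fun e =>
         !decide (0 < e ∧ ((d : ℤ) - 5 * e) * ((d : ℤ) - 5 * e) ≤ 4) ||
           table.contains (d, n.toNat, r, (d : ℤ) - 5 * e))

theorem covers_true : covers = true := by decide +kernel

theorem mem_table {d c₁ c₂ e n : ℕ} {r w : ℤ} (hd : d < 89) (hdvd : d ∣ 7920)
    (hc : 5 * (c₁ + c₂) ≤ d) (hc' : 0 < c₁ + c₂) (he : 4 * e ≤ d) (he' : 0 < e)
    (hr : r = 2 * ((d : ℤ) - 5 * (c₁ + c₂)) - c₁ - c₂)
    (hn : (n : ℤ) = r * r + 11 * ((c₁ : ℤ) - c₂) * ((c₁ : ℤ) - c₂)) (hn' : n ≤ 40)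
    (hw : w = (d : ℤ) - 5 * e) (hw' : w * w ≤ 4) : (d, n, r, w) ∈ table := by
  have h := covers_true
  simp only [covers, List.all_eq_true, List.mem_range, Bool.or_eq_true, Bool.not_eq_true',
    decide_eq_false_iff_not, List.contains_iff_mem] at h
  have h1 := ((h d hd).resolve_left (not_not.2 hdvd)) c₁ (by omega) c₂ (by omega)
  have h2 := h1.resolve_left (not_not.2 ⟨hc, hc'⟩)
  rw [← hr, ← hn] at h2
  have h3 := (h2.resolve_left (not_not.2 (by exact_mod_cast hn'))) e (by omega)
  have h4 := h3.resolve_left (not_not.2 ⟨he', by rw [← hw]; exact hw'⟩)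
  rwa [← hw, Int.toNat_natCast] at h4

theorem target_degrees : target.map (fun t => t.1) = [55, 10, 10, 10, 45, 11, 44, 16, 16] := by
  decide +kernel

end CfsgLib.Degrees7920
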