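import Cfsg.Agent.SmallSimple.Order7920Tools


/-!
# The Sylow 11- and 5-subgroups of a simple group of order 7920
-/

set_option autoImplicit false
set_option linter.style.haveILetI false
set_option maxHeartbeats 1000000

namespace CfsgLib.Order7920

open MulAction Subgroup CfsgLib.FixedPoints

variable {G : Type*} [Group G] [Finite G] [IsSimpleGroup G] (hG : Nat.card G = 7920)
include hG

theorem not_comm : ¬ IsMulCommutative G := by
  haveI : Fact (Nat.Prime 11) := ⟨by norm_num⟩
  obtain ⟨P⟩ : Nonempty (Sylow 11 G) := inferInstance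
  have hP : Nat.card (P : Subgroup G) = 11 :=
    (CfsgLib.SmallSimple.card_sylow_eq P (k := 1) (m := 720) (by rw [hG]; norm_num) (by norm_num)).trans
      (pow_one 11)
  exact CfsgLib.SmallSimple.not_comm_of_sylow P (by omega) (by omega)

theorem sq_eleven : ¬ 11 ^ 2 ∣ Nat.card G := by rw [hG]; norm_num

theorem sq_five : ¬ 5 ^ 2 ∣ Nat.card G := by rw [hG]; norm_num

theorem eleven_le_index {H : Subgroup G} (hH : H ≠ ⊤) : 11 ≤ H.index := by
  by_contra hlt
  have h := (CfsgLib.SmallSimple.card_dvd_factorial H hH).trans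
    (Nat.factorial_dvd_factorial (show H.index ≤ 10 by omega))
  rw [hG] at h
  norm_num [Nat.factorial] at h

theorem card_le {H : Subgroup G} (hH : H ≠ ⊤) : Nat.card H ≤ 720 := by
  have h := H.card_mul_index
  rw [hG] at h
  have := eleven_le_index hG hH
  nlinarith

theorem centralizer_ne_top {t : G} (ht : t ≠ 1) : centralizer ({t} : Set G) ≠ ⊤ := by
  intro h
  have hz : t ∈ center G := mem_center_iff.2 fun g =>
    mem_centralizer_singleton_iff.1 (show g ∈ centralizer ({t} : Set G) from h ▸ mem_top g)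
  rcases IsSimpleGroup.eq_bot_or_eq_top_of_normal (center G) inferInstance with h' | h'
  · rw [h', mem_bot] at hz
    exact ht hz
  · exact not_comm hG ⟨⟨fun a b => mem_center_iff.1 (show b ∈ center G from h' ▸ mem_top b) a⟩⟩

theorem normalizer_ne_top {g : G} (h1 : g ≠ 1) (h2 : orderOf g ≠ 7920) :
    normalizer ((zpowers g : Subgroup G) : Set G) ≠ ⊤ := by
  intro h
  haveI := normalizer_eq_top_iff.1 h
  rcases IsSimpleGroup.eq_bot_or_eq_top_of_normal (zpowers g) inferInstance with h' | h'
  · exact h1 (zpowers_eq_bot.1 h')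
  · apply h2
    rw [← Nat.card_zpowers, h', card_top, hG]

/-- With a subgroup of index eleven above the normalizer, nothing of other prime order commutes
with an element of order five. -/
theorem no_index_eleven {H : Subgroup G} (hH : H.index = 11) {y : G} (hy : orderOf y = 5)
    (hN : normalizer ((zpowers y : Subgroup G) : Set G) ≤ H) {v : G} (hv : Commute v y)
    {q : ℕ} (hq : q.Prime) (hq5 : q ≠ 5) (hvq : orderOf v = q) : False := by
  haveI : Fact (Nat.Prime 5) := ⟨by norm_num⟩
  haveI := Fact.mk hq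
  have hcard : Nat.card (G ⧸ H) = 11 := by rw [← Subgroup.index_eq_card, hH]
  have h5 := card_fixed_mod (sq_five hG) hy hN hv
  have hqm := card_fixed_modEq (q := q) (hvq ▸ pow_orderOf_eq_one v) (G ⧸ H)
  have hle := Finite.card_subtype_le (fun c : G ⧸ H => v • c = c)
  rw [hcard] at hle hqm
  set f := Nat.card {c : G ⧸ H // v • c = c}
  have hne : f ≠ 11 := fun hf => by
    have h1 := eq_one_of_fixed (H := H) (fun h => by rw [h, index_top] at hH; norm_num at hH)
      (hf.trans hcard.symm)
    rw [h1, orderOf_one] at hvq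
    exact hq.one_lt.ne hvq
  have hf : f = 1 ∨ f = 6 := by omega
  rcases hf with hf | hf <;> rw [hf] at hqm
  · have hd : q ∣ 10 := (Nat.modEq_iff_dvd' (by norm_num : (1 : ℕ) ≤ 11)).1 hqm
    have hq2 : q = 2 := by
      have := Nat.le_of_dvd (by norm_num) hd
      interval_cases q <;> first | rfl | exact absurd rfl hq5 | (norm_num at hd; done) | norm_num at hq
    obtain ⟨k, hk⟩ := involution_parity (not_comm hG) (v := v) (by rw [← hq2, ← hvq, pow_orderOf_eq_one])
      (G ⧸ H)
    rw [hcard] at hk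
    change 11 = f + 4 * k at hk
    omega
  · have hd : q ∣ 5 := (Nat.modEq_iff_dvd' (by norm_num : (6 : ℕ) ≤ 11)).1 hqm
    exact hq5 ((Nat.prime_dvd_prime_iff_eq hq (by norm_num)).1 hd)

/-- The centralizer and the normalizer of an element of order eleven. -/
theorem eleven {x : G} (hx : orderOf x = 11) :
    Nat.card (centralizer ({x} : Set G)) = 11 ∧
      Nat.card (normalizer ((zpowers x : Subgroup G) : Set G)) = 55 := by
  haveI : Fact (Nat.Prime 11) := ⟨by norm_num⟩
  set N := normalizer ((zpowers x : Subgroup G) : Set G) with hNdef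
  set C := centralizer ({x} : Set G)
  obtain ⟨k, hk1, hk⟩ := exists_count (sq_eleven hG) hx (H := ⊤) (mem_top x)
  rw [inf_top_eq, card_top, hG] at hk
  obtain ⟨r, hr⟩ : 11 ∣ Nat.card N := hx ▸ orderOf_mem_dvd (le_normalizer (mem_zpowers x))
  have hk720 : k ∣ 720 := ⟨r, by rw [← hNdef, hr] at hk; linarith⟩
  have hlist : ∀ k ∈ List.range 721, k ∣ 720 → k % 11 = 1 → k = 1 ∨ k = 12 ∨ k = 45 ∨ k = 144 := by
    decide +kernel
  have hd := normalizer_dvd hx
  have hCN : C ≤ N := centralizer_le x
  have hne : C ≠ N := fun h => normalizer_ne (sq_eleven hG) (by rw [hG]; norm_num) hx h.symm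
  have hNtop : N ≠ ⊤ := normalizer_ne_top hG (fun h => by rw [h, orderOf_one] at hx; norm_num at hx)
    (by rw [hx]; norm_num)
  rw [← hNdef] at hk hd
  have hidx := N.card_mul_index
  rw [hG] at hidx
  rcases hlist k (List.mem_range.2 (Nat.lt_succ_of_le (Nat.le_of_dvd (by norm_num) hk720))) hk720 hk1
    with rfl | rfl | rfl | rfl
  · have := card_le hG hNtop
    omega
  · -- twelve Sylow subgroups
    exfalso
    have hN : Nat.card N = 660 := by omega
    rw [hN] at hd hidx
    have hI : N.index = 12 := by omega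
    haveI : Fact (Nat.Prime 3) := ⟨by norm_num⟩
    obtain ⟨v, hvC, hv⟩ := exists_orderOf_mem (p := 3) (H := C)
      ((Nat.Coprime.dvd_mul_right (by norm_num : Nat.Coprime 3 10)).1 ((by norm_num : 3 ∣ 660).trans hd))
    have h11 := card_fixed_mod (sq_eleven hG) hx (le_refl N) (commute_of_mem hvC)
    have h3 := card_fixed_modEq (q := 3) (hv ▸ pow_orderOf_eq_one v) (G ⧸ N)
    have hcard : Nat.card (G ⧸ N) = 12 := by rw [← Subgroup.index_eq_card, hI]
    have hle := Finite.card_subtype_le (fun c : G ⧸ N => v • c = c)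
    rw [hcard] at h3 hle
    have h1 := eq_one_of_fixed (H := N) hNtop (v := v) (by omega)
    rw [h1, orderOf_one] at hv
    norm_num at hv
  · -- forty-five Sylow subgroups
    exfalso
    have hN : Nat.card N = 176 := by omega
    rw [hN] at hd hidx
    have hI : N.index = 45 := by omega
    have hC88 : Nat.card C = 88 := by
      have h88 : 88 ∣ Nat.card C := by
        have h : 88 * 2 ∣ Nat.card C * 5 * 2 := by rw [mul_assoc]; norm_num at hd ⊢; exact hd
        exact (Nat.Coprime.dvd_mul_right (by norm_num : Nat.Coprime 88 5)).1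
          (Nat.dvd_of_mul_dvd_mul_right (by norm_num) h)
      have h2 := card_dvd_of_le hCN
      have h3 := lt_of_ne_card hCN hne
      rw [hN] at h2 h3
      obtain ⟨q, hq⟩ := h88
      rcases q with _ | _ | q
      · exact absurd hq Nat.card_pos.ne'
      · exact hq
      · omega
    haveI : Fact (Nat.Prime 2) := ⟨Nat.prime_two⟩
    obtain ⟨Q₀, hQ₀⟩ := Sylow.exists_subgroup_card_pow_prime 2 (n := 3) (G := C) (by rw [hC88]; norm_num)
    let Q : Subgroup G := Q₀.map C.subtype
    have hQ : Nat.card Q = 8 := by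
      rw [Subgroup.card_map_of_injective C.subtype_injective, hQ₀]; norm_num
    have hcard : Nat.card (G ⧸ N) = 45 := by rw [← Subgroup.index_eq_card, hI]
    haveI : Nonempty (G ⧸ N) := ⟨((1 : G) : G ⧸ N)⟩
    have hfree : ∀ w : Q, w ≠ 1 → Nat.card {c : G ⧸ N // w • c = c} = 1 := by
      intro w hw
      have hwC : (w : G) ∈ C := by
        obtain ⟨a, -, ha⟩ := Subgroup.mem_map.1 w.2
        exact ha ▸ a.2
      obtain ⟨j, hj, hj'⟩ := (Nat.dvd_prime_pow Nat.prime_two).1
        (show orderOf w ∣ 2 ^ 3 by rw [show (2 : ℕ) ^ 3 = 8 from rfl, ← hQ]; exact orderOf_dvd_natCard w)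
      rcases j with _ | j
      · exact absurd (orderOf_eq_one_iff.1 (by simpa using hj')) hw
      set i : G := (w : G) ^ (2 ^ j) with hidef
      have hi2 : i ^ 2 = 1 := by
        rw [hidef, ← pow_mul, ← pow_succ, ← hj', ← Subgroup.orderOf_coe, pow_orderOf_eq_one]
      have hi1 : i ≠ 1 := by
        intro h
        have h' := orderOf_dvd_of_pow_eq_one h
        rw [Subgroup.orderOf_coe, hj', Nat.pow_dvd_pow_iff_le_right (by norm_num)] at h'
        omega
      have hic : Commute i x := (commute_of_mem hwC).pow_left _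
      have hfi := card_fixed_mod (sq_eleven hG) hx (le_refl N) hic
      obtain ⟨m, hm⟩ := involution_parity (not_comm hG) hi2 (G ⧸ N)
      have hlei := Finite.card_subtype_le (fun c : G ⧸ N => i • c = c)
      have hnei : Nat.card {c : G ⧸ N // i • c = c} ≠ 45 := fun h =>
        hi1 (eq_one_of_fixed (H := N) hNtop (h.trans hcard.symm))
      rw [hcard] at hm hlei
      have hfi1 : Nat.card {c : G ⧸ N // i • c = c} = 1 := by omega
      have hfw := card_fixed_mod (sq_eleven hG) hx (le_refl N) (commute_of_mem hwC)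
      have hsub : Nat.card {c : G ⧸ N // w • c = c} ≤ Nat.card {c : G ⧸ N // i • c = c} := by
        refine Nat.card_le_card_of_injective (fun c => ⟨c.1, ?_⟩) fun a b h =>
          Subtype.ext (congrArg Subtype.val h :)
        have hfx : ∀ n : ℕ, ((w : G) ^ n) • c.1 = c.1 := by
          intro n
          induction n with
          | zero => rw [pow_zero, one_smul]
          | succ n ih =>
            rw [pow_succ, mul_smul]
            have hw' : (w : G) • c.1 = c.1 := c.2
            rw [hw', ih]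
        exact hfx _
      rw [hfi1] at hsub
      have heq : Nat.card {c : G ⧸ N // w • c = c} = Nat.card {c : G ⧸ N // (w : G) • c = c} := rfl
      omega
    have h := card_dvd_of_semiregular (G := Q) (Ω := G ⧸ N) hfree
    rw [hQ, hcard] at h
    norm_num at h
  · have hN : Nat.card N = 55 := by omega
    refine ⟨?_, hN⟩
    have h2 := card_dvd_of_le hCN
    have h3 := lt_of_ne_card hCN hne
    have h11 : 11 ∣ Nat.card C := hx ▸ orderOf_mem_dvd (mem_centralizer_singleton_iff.2 rfl)
    rw [hN] at h2 h3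
    obtain ⟨q, hq⟩ := h11
    have hq5 : q ∣ 5 := by
      rw [hq, show (55 : ℕ) = 11 * 5 from rfl] at h2
      exact (Nat.mul_dvd_mul_iff_left (by norm_num)).1 h2
    rcases (Nat.dvd_prime (by norm_num : Nat.Prime 5)).1 hq5 with rfl | rfl <;> omega

/-- No element of order eleven centralizes a nontrivial element of another prime order. -/
theorem eleven_not_dvd_centralizer {v : G} {q : ℕ} (hq : q.Prime) (hv : orderOf v = q)
    (hq11 : q ≠ 11) {H : Subgroup G} (hH : H ≤ centralizer ({v} : Set G)) : ¬ 11 ∣ Nat.card H := by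
  intro h
  haveI : Fact (Nat.Prime 11) := ⟨by norm_num⟩
  obtain ⟨x, hxH, hx⟩ := exists_orderOf_mem h
  have hvx : v ∈ centralizer ({x} : Set G) :=
    mem_centralizer_singleton_iff.2 (mem_centralizer_singleton_iff.1 (hH hxH)).symm
  have hd := orderOf_mem_dvd hvx
  rw [hv, (eleven hG hx).1] at hd
  exact hq11 ((Nat.prime_dvd_prime_iff_eq hq (by norm_num)).1 hd)

/-- The case of a centralizer of order ten. -/
theorem no_ten {y : G} (hy : orderOf y = 5)
    (hN : Nat.card (normalizer ((zpowers y : Subgroup G) : Set G)) = 20)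
    (hC : Nat.card (centralizer ({y} : Set G)) = 10) : False := by
  haveI : Fact (Nat.Prime 5) := ⟨by norm_num⟩
  haveI : Fact (Nat.Prime 2) := ⟨Nat.prime_two⟩
  haveI : Fact (Nat.Prime 3) := ⟨by norm_num⟩
  set N := normalizer ((zpowers y : Subgroup G) : Set G) with hNdef
  set C := centralizer ({y} : Set G) with hCdef
  obtain ⟨t, htC, ht⟩ := exists_orderOf_mem (p := 2) (H := C) (by rw [hC]; norm_num)
  have hty : Commute t y := commute_of_mem htC
  have hord : orderOf (t * y) = 10 := by
    rw [hty.orderOf_mul_eq_mul_orderOf_of_coprime (by rw [ht, hy]; norm_num), ht, hy]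
  have hyC : y ∈ C := mem_centralizer_singleton_iff.2 rfl
  have hCz : zpowers (t * y) = C :=
    eq_of_le_of_card_ge (zpowers_le.2 (C.mul_mem htC hyC)) (by rw [Nat.card_zpowers, hord, hC])
  have huniq : ∀ w ∈ C, orderOf w = 2 → w = t := by
    classical
    intro w hw hw2
    have hkey : ∀ w ∈ C, orderOf w = 2 → w = (t * y) ^ 5 := by
      intro w hw hw2
      obtain ⟨i, hi, rfl⟩ := Finset.mem_image.1
        ((mem_zpowers_iff_mem_range_orderOf).1 (hCz ▸ hw : w ∈ zpowers (t * y)))
      rw [Finset.mem_range, hord] at hi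
      have h2 := pow_orderOf_eq_one ((t * y) ^ i)
      rw [hw2, ← pow_mul, ← orderOf_dvd_iff_pow_eq_one, hord] at h2
      have hi05 : i = 0 ∨ i = 5 := by omega
      rcases hi05 with rfl | rfl
      · rw [pow_zero, orderOf_one] at hw2; norm_num at hw2
      · rfl
    exact (hkey w hw hw2).trans (hkey t htC ht).symm
  set H := centralizer ({t} : Set G) with hHdef
  have hNH : N ≤ H := by
    intro n hn
    rw [hHdef, mem_centralizer_singleton_iff]
    have hmem : n * t * n⁻¹ ∈ C := by
      have hyn : n⁻¹ * y * n ∈ zpowers y := by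
        have h := conj_mem_zpowers (inv_mem hn)
        rwa [inv_inv] at h
      obtain ⟨j, hj⟩ := hyn
      have hc : Commute t (n⁻¹ * y * n) := by
        rw [show n⁻¹ * y * n = y ^ j from hj.symm]
        exact hty.zpow_right j
      have h := hc.map (MulAut.conj n)
      rw [hCdef, mem_centralizer_singleton_iff]
      simpa [mul_assoc, Commute, SemiconjBy] using h.eq
    have h := huniq _ hmem (((MulAut.conj n).orderOf_eq t).trans ht)
    exact mul_inv_eq_iff_eq_mul.1 h
  have htn : t ≠ 1 := fun h => by rw [h, orderOf_one] at ht; norm_num at ht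
  have hHtop : H ≠ ⊤ := centralizer_ne_top hG htn
  have hyH : y ∈ H := hNH (le_normalizer (mem_zpowers y))
  obtain ⟨k, hk5, hk⟩ := exists_count (sq_five hG) hy hyH
  rw [← hNdef, inf_of_le_left hNH, hN] at hk
  have hidx := H.card_mul_index
  rw [hk, hG] at hidx
  have hHle := card_le hG hHtop
  rw [hk] at hHle
  have hk396 : k ∣ 396 := ⟨H.index, by linarith⟩
  have hlist : ∀ k ∈ List.range 37, k ∣ 396 → k % 5 = 1 → k = 1 ∨ k = 6 ∨ k = 11 ∨ k = 36 := by
    decide +kernel
  have hfix := card_fixed_mod (sq_five hG) hy hNH hty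
  obtain ⟨m, hm⟩ := involution_parity (not_comm hG) (v := t) (by rw [← ht, pow_orderOf_eq_one]) (G ⧸ H)
  rw [← Subgroup.index_eq_card] at hm
  have hcls : Nat.card {c : G ⧸ H // t • c = c} = Nat.card {s : G // IsConj t s ∧ Commute t s} :=
    card_fixed_centralizer t
  have hs2 : ∀ s, IsConj t s → orderOf s = 2 := by
    intro s hs
    obtain ⟨a, rfl⟩ := isConj_iff.1 hs
    exact ((MulAut.conj a).orderOf_eq t).trans ht
  rcases hlist k (List.mem_range.2 (by omega)) hk396 hk5 with rfl | rfl | rfl | rfl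
  · -- the centralizer is the normalizer
    have hHN : N = H := eq_of_le_of_card_ge hNH (by rw [hk, hN])
    have hb : Nat.card {s : G // IsConj t s ∧ Commute t s} ≤ 11 := by
      have hCH : (C : Set G) ⊆ (H : Set G) := fun c hc => hNH (centralizer_le y hc)
      have hsub : {s : G | IsConj t s ∧ Commute t s} ⊆ {t} ∪ ((H : Set G) \ (C : Set G)) := by
        rintro s ⟨hs, hts⟩
        by_cases hsC : s ∈ C
        · exact Or.inl (huniq s hsC (hs2 s hs))
        · exact Or.inr ⟨mem_centralizer_singleton_iff.2 hts.eq.symm, hsC⟩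
      have h1 := Set.ncard_le_ncard hsub (Set.toFinite _)
      have h2 := Set.ncard_union_le {t} ((H : Set G) \ (C : Set G))
      have h3 := Set.ncard_sdiff hCH (Set.toFinite _)
      rw [Set.ncard_singleton] at h2
      rw [← Nat.card_coe_set_eq, ← Nat.card_coe_set_eq (H : Set G), ← Nat.card_coe_set_eq (C : Set G),
        SetLike.coe_sort_coe, SetLike.coe_sort_coe, hk, hC] at h3
      rw [← Nat.card_coe_set_eq] at h1
      rw [← Nat.card_coe_set_eq ((H : Set G) \ (C : Set G))] at h2
      change Nat.card {s : G // IsConj t s ∧ Commute t s} ≤ _ at h1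
      omega
    omega
  · -- a centralizer of order 120
    have htH : t ∈ H := mem_centralizer_singleton_iff.2 rfl
    let yH : H := ⟨y, hyH⟩
    let tH : H := ⟨t, htH⟩
    have hyHo : orderOf yH = 5 := (Subgroup.orderOf_mk ..).trans hy
    have hC' : Nat.card (centralizer ({yH} : Set H)) = 10 := by
      rw [show centralizer ({yH} : Set H) = C.subgroupOf H by
        ext w
        simp only [mem_centralizer_singleton_iff, mem_subgroupOf, hCdef, Subtype.ext_iff,
          Subgroup.coe_mul, yH], Nat.card_congr (subgroupOfEquivOfLe ?_).toEquiv, hC]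
      exact fun c hc => hNH (centralizer_le y hc)
    have hN' : Nat.card (normalizer ((zpowers yH : Subgroup H) : Set H)) = 20 := by
      rw [show zpowers yH = (zpowers y).subgroupOf H by
        apply Subgroup.map_injective H.subtype_injective
        rw [MonoidHom.map_zpowers, subgroupOf_map_subtype, inf_of_le_left (zpowers_le.2 hyH)]
        rfl, ← subgroupOf_normalizer_eq (zpowers_le.2 hyH),
        Nat.card_congr (subgroupOfEquivOfLe hNH).toEquiv, hN]
    obtain ⟨hb, z, hz, hzt⟩ := one_twenty (G := H) (t := tH) (by omega)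
      (mem_center_iff.2 fun w => Subtype.ext (mem_centralizer_singleton_iff.1 w.2))
      ((Subgroup.orderOf_mk ..).trans ht) hyHo hC' hN'
    have hzG : Commute (z : G) t := mem_centralizer_singleton_iff.1 z.2
    let S := {s : G // IsConj t s ∧ Commute t s}
    have hS : Nat.card S ≤ 31 := by
      refine le_trans (Nat.card_le_card_of_injective
        (fun s : S => (⟨⟨s.1, mem_centralizer_singleton_iff.2 s.2.2.eq.symm⟩,
          (Subgroup.orderOf_mk ..).trans (hs2 s.1 s.2.1)⟩ : {s : H // orderOf s = 2})) ?_) hb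
      intro a b h
      exact Subtype.ext (congrArg (fun w : {s : H // orderOf s = 2} => ((w.1 : H) : G)) h)
    have hS3 : Nat.card S % 3 = 1 := by
      classical
      haveI := Fintype.ofFinite S
      have hpres : ∀ s : G, (IsConj t s ∧ Commute t s) ↔
          (IsConj t ((MulAut.conj (z : G)) s) ∧ Commute t ((MulAut.conj (z : G)) s)) := by
        intro s
        have hzt' : (MulAut.conj (z : G)) t = t := by
          rw [MulAut.conj_apply, hzG.eq, mul_inv_cancel_right]
        have hcj : IsConj s ((MulAut.conj (z : G)) s) := isConj_iff.2 ⟨z, rfl⟩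
        refine ⟨fun h => ⟨h.1.trans hcj, ?_⟩, fun h => ⟨h.1.trans hcj.symm, ?_⟩⟩
        · have := h.2.map (MulAut.conj (z : G))
          rwa [hzt'] at this
        · refine Commute.of_map (f := MulAut.conj (z : G)) (MulAut.conj (z : G)).injective ?_
          rw [hzt']
          exact h.2
      let σ : Equiv.Perm S := Equiv.Perm.subtypePerm (p := fun s : G => IsConj t s ∧ Commute t s) (MulAut.conj (z : G)).toEquiv fun s => (hpres s).symm
      have hpow : ∀ (n : ℕ) (s : S), ((σ ^ n) s : G) = (MulAut.conj ((z : G) ^ n)) s := by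
        intro n
        induction n with
        | zero => intro s; simp
        | succ n ih =>
          intro s
          rw [pow_succ', Equiv.Perm.mul_apply, pow_succ', map_mul, MulAut.mul_apply, ← ih s]
          rfl
      have hσ : σ ^ 3 ^ 1 = 1 := by
        ext s
        rw [hpow, show (z : G) ^ 3 ^ 1 = 1 by rw [pow_one, ← hz, ← SubmonoidClass.coe_pow,
          pow_orderOf_eq_one, OneMemClass.coe_one], map_one]
        rfl
      have hfixz : σ.supportᶜ = {⟨t, IsConj.refl t, Commute.refl t⟩} := by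
        ext s
        simp only [Finset.mem_compl, Equiv.Perm.mem_support, not_not, Finset.mem_singleton]
        constructor
        · intro h
          have h' : (z : G) * s.1 * (z : G)⁻¹ = s.1 := congrArg Subtype.val h
          refine Subtype.ext (congrArg Subtype.val (hzt ⟨s.1, mem_centralizer_singleton_iff.2
            s.2.2.eq.symm⟩ ((Subgroup.orderOf_mk ..).trans (hs2 s.1 s.2.1))
            (Subtype.ext (mul_inv_eq_iff_eq_mul.1 h').symm)) :)
        · rintro rfl
          refine Subtype.ext ?_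
          show (z : G) * t * (z : G)⁻¹ = t
          rw [hzG.eq, mul_inv_cancel_right]
      have h := Equiv.Perm.card_compl_support_modEq hσ
      rw [hfixz, Finset.card_singleton, ← Nat.card_eq_fintype_card] at h
      exact h.symm
    change Nat.card {s : G // IsConj t s ∧ Commute t s} % 3 = 1 at hS3
    change Nat.card {s : G // IsConj t s ∧ Commute t s} ≤ 31 at hS
    omega
  · exact eleven_not_dvd_centralizer hG Nat.prime_two ht (by norm_num) (le_refl H) (by rw [hk]; norm_num)
  · refine no_index_eleven hG (H := H) (by omega) hy hNH hty Nat.prime_two (by norm_num) ht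

/-- The case of sixty-six Sylow 5-subgroups. -/
theorem no_sixtysix {y : G} (hy : orderOf y = 5)
    (hN : Nat.card (normalizer ((zpowers y : Subgroup G) : Set G)) = 120) : False := by
  haveI : Fact (Nat.Prime 5) := ⟨by norm_num⟩
  haveI : Fact (Nat.Prime 2) := ⟨Nat.prime_two⟩
  haveI : Fact (Nat.Prime 3) := ⟨by norm_num⟩
  set N := normalizer ((zpowers y : Subgroup G) : Set G) with hNdef
  set C := centralizer ({y} : Set G) with hCdef
  have hCN : C ≤ N := centralizer_le y
  have hyC : y ∈ C := mem_centralizer_singleton_iff.2 rfl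
  have hyN : y ∈ N := hCN hyC
  have hc : Nat.card C = 30 ∨ Nat.card C = 60 := by
    have hd := normalizer_dvd hy
    rw [← hNdef, hN] at hd
    have h30 : 30 ∣ Nat.card C := Nat.dvd_of_mul_dvd_mul_right (by norm_num : 0 < 4) (by norm_num at hd ⊢; exact hd)
    have h2 := card_dvd_of_le hCN
    have h3 := lt_of_ne_card hCN (fun h => normalizer_ne (sq_five hG) (by rw [hG]; norm_num) hy h.symm)
    rw [hN] at h2 h3
    obtain ⟨q, hq⟩ := h30
    rw [hq] at h2 h3 ⊢
    have : q = 1 ∨ q = 2 := by
      have hq0 : q ≠ 0 := fun h => by rw [h] at hq; exact Nat.card_pos.ne' hq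
      have : q < 4 := by omega
      interval_cases q <;> first | contradiction | omega
    omega
  have hc3 : 3 ∣ Nat.card C := by rcases hc with h | h <;> rw [h] <;> norm_num
  have hc2 : 2 ∣ Nat.card C := by rcases hc with h | h <;> rw [h] <;> norm_num
  obtain ⟨v₀, hv₀C, hv₀⟩ := exists_orderOf_mem (p := 2) hc2
  have hv₀y : Commute v₀ y := commute_of_mem hv₀C
  obtain ⟨z, hzC, hz⟩ := exists_orderOf_mem (p := 3) hc3
  have hzy : Commute z y := commute_of_mem hzC
  let zC : C := ⟨z, hzC⟩
  have hzCo : orderOf zC = 3 := (Subgroup.orderOf_mk ..).trans hz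
  have h3C : ¬ 3 ^ 2 ∣ Nat.card C := by rcases hc with h | h <;> rw [h] <;> norm_num
  obtain ⟨k, hk3, hk⟩ := exists_count h3C hzCo (H := ⊤) (mem_top zC)
  rw [inf_top_eq, card_top] at hk
  set NC := normalizer ((zpowers zC : Subgroup C) : Set C) with hNCdef
  have h15 : 15 ∣ Nat.card NC := by
    have h3' : 3 ∣ Nat.card NC := hzCo ▸ orderOf_mem_dvd (le_normalizer (mem_zpowers zC))
    have hyNC : (⟨y, hyC⟩ : C) ∈ NC :=
      centralizer_le zC (mem_centralizer_singleton_iff.2 (Subtype.ext hzy.symm.eq))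
    have h5' : 5 ∣ Nat.card NC := by
      have := orderOf_mem_dvd hyNC
      rwa [Subgroup.orderOf_mk, hy] at this
    exact Nat.Coprime.mul_dvd_of_dvd_of_dvd (by norm_num : Nat.Coprime 3 5) h3' h5'
  have hk14 : k = 1 ∨ (k = 4 ∧ Nat.card C = 60 ∧ Nat.card NC = 15) := by
    obtain ⟨q, hq⟩ := h15
    rw [hq] at hk ⊢
    rcases hc with h | h <;> rw [h] at hk ⊢
    · have : k ≤ 2 := Nat.le_of_dvd (by norm_num) ⟨q, by linarith⟩
      omega
    · have hk4 : k ∣ 4 := ⟨q, by linarith⟩
      have : k ≤ 4 := Nat.le_of_dvd (by norm_num) hk4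
      interval_cases k <;> omega
  rcases hk14 with rfl | ⟨rfl, hc60, hNC15⟩
  · -- a normal subgroup of order three
    set H := normalizer ((zpowers z : Subgroup G) : Set G) with hHdef
    have hNCtop : NC = ⊤ := eq_top_of_card_eq _ (by omega)
    have hsmall : ∀ g' ∈ C, orderOf g' = 3 → g' ∈ zpowers z := by
      intro g' hg' ho
      obtain ⟨a, ha⟩ := sylow_conj h3C hzCo (g' := (⟨g', hg'⟩ : C)) ((Subgroup.orderOf_mk ..).trans ho)
      have hmem : (⟨g', hg'⟩ : C) ∈ zpowers zC :=
        (mem_normalizer_iff.1 (show a ∈ NC from hNCtop ▸ mem_top a) _).2 ha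
      obtain ⟨i, hi⟩ := hmem
      exact ⟨i, congrArg Subtype.val hi⟩
    have hNH : N ≤ H := by
      intro n hn
      refine mem_normalizer_zpowers (hsmall _ ?_ (((MulAut.conj n).orderOf_eq z).trans hz))
      have hyn : n⁻¹ * y * n ∈ zpowers y := by
        have h := conj_mem_zpowers (inv_mem hn)
        rwa [inv_inv] at h
      obtain ⟨j, hj⟩ := hyn
      have hcm : Commute z (n⁻¹ * y * n) := by
        rw [show n⁻¹ * y * n = y ^ j from hj.symm]
        exact hzy.zpow_right j
      have h := hcm.map (MulAut.conj n)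
      rw [hCdef, mem_centralizer_singleton_iff]
      simpa [mul_assoc, Commute, SemiconjBy] using h.eq
    have hHtop : H ≠ ⊤ := normalizer_ne_top hG (fun h => by rw [h, orderOf_one] at hz; norm_num at hz)
      (by rw [hz]; norm_num)
    obtain ⟨k5, hk5, hk5'⟩ := exists_count (sq_five hG) hy (hNH hyN)
    rw [← hNdef, inf_of_le_left hNH, hN] at hk5'
    have h9 : 9 ∣ Nat.card H := by
      obtain ⟨P, hP⟩ := (IsPGroup.of_card (n := 1) (G := zpowers z)
        (by rw [Nat.card_zpowers, hz, pow_one])).exists_le_sylow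
      have hP9 : Nat.card (P : Subgroup G) = 3 ^ 2 :=
        CfsgLib.SmallSimple.card_sylow_eq P (k := 2) (m := 880) (by rw [hG]; norm_num) (by norm_num)
      have hle : (P : Subgroup G) ≤ H := by
        refine le_trans ?_ (centralizer_le z)
        intro w hw
        rw [mem_centralizer_singleton_iff]
        exact congrArg Subtype.val (IsPGroup.commutative_of_card_eq_prime_sq hP9
          (⟨w, hw⟩ : (P : Subgroup G)) ⟨z, hP (mem_zpowers z)⟩)
      exact (by rw [hP9]; norm_num : 9 ∣ Nat.card (P : Subgroup G)).trans (card_dvd_of_le hle)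
    have hle := card_le hG hHtop
    have hidx := H.card_mul_index
    rw [hG] at hidx
    have hk6 : k5 = 6 := by omega
    subst hk6
    exact no_index_eleven hG (H := H) (by rw [hk5'] at hidx; omega) hy hNH hv₀y Nat.prime_two (by norm_num) hv₀
  -- four Sylow 3-subgroups
  have hd60 : ∀ w ∈ C, orderOf w ∣ 60 := fun w hw => hc60 ▸ orderOf_mem_dvd hw
  -- the elements of 2-power order of the centralizer form a subgroup
  obtain ⟨V₀, hV₀⟩ := Sylow.exists_subgroup_card_pow_prime 2 (n := 2) (G := C) (by rw [hc60]; norm_num)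
  set V : Subgroup G := V₀.map C.subtype with hVdef
  have hV : Nat.card V = 4 := by
    rw [hVdef, Subgroup.card_map_of_injective C.subtype_injective, hV₀]; norm_num
  have hVC : V ≤ C := Subgroup.map_subtype_le V₀
  have hVpow : ∀ v ∈ V, v ^ 4 = 1 := fun v hv => by
    rw [← orderOf_dvd_iff_pow_eq_one]; exact hV ▸ orderOf_mem_dvd hv
  have hA : ∀ v ∈ C, v ^ 4 = 1 → v ∈ V := by
    have hA4 : Nat.card {v : C // v ^ 4 = 1} ≤ 4 := by
      classical
      haveI := Fintype.ofFinite C
      have hsyl : ∀ Q : Sylow 3 C, Nat.card (Q : Subgroup C) = 3 := fun Q => by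
        rw [Q.card_eq_multiplicity, factorization_eq_one (by norm_num) Nat.card_pos.ne'
          (by rw [hc60]; norm_num) h3C, pow_one]
      have h8 : Nat.card {w : C // orderOf w = 3} = 8 := by
        let P : Sylow 3 C := Sylow.ofCard (zpowers zC) (by
          rw [Nat.card_zpowers, hzCo, factorization_eq_one (by norm_num) Nat.card_pos.ne'
            (by rw [hc60]; norm_num) h3C, pow_one])
        have h := CfsgLib.SmallSimple.card_sylow_mul P
        rw [show ((P : Subgroup C) : Set C) = ((zpowers zC : Subgroup C) : Set C) from rfl,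
          ← hNCdef, hNC15, hc60] at h
        rw [CfsgLib.Simple168.card_orderOf_prime hsyl, show Nat.card (Sylow 3 C) = 4 by omega]
      let A := {w : C // orderOf w = 3} ⊕ {w : C // w ^ 4 = 1}
      let val : A → C := Sum.elim Subtype.val Subtype.val
      have hval12 : ∀ a : A, val a ^ 12 = 1 := by
        rintro (w | w)
        · show (w.1) ^ 12 = 1
          rw [← orderOf_dvd_iff_pow_eq_one, w.2]; norm_num
        · show (w.1) ^ 12 = 1
          rw [show (12 : ℕ) = 4 * 3 from rfl, pow_mul, w.2, one_pow]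
      let yC : C := ⟨y, hyC⟩
      have hyC5 : orderOf yC = 5 := (Subgroup.orderOf_mk ..).trans hy
      have hycomm : ∀ w : C, Commute w yC := fun w =>
        Subtype.ext (mem_centralizer_singleton_iff.1 w.2)
      have hpow : ∀ (a : A) (w : zpowers yC), (val a * (w : C)) ^ 25 = val a := by
        intro a w
        obtain ⟨i, hi⟩ := w.2
        have hw5 : (w : C) ^ 5 = 1 := by
          rw [← orderOf_dvd_iff_pow_eq_one]
          exact hyC5 ▸ (Nat.card_zpowers yC ▸ orderOf_mem_dvd w.2)
        have hcm : Commute (val a) (w : C) := by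
          rw [← hi]; exact (hycomm _).zpow_right i
        rw [hcm.mul_pow, show (25 : ℕ) = 5 * 5 from rfl, pow_mul (w : C), hw5, one_pow, mul_one,
          show (5 : ℕ) * 5 = 12 * 2 + 1 from rfl, pow_succ, pow_mul, hval12, one_pow, one_mul]
      have hinj : Function.Injective fun a : A × zpowers yC => val a.1 * (a.2 : C) := by
        rintro ⟨a, w⟩ ⟨b, w'⟩ h
        simp only at h
        have h1 : val a = val b := by rw [← hpow a w, ← hpow b w', h]
        have h2 : a = b := by
          rcases a with g | g <;> rcases b with g' | g' <;>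
            simp only [val, Sum.elim_inl, Sum.elim_inr] at h1
          · exact congrArg Sum.inl (Subtype.ext h1)
          · exfalso
            have h4 := g'.2
            rw [← h1, ← orderOf_dvd_iff_pow_eq_one, g.2] at h4
            norm_num at h4
          · exfalso
            have h4 := g.2
            rw [h1, ← orderOf_dvd_iff_pow_eq_one, g'.2] at h4
            norm_num at h4
          · exact congrArg Sum.inr (Subtype.ext h1)
        subst h2
        exact Prod.ext rfl (Subtype.ext (mul_left_cancel h))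
      have h := Nat.card_le_card_of_injective _ hinj
      rw [Nat.card_prod, Nat.card_sum, Nat.card_zpowers, hyC5, h8, hc60] at h
      omega
    intro v hv hv4
    let e : V₀ → {v : C // v ^ 4 = 1} := fun w => ⟨w.1, by
      rw [← orderOf_dvd_iff_pow_eq_one, Subgroup.orderOf_coe]
      exact (orderOf_dvd_natCard w).trans (by rw [hV₀]; norm_num)⟩
    have he : Function.Injective e :=
      fun a b h => Subtype.ext (congrArg (fun w : {v : C // v ^ 4 = 1} => w.1) h)
    have hb : Function.Bijective e :=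
      (Nat.bijective_iff_injective_and_card e).2 ⟨he, le_antisymm
        (Nat.card_le_card_of_injective e he) (by rw [hV₀]; exact hA4)⟩
    obtain ⟨w, hw⟩ := hb.2 ⟨⟨v, hv⟩, Subtype.ext hv4⟩
    exact ⟨(w : C), w.2, congrArg (fun u : {v : C // v ^ 4 = 1} => ((u.1 : C) : G)) hw⟩
  -- the normalizer of this four-subgroup
  set H := normalizer (V : Set G) with hHdef
  have hNH : N ≤ H := by
    intro n hn
    have hC' : ∀ m ∈ N, ∀ c ∈ C, m * c * m⁻¹ ∈ C := by
      intro m hm c hc
      obtain ⟨j, hj⟩ : m⁻¹ * y * m ∈ zpowers y := by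
        have h := conj_mem_zpowers (inv_mem hm)
        rwa [inv_inv] at h
      have hcm : Commute c (m⁻¹ * y * m) := by
        rw [show m⁻¹ * y * m = y ^ j from hj.symm]
        exact (commute_of_mem hc).zpow_right j
      have h := hcm.map (MulAut.conj m)
      rw [hCdef, mem_centralizer_singleton_iff]
      simpa [mul_assoc, Commute, SemiconjBy] using h.eq
    have hmem : ∀ m ∈ N, ∀ v ∈ V, m * v * m⁻¹ ∈ V := fun m hm v hv =>
      hA _ (hC' m hm v (hVC hv)) (by rw [conj_pow, hVpow v hv]; simp)
    rw [hHdef, mem_normalizer_iff]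
    exact fun v => ⟨hmem n hn v, fun hv => by
      have := hmem n⁻¹ (inv_mem hn) _ hv
      simpa [mul_assoc] using this⟩
  have hVne : V ≠ ⊥ := fun h => by rw [h, card_bot] at hV; norm_num at hV
  have hHtop : H ≠ ⊤ := by
    intro h
    haveI := normalizer_eq_top_iff.1 h
    rcases IsSimpleGroup.eq_bot_or_eq_top_of_normal V inferInstance with h' | h'
    · exact hVne h'
    · rw [h', card_top, hG] at hV; norm_num at hV
  have hHN : H = N := by
    obtain ⟨k5, hk5, hk5'⟩ := exists_count (sq_five hG) hy (hNH hyN)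
    rw [← hNdef, inf_of_le_left hNH, hN] at hk5'
    have hle := card_le hG hHtop
    have hk16 : k5 = 1 ∨ k5 = 6 := by omega
    rcases hk16 with rfl | rfl
    · exact (eq_of_le_of_card_ge hNH (by rw [hk5', hN])).symm
    · exfalso
      have hidx := H.card_mul_index
      rw [hG, hk5'] at hidx
      exact no_index_eleven hG (H := H) (by omega) hy hNH hv₀y Nat.prime_two (by norm_num) hv₀
  -- a Sylow subgroup of the normalizer and one above it
  have hVN : V ≤ N := hVC.trans hCN
  obtain ⟨R₀, hR₀⟩ := (IsPGroup.of_card (p := 2) (n := 2) (G := V.subgroupOf N) (by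
    rw [Nat.card_congr (subgroupOfEquivOfLe hVN).toEquiv, hV]; norm_num)).exists_le_sylow
  set R : Subgroup G := (R₀ : Subgroup N).map N.subtype with hRdef
  have hR : Nat.card R = 8 := by
    rw [hRdef, Subgroup.card_map_of_injective N.subtype_injective,
      CfsgLib.SmallSimple.card_sylow_eq R₀ (k := 3) (m := 15) (by rw [hN]; norm_num) (by norm_num)]
    norm_num
  have hRN : R ≤ N := Subgroup.map_subtype_le _
  have hVR : V ≤ R := fun v hv => ⟨⟨v, hVN hv⟩, hR₀ hv, rfl⟩
  obtain ⟨S, hS⟩ := (IsPGroup.of_card (p := 2) (n := 3) (G := R) (by rw [hR]; norm_num)).exists_le_sylow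
  have hS16 : Nat.card (S : Subgroup G) = 16 :=
    (CfsgLib.SmallSimple.card_sylow_eq S (k := 4) (m := 495) (by rw [hG]; norm_num) (by norm_num)).trans
      (by norm_num)
  have hI2 : (R.subgroupOf (S : Subgroup G)).index = 2 := by
    have h := (R.subgroupOf (S : Subgroup G)).card_mul_index
    rw [Nat.card_congr (subgroupOfEquivOfLe hS).toEquiv, hR, hS16] at h
    omega
  haveI hRnorm : (R.subgroupOf (S : Subgroup G)).Normal := normal_of_index_eq_two hI2
  have hRconj : ∀ g ∈ (S : Subgroup G), ∀ r ∈ R, g * r * g⁻¹ ∈ R := fun g hg r hr =>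
    hRnorm.conj_mem ⟨r, hS hr⟩ hr ⟨g, hg⟩
  have hRS : ∀ a ∈ (S : Subgroup G), ∀ b ∈ (S : Subgroup G), a ∉ R → b ∉ R → a * b ∈ R := by
    intro a ha b hb hna hnb
    exact (Subgroup.mul_mem_iff_of_index_two hI2 :
      (⟨a, ha⟩ : (S : Subgroup G)) * ⟨b, hb⟩ ∈ R.subgroupOf (S : Subgroup G) ↔ _).2
      ⟨fun h => absurd h hna, fun h => absurd h hnb⟩
  have hnotle : ¬ (S : Subgroup G) ≤ N := fun h => by
    have h' := card_dvd_of_le h
    rw [hS16, hN] at h'
    norm_num at h'
  obtain ⟨s, hsS, hsN⟩ := SetLike.not_le_iff_exists.1 hnotle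
  have hsR : s ∉ R := fun h => hsN (hRN h)
  have hs2 : s * s ∈ R := hRS s hsS s hsS hsR hsR
  have hN_V : ∀ n ∈ N, ∀ v ∈ V, n * v * n⁻¹ ∈ V := fun n hn v hv =>
    (mem_normalizer_iff.1 (show n ∈ normalizer (V : Set G) from hNH hn) v).1 hv
  set W : Subgroup G := V.map (MulAut.conj s).toMonoidHom with hWdef
  have hmemW : ∀ w, w ∈ W ↔ ∃ v ∈ V, s * v * s⁻¹ = w := fun w => Subgroup.mem_map
  have hW : Nat.card W = 4 := by
    rw [hWdef, Subgroup.card_map_of_injective (MulAut.conj s).injective, hV]
  have hWR : W ≤ R := fun w hw => by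
    obtain ⟨v, hv, rfl⟩ := (hmemW w).1 hw
    exact hRconj s hsS v (hVR hv)
  have hWV : ¬ V ≤ W := by
    intro hle
    have heq : V = W := eq_of_le_of_card_ge hle (by rw [hV, hW])
    refine hsN (hHN ▸ mem_normalizer_iff.2 fun v => ⟨fun hv => ?_, fun hv => ?_⟩)
    · show s * v * s⁻¹ ∈ V
      rw [heq]
      exact (hmemW _).2 ⟨v, hv, rfl⟩
    · rw [show s * v * s⁻¹ ∈ V ↔ s * v * s⁻¹ ∈ W by rw [← heq]] at hv
      obtain ⟨v', hv', he⟩ := (hmemW _).1 hv
      rwa [mul_left_cancel (mul_right_cancel he)] at hv'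
  have hI : Nat.card (V ⊓ W : Subgroup G) = 2 := by
    have hd : Nat.card (V ⊓ W : Subgroup G) ∣ 4 := hV ▸ card_dvd_of_le inf_le_left
    have hne4 : Nat.card (V ⊓ W : Subgroup G) ≠ 4 := fun h => hWV (by
      rw [← inf_eq_left]
      exact eq_of_le_of_card_ge inf_le_left (by rw [h, hV]))
    have hrel : W.relIndex R = 2 := by
      have h := (W.subgroupOf R).card_mul_index
      rw [Nat.card_congr (subgroupOfEquivOfLe hWR).toEquiv, hW, hR] at h
      show (W.subgroupOf R).index = 2
      omega
    have hrel2 : W.relIndex V ≤ 2 := hrel ▸ relIndex_le_of_le_right hVR (by rw [hrel]; norm_num)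
    have h := (W.subgroupOf V).card_mul_index
    rw [← inf_subgroupOf_right W V, Nat.card_congr (subgroupOfEquivOfLe (inf_le_right : W ⊓ V ≤ V)).toEquiv,
      hV, inf_comm W V] at h
    change W.relIndex V ≤ 2 at hrel2
    rw [← inf_relIndex_right, inf_comm] at hrel2
    unfold Subgroup.relIndex at hrel2
    have hle := Nat.le_of_dvd (by norm_num) hd
    interval_cases hm : Nat.card (V ⊓ W : Subgroup G) <;> omega
  obtain ⟨u, huI, hu⟩ := exists_orderOf_mem (p := 2) (H := V ⊓ W) (by rw [hI])
  have huV : u ∈ V := huI.1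
  have hu1 : u ≠ 1 := fun h => by rw [h, orderOf_one] at hu; norm_num at hu
  have hIu : ∀ w ∈ V ⊓ W, orderOf w = 2 → w = u := by
    intro w hw hw2
    have hz' : zpowers u = V ⊓ W :=
      eq_of_le_of_card_ge (zpowers_le.2 huI) (by rw [Nat.card_zpowers, hu, hI])
    classical
    obtain ⟨i, hi, rfl⟩ := Finset.mem_image.1
      ((mem_zpowers_iff_mem_range_orderOf).1 (hz' ▸ hw : w ∈ zpowers u))
    rw [Finset.mem_range, hu] at hi
    interval_cases i
    · rw [pow_zero, orderOf_one] at hw2; norm_num at hw2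
    · rw [pow_one]
  -- this involution is central in the Sylow 2-subgroup
  have huR : ∀ r ∈ R, r * u * r⁻¹ = u := by
    intro r hr
    refine hIu _ ⟨hN_V r (hRN hr) u huV, ?_⟩ (((MulAut.conj r).orderOf_eq u).trans hu)
    obtain ⟨v, hv, hve⟩ := (hmemW u).1 huI.2
    refine (hmemW _).2 ⟨(s⁻¹ * r * s) * v * (s⁻¹ * r * s)⁻¹, ?_, ?_⟩
    · refine hN_V _ (hRN ?_) v hv
      have := hRconj s⁻¹ (inv_mem hsS) r hr
      simpa using this
    · rw [← hve]; group
  have hus : s * u * s⁻¹ = u := by
    refine hIu _ ⟨?_, (hmemW _).2 ⟨u, huV, rfl⟩⟩ (((MulAut.conj s).orderOf_eq u).trans hu)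
    obtain ⟨v, hv, hve⟩ := (hmemW u).1 huI.2
    have h := hN_V (s * s) (hRN hs2) v hv
    rw [← hve, show s * (s * v * s⁻¹) * s⁻¹ = s * s * v * (s * s)⁻¹ by group]
    exact h
  set Hu := centralizer ({u} : Set G) with hHudef
  have hSu : (S : Subgroup G) ≤ Hu := by
    intro g hg
    rw [hHudef, mem_centralizer_singleton_iff]
    by_cases hgR : g ∈ R
    · exact mul_inv_eq_iff_eq_mul.1 (huR g hgR)
    · have hr : g * s⁻¹ ∈ R := hRS g hg s⁻¹ (inv_mem hsS) hgR fun h => hsR (by simpa using inv_mem h)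
      have h1 := mul_inv_eq_iff_eq_mul.1 (huR _ hr)
      have h2 := mul_inv_eq_iff_eq_mul.1 hus
      calc g * u = g * s⁻¹ * (s * u) := by group
        _ = g * s⁻¹ * (u * s) := by rw [h2]
        _ = (g * s⁻¹ * u) * s := by group
        _ = (u * (g * s⁻¹)) * s := by rw [h1]
        _ = u * g := by group
  have hVcomm : ∀ a ∈ V, ∀ b ∈ V, a * b = b * a := fun a ha b hb =>
    congrArg Subtype.val (IsPGroup.commutative_of_card_eq_prime_sq
      (p := 2) (by rw [hV]; norm_num) (⟨a, ha⟩ : V) ⟨b, hb⟩)
  have hVu : V ≤ Hu := fun v hv => mem_centralizer_singleton_iff.2 (hVcomm v hv u huV)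
  have huC : u ∈ C := hVC huV
  have hyu : y ∈ Hu := mem_centralizer_singleton_iff.2 (mem_centralizer_singleton_iff.1 huC).symm
  -- elements of order three do not centralize it
  have hzu : ¬ Commute z u := by
    intro h
    have hmem : (⟨u, huC⟩ : C) ∈ NC :=
      centralizer_le zC (mem_centralizer_singleton_iff.2 (Subtype.ext h.eq.symm))
    have hd := orderOf_mem_dvd hmem
    rw [Subgroup.orderOf_mk, hu, hNC15] at hd
    norm_num at hd
  have hzHu : z ∉ Hu := fun h => hzu (mem_centralizer_singleton_iff.1 h)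
  have hNu : Nat.card (N ⊓ Hu : Subgroup G) = 40 := by
    have hd8 : 8 ∣ Nat.card (N ⊓ Hu : Subgroup G) :=
      hR ▸ card_dvd_of_le (le_inf hRN (hS.trans hSu))
    have hd5 : 5 ∣ Nat.card (N ⊓ Hu : Subgroup G) := hy ▸ orderOf_mem_dvd (mem_inf.2 ⟨hyN, hyu⟩)
    have hd120 := card_dvd_of_le (inf_le_left : N ⊓ Hu ≤ N)
    rw [hN] at hd120
    have hne : Nat.card (N ⊓ Hu : Subgroup G) ≠ 120 := fun h => hzHu
      ((eq_of_le_of_card_ge (inf_le_left : N ⊓ Hu ≤ N) (by rw [h, hN])).ge (hCN hzC)).2
    obtain ⟨q, hq⟩ : 40 ∣ Nat.card (N ⊓ Hu : Subgroup G) :=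
      Nat.Coprime.mul_dvd_of_dvd_of_dvd (by norm_num : Nat.Coprime 8 5) hd8 hd5
    rw [hq] at hd120 hne ⊢
    have hle := Nat.le_of_dvd (by norm_num) hd120
    rcases q with _ | _ | _ | q <;> omega
  obtain ⟨ku, hku, hku'⟩ := exists_count (sq_five hG) hy hyu
  rw [← hNdef, hNu] at hku'
  have hHu240 : Nat.card Hu = 240 ∧ ku = 6 := by
    have h16 : 16 ∣ Nat.card Hu := hS16 ▸ card_dvd_of_le hSu
    have hle := card_le hG (centralizer_ne_top hG hu1 : Hu ≠ ⊤)
    have hd : Nat.card Hu ∣ 7920 := hG ▸ card_subgroup_dvd_card Hu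
    rw [hku'] at h16 hle hd ⊢
    have hk18 : ku ≤ 18 := by omega
    interval_cases ku <;> first | omega | norm_num at h16 hd ⊢
  -- the core of the normalizer of the Sylow 5-subgroup in `Hu`
  let K : Subgroup Hu := (N ⊓ Hu).subgroupOf Hu
  have hKmem : ∀ {w : Hu}, w ∈ K ↔ (w : G) ∈ N := fun {w} =>
    ⟨fun h => (mem_subgroupOf.1 h).1, fun h => mem_subgroupOf.2 ⟨h, w.2⟩⟩
  have hKidx : K.index = 6 := by
    have h := K.card_mul_index
    rw [Nat.card_congr (subgroupOfEquivOfLe (inf_le_right : N ⊓ Hu ≤ Hu)).toEquiv, hNu, hHu240.1] at h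
    omega
  let yH : Hu := ⟨y, hyu⟩
  have hyHo : orderOf yH = 5 := (Subgroup.orderOf_mk ..).trans hy
  have hNK : normalizer ((zpowers yH : Subgroup Hu) : Set Hu) ≤ K := by
    intro w hw
    rw [hKmem]
    obtain ⟨i, hi⟩ := conj_mem_zpowers hw
    exact mem_normalizer_zpowers ⟨i, congrArg Subtype.val hi⟩
  have hsq5 : ¬ 5 ^ 2 ∣ Nat.card Hu := by rw [hHu240.1]; norm_num
  have hVcore : ∀ v (hv : v ∈ V), (⟨v, hVu hv⟩ : Hu) ∈ K.normalCore := by
    intro v hv
    set vH : Hu := ⟨v, hVu hv⟩
    have h5 := card_fixed_mod hsq5 hyHo hNK (v := vH) (Subtype.ext (commute_of_mem (hVC hv)).eq)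
    have hcard : Nat.card (Hu ⧸ K) = 6 := by rw [← Subgroup.index_eq_card, hKidx]
    have hle := Finite.card_subtype_le (fun c : Hu ⧸ K => vH • c = c)
    classical
    haveI := Fintype.ofFinite (Hu ⧸ K)
    have h2 := Equiv.Perm.card_compl_support_modEq
      (σ := MulAction.toPermHom Hu (Hu ⧸ K) vH) (p := 2) (n := 2) (by
        rw [← map_pow, show vH ^ 2 ^ 2 = 1 from Subtype.ext (hVpow v hv), map_one])
    have hsupp : ((MulAction.toPermHom Hu (Hu ⧸ K) vH).supportᶜ).card =
        Nat.card {c : Hu ⧸ K // vH • c = c} := by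
      rw [Nat.card_eq_fintype_card, Fintype.card_subtype]
      congr 1
      ext c
      simp
    rw [hsupp, ← Nat.card_eq_fintype_card, hcard] at h2
    rw [hcard] at hle
    have hf6 : Nat.card {c : Hu ⧸ K // vH • c = c} = 6 := by
      have h2' : Nat.card {c : Hu ⧸ K // vH • c = c} % 2 = 0 := h2
      omega
    rw [Subgroup.normalCore_eq_ker, MonoidHom.mem_ker]
    refine Equiv.ext fun c => ?_
    by_contra hc
    have hlt : Nat.card {c : Hu ⧸ K // vH • c = c} < Nat.card (Hu ⧸ K) := by
      rw [Nat.card_eq_fintype_card, Nat.card_eq_fintype_card]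
      exact Fintype.card_subtype_lt hc
    omega
  have hL5 : ∀ l ∈ K.normalCore, orderOf l ≠ 5 := by
    intro l hl hlo
    -- otherwise all conjugates of `y` lie in `N`
    have h5N : ∀ w : G, w ∈ N → orderOf w = 5 → w ∈ zpowers y := by
      intro w hw hwo
      obtain ⟨a, ha⟩ := sylow_conj (G := N)
        (fun hd => sq_five hG (hd.trans (card_subgroup_dvd_card N)))
        (g := (⟨y, hyN⟩ : N)) (g' := (⟨w, hw⟩ : N))
        ((Subgroup.orderOf_mk ..).trans hy) ((Subgroup.orderOf_mk ..).trans hwo)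
      obtain ⟨i, hi⟩ := ha
      have hi' : (a : G) * w * (a : G)⁻¹ ∈ zpowers y := ⟨i, congrArg Subtype.val hi⟩
      exact (mem_normalizer_iff.1 (a.2 : (a : G) ∈ N) w).2 hi'
    have hlN : (l : G) ∈ N := hKmem.1 (normalCore_le K hl)
    have hlo' : orderOf (l : G) = 5 := (Subgroup.orderOf_coe l).trans hlo
    have hyl : yH ∈ K.normalCore := by
      obtain ⟨i, hi⟩ : y ∈ zpowers (l : G) := by
        rw [zpowers_eq_of_mem hy hlo' (h5N _ hlN hlo')]
        exact mem_zpowers y
      rw [show yH = l ^ i from Subtype.ext (by rw [Subgroup.coe_zpow]; exact hi.symm)]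
      exact zpow_mem hl i
    have hle : Hu ≤ N := by
      intro g hg
      have hmem := (normalCore_normal K).conj_mem yH hyl ⟨g, hg⟩
      have hN' : g * y * g⁻¹ ∈ N := hKmem.1 (normalCore_le K hmem)
      exact mem_normalizer_zpowers (h5N _ hN' (((MulAut.conj g).orderOf_eq y).trans hy))
    have := Nat.le_of_dvd (by rw [hN]; norm_num) (card_dvd_of_le hle)
    rw [hN, hHu240.1] at this
    omega
  have hLV : ∀ l ∈ K.normalCore, (l : G) ∈ V := by
    intro l hl
    have hlN : (l : G) ∈ N := hKmem.1 (normalCore_le K hl)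
    have hcomm : l * yH * l⁻¹ * yH⁻¹ = 1 := by
      by_contra hne
      have hmem : l * yH * l⁻¹ * yH⁻¹ ∈ K.normalCore := by
        have h := (normalCore_normal K).conj_mem l⁻¹ (inv_mem hl) yH
        have h' := mul_mem hl h
        rwa [← mul_assoc, ← mul_assoc] at h'
      have hz' : ((l * yH * l⁻¹ * yH⁻¹ : Hu) : G) ∈ zpowers y := by
        push_cast
        exact mul_mem (conj_mem_zpowers hlN) (inv_mem (mem_zpowers y))
      have hd := orderOf_mem_dvd hz'
      rw [Nat.card_zpowers, hy, Subgroup.orderOf_coe] at hd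
      exact hL5 _ hmem (((Nat.dvd_prime (by norm_num)).1 hd).resolve_left
        fun h => hne (orderOf_eq_one_iff.1 h))
    have hlC : (l : G) ∈ C := by
      rw [hCdef, mem_centralizer_singleton_iff]
      have h1 : ((l * yH * l⁻¹ * yH⁻¹ : Hu) : G) = 1 := by rw [hcomm]; rfl
      push_cast at h1
      rw [mul_inv_eq_one, mul_inv_eq_iff_eq_mul] at h1
      exact h1
    have hd20 : orderOf (l : G) ∣ 20 := by
      have hlt : Nat.card (C ⊓ Hu : Subgroup G) ∣ 60 := hc60 ▸ card_dvd_of_le inf_le_left
      have hne : Nat.card (C ⊓ Hu : Subgroup G) ≠ 60 := fun h => hzHu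
        ((eq_of_le_of_card_ge (inf_le_left : C ⊓ Hu ≤ C) (by rw [h, hc60])).ge hzC).2
      have hd4 : 4 ∣ Nat.card (C ⊓ Hu : Subgroup G) := hV ▸ card_dvd_of_le (le_inf hVC hVu)
      have hd5 : 5 ∣ Nat.card (C ⊓ Hu : Subgroup G) := hy ▸ orderOf_mem_dvd (mem_inf.2 ⟨hyC, hyu⟩)
      have h20 : Nat.card (C ⊓ Hu : Subgroup G) = 20 := by
        obtain ⟨q, hq⟩ : 20 ∣ Nat.card (C ⊓ Hu : Subgroup G) :=
          Nat.Coprime.mul_dvd_of_dvd_of_dvd (by norm_num : Nat.Coprime 4 5) hd4 hd5
        rw [hq] at hlt hne ⊢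
        have hle := Nat.le_of_dvd (by norm_num) hlt
        rcases q with _ | _ | _ | _ | q <;> omega
      exact h20 ▸ orderOf_mem_dvd (mem_inf.2 ⟨hlC, l.2⟩)
    refine hA _ hlC ?_
    by_contra hne
    have hl4 : (l ^ 4 : Hu) ≠ 1 := fun h => hne (by
      have := congrArg Subtype.val h
      simpa using this)
    have hd : orderOf (l ^ 4) ∣ 5 := by
      rw [orderOf_dvd_iff_pow_eq_one, ← pow_mul, ← orderOf_dvd_iff_pow_eq_one, ← Subgroup.orderOf_coe]
      exact hd20
    exact hL5 _ (pow_mem hl 4) (((Nat.dvd_prime (by norm_num)).1 hd).resolve_left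
      fun h => hl4 (orderOf_eq_one_iff.1 h))
  refine hWV (le_of_eq (eq_of_le_of_card_ge (fun w hw => ?_) (by rw [hV, hW])).symm)
  obtain ⟨v, hv, rfl⟩ := (hmemW w).1 hw
  exact hLV _ ((normalCore_normal K).conj_mem _ (hVcore v hv) ⟨s, hSu hsS⟩)

/-- The centralizer and the normalizer of an element of order five. -/
theorem five {y : G} (hy : orderOf y = 5) :
    Nat.card (centralizer ({y} : Set G)) = 5 ∧
      Nat.card (normalizer ((zpowers y : Subgroup G) : Set G)) = 20 := by
  haveI : Fact (Nat.Prime 5) := ⟨by norm_num⟩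
  haveI : Fact (Nat.Prime 2) := ⟨Nat.prime_two⟩
  set N := normalizer ((zpowers y : Subgroup G) : Set G) with hNdef
  set C := centralizer ({y} : Set G) with hCdef
  obtain ⟨k, hk1, hk⟩ := exists_count (sq_five hG) hy (H := ⊤) (mem_top y)
  rw [inf_top_eq, card_top, hG, ← hNdef] at hk
  obtain ⟨r, hr⟩ : 5 ∣ Nat.card N := hy ▸ orderOf_mem_dvd (le_normalizer (mem_zpowers y))
  have hk1584 : k ∣ 1584 := ⟨r, by rw [hr] at hk; linarith⟩
  have hlist : ∀ k ∈ List.range 1585, k ∣ 1584 → k % 5 = 1 →
      k = 1 ∨ k = 6 ∨ k = 11 ∨ k = 16 ∨ k = 36 ∨ k = 66 ∨ k = 176 ∨ k = 396 := by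
    decide +kernel
  have hd := normalizer_dvd hy
  rw [← hNdef] at hd
  have hCN : C ≤ N := centralizer_le y
  have hne : C ≠ N := fun h => normalizer_ne (sq_five hG) (by rw [hG]; norm_num) hy h.symm
  have hNtop : N ≠ ⊤ := normalizer_ne_top hG (fun h => by rw [h, orderOf_one] at hy; norm_num at hy)
    (by rw [hy]; norm_num)
  have hle := card_le hG hNtop
  have h11 : ¬ 11 ∣ Nat.card C :=
    eleven_not_dvd_centralizer hG (by norm_num : Nat.Prime 5) hy (by norm_num) (le_refl C)
  have hidx := N.card_mul_index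
  rw [hG] at hidx
  rcases hlist k (List.mem_range.2 (Nat.lt_succ_of_le (Nat.le_of_dvd (by norm_num) hk1584))) hk1584 hk1
    with rfl | rfl | rfl | rfl | rfl | rfl | rfl | rfl
  · omega
  · omega
  · exfalso
    have hN : Nat.card N = 720 := by omega
    rw [hN] at hd hidx
    obtain ⟨v, hvC, hv⟩ := exists_orderOf_mem (p := 2) (H := C) (by
      have h180 : 180 ∣ Nat.card C :=
        Nat.dvd_of_mul_dvd_mul_right (by norm_num : 0 < 4) (by norm_num at hd ⊢; exact hd)
      exact (by norm_num : 2 ∣ 180).trans h180)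
    exact no_index_eleven hG (H := N) (by omega) hy (le_refl N) (commute_of_mem hvC) Nat.prime_two
      (by norm_num) hv
  · exfalso
    have hN : Nat.card N = 495 := by omega
    rw [hN] at hd
    exact h11 ((Nat.Coprime.dvd_mul_right (by norm_num : Nat.Coprime 11 4)).1
      ((by norm_num : 11 ∣ 495).trans hd))
  · exfalso
    have hN : Nat.card N = 220 := by omega
    rw [hN] at hd
    exact h11 ((Nat.Coprime.dvd_mul_right (by norm_num : Nat.Coprime 11 4)).1
      ((by norm_num : 11 ∣ 220).trans hd))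
  · exact (no_sixtysix hG hy (show Nat.card N = 120 by omega)).elim
  · exfalso
    have hN : Nat.card N = 45 := by omega
    rw [hN] at hd
    have h45 : 45 ∣ Nat.card C := (Nat.Coprime.dvd_mul_right (by norm_num : Nat.Coprime 45 4)).1 hd
    exact hne (eq_of_le_of_card_ge hCN (by rw [hN]; exact Nat.le_of_dvd Nat.card_pos h45))
  · have hN : Nat.card N = 20 := by omega
    refine ⟨?_, hN⟩
    have h2 := card_dvd_of_le hCN
    have h3 := lt_of_ne_card hCN hne
    obtain ⟨q, hq⟩ : 5 ∣ Nat.card C := hy ▸ orderOf_mem_dvd (mem_centralizer_singleton_iff.2 rfl)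
    rw [hN, hq] at h2
    rw [hN, hq] at h3
    have hq4 : q ∣ 4 := (Nat.mul_dvd_mul_iff_left (by norm_num : 0 < 5)).1
      (by rwa [show (5 : ℕ) * 4 = 20 from rfl])
    have hq' : q = 1 ∨ q = 2 := by
      have : q < 4 := by omega
      interval_cases q <;> first | omega | norm_num at hq4
    rcases hq' with rfl | rfl
    · exact hq
    · exact (no_ten hG hy hN hq).elim

omit hG in
/-- The conjugates `n g n⁻¹` for `n` in the normalizer take at least `|N| / |C|` values. -/
theorem card_conj_range (g : G) [Fintype (normalizer ((zpowers g : Subgroup G) : Set G))]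
    [DecidableEq G] :
    Nat.card (normalizer ((zpowers g : Subgroup G) : Set G)) ≤
      Nat.card (centralizer ({g} : Set G)) *
        (Finset.univ.image fun n : normalizer ((zpowers g : Subgroup G) : Set G) =>
          (n : G) * g * (n : G)⁻¹).card := by
  classical
  rw [Nat.card_eq_fintype_card, ← Finset.card_univ]
  refine Finset.card_le_mul_card_image (f := fun n : normalizer ((zpowers g : Subgroup G) : Set G) => (n : G) * g * (n : G)⁻¹)
    Finset.univ (Nat.card (centralizer ({g} : Set G))) fun b hb => ?_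
  obtain ⟨n₀, -, rfl⟩ := Finset.mem_image.1 hb
  rw [← Fintype.card_subtype, ← Nat.card_eq_fintype_card]
  refine Nat.card_le_card_of_injective
    (fun n => (⟨(n₀ : G)⁻¹ * (n.1 : G), mem_centralizer_singleton_iff.2 ?_⟩ : centralizer ({g} : Set G)))
    fun a b h => Subtype.ext (Subtype.ext (mul_left_cancel (congrArg Subtype.val h :)))
  have h := n.2
  calc (n₀ : G)⁻¹ * (n.1 : G) * g = (n₀ : G)⁻¹ * ((n.1 : G) * g * (n.1 : G)⁻¹) * n.1 := by group
    _ = (n₀ : G)⁻¹ * ((n₀ : G) * g * (n₀ : G)⁻¹) * n.1 := by rw [h]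
    _ = g * ((n₀ : G)⁻¹ * n.1) := by group

/-- All nontrivial powers of an element of order five are conjugate to it. -/
theorem five_isConj {y : G} (hy : orderOf y = 5) {j : ℕ} (hj : ¬ 5 ∣ j) : IsConj y (y ^ j) := by
  classical
  obtain ⟨hC, hN⟩ := five hG hy
  haveI : Fintype (normalizer ((zpowers y : Subgroup G) : Set G)) := Fintype.ofFinite _
  have hle := card_conj_range y
  rw [hC, hN] at hle
  set T := (Finset.univ.image fun n : normalizer ((zpowers y : Subgroup G) : Set G) =>
    (n : G) * y * (n : G)⁻¹)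
  have hy1 : y ≠ 1 := fun h => by rw [h, orderOf_one] at hy; norm_num at hy
  have hsub : T ⊆ ((Finset.range 5).image fun i => y ^ i).erase 1 := by
    intro b hb
    obtain ⟨n, -, rfl⟩ := Finset.mem_image.1 hb
    refine Finset.mem_erase.2 ⟨fun h => hy1 (conj_eq_one_iff.1 h), ?_⟩
    have h := (mem_zpowers_iff_mem_range_orderOf).1 (conj_mem_zpowers n.2)
    rwa [hy] at h
  have hcard : (((Finset.range 5).image fun i => y ^ i).erase 1).card = 4 := by
    rw [Finset.card_erase_of_mem (Finset.mem_image.2 ⟨0, by simp, pow_zero y⟩),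
      Finset.card_image_of_injOn, Finset.card_range]
    intro a ha b hb h
    simp only [Finset.coe_range, Set.mem_Iio] at ha hb
    exact pow_injOn_Iio_orderOf (by simpa [hy] using ha) (by simpa [hy] using hb) h
  have heq := Finset.eq_of_subset_of_card_le hsub (by rw [hcard]; omega)
  have hmem : y ^ j ∈ ((Finset.range 5).image fun i => y ^ i).erase 1 := by
    refine Finset.mem_erase.2 ⟨fun h => hj (hy ▸ orderOf_dvd_of_pow_eq_one h), ?_⟩
    exact Finset.mem_image.2 ⟨j % 5, Finset.mem_range.2 (Nat.mod_lt _ (by norm_num)),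
      by rw [← hy, pow_mod_orderOf]⟩
  rw [← heq] at hmem
  obtain ⟨n, -, hn⟩ := Finset.mem_image.1 hmem
  exact isConj_iff.2 ⟨n, hn⟩

/-- An element of order eleven is conjugate to its third power. -/
theorem eleven_isConj {x : G} (hx : orderOf x = 11) : IsConj x (x ^ 3) := by
  classical
  obtain ⟨hC, hN⟩ := eleven hG hx
  set N := normalizer ((zpowers x : Subgroup G) : Set G) with hNdef
  have hCN : centralizer ({x} : Set G) ≤ N := centralizer_le x
  obtain ⟨n, hnN, hnC⟩ := SetLike.exists_of_lt (lt_of_le_of_ne hCN fun h => by rw [h, hN] at hC; norm_num at hC)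
  obtain ⟨r, hr, hrn⟩ := Finset.mem_image.1
    ((mem_zpowers_iff_mem_range_orderOf).1 (conj_mem_zpowers hnN))
  rw [Finset.mem_range, hx] at hr
  have hiter : ∀ m : ℕ, n ^ m * x * (n ^ m)⁻¹ = x ^ (r ^ m) := by
    intro m
    induction m with
    | zero => simp
    | succ m ih =>
      rw [pow_succ' n m, show n * n ^ m * x * (n * n ^ m)⁻¹ = n * (n ^ m * x * (n ^ m)⁻¹) * n⁻¹ by group,
        ih, ← conj_pow, ← hrn, ← pow_mul, ← pow_succ']
  have h55 : n ^ 55 = 1 := by
    have h := orderOf_mem_dvd hnN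
    rw [hN] at h
    exact orderOf_dvd_iff_pow_eq_one.1 h
  have hmod : r ^ 55 % 11 = 1 := by
    have h := hiter 55
    rw [h55, one_mul, inv_one, mul_one] at h
    have h' : x ^ (r ^ 55) = x ^ 1 := by rw [pow_one]; exact h.symm
    rw [pow_inj_mod, hx] at h'
    simpa using h'
  have hr1 : r ≠ 1 := by
    rintro rfl
    rw [pow_one] at hrn
    exact hnC (mem_centralizer_singleton_iff.2 (mul_inv_eq_iff_eq_mul.1 hrn.symm))
  obtain ⟨i, hi⟩ : ∃ i : ℕ, r ^ i % 11 = 3 := by
    interval_cases r
    all_goals first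
      | contradiction
      | exact ⟨1, rfl⟩
      | exact ⟨2, rfl⟩
      | exact ⟨3, rfl⟩
      | exact ⟨4, rfl⟩
  refine isConj_iff.2 ⟨n ^ i, ?_⟩
  rw [hiter, ← pow_mod_orderOf, hx, hi]

end CfsgLib.Order7920
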