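import Cfsg.Prelude.Def_Blocks
import Cfsg.Agent.SmallSimple.ColumnData
import Cfsg.Agent.SmallSimple.Order7920
import Cfsg.Agent.SmallSimple.Degrees7920Table

/-!
# The character degrees of a simple group of order 7920

The columns at the identity and at elements of orders eleven and five determine the degrees.
-/

set_option autoImplicit false
set_option linter.unusedSectionVars false
set_option maxHeartbeats 1000000
set_option linter.style.haveILetI false

namespace CfsgLib.Degrees7920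

open Finset CfsgLib.Char CfsgLib.ColumnData
open scoped ComplexConjugate

/-- The nonzero squares modulo eleven. -/
def squares : Finset (ZMod 11) := {1, 3, 4, 5, 9}

/-- The non-squares modulo eleven. -/
def nonsquares : Finset (ZMod 11) := {2, 6, 7, 8, 10}

theorem univ_eq : (Finset.univ : Finset (ZMod 11)) = insert 0 (squares ∪ nonsquares) := by decide

theorem zero_notMem : (0 : ZMod 11) ∉ squares ∪ nonsquares ∧ (0 : ZMod 11) ∉ squares ∧
    (0 : ZMod 11) ∉ nonsquares ∧ Disjoint squares nonsquares := by decide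

theorem card_eq : squares.card = 5 ∧ nonsquares.card = 5 := by decide

theorem count_eq : ∀ j : ZMod 11, ((squares ×ˢ nonsquares).filter (fun q => q.1 + q.2 = j)).card =
    if j = 0 then 5 else 2 := by decide

theorem neg_mem : ∀ b : ZMod 11, b ∈ squares ↔ -b ∈ nonsquares := by decide

theorem three_ne_zero : (3 : ZMod 11) ≠ 0 := by decide

theorem periods [Fact (Nat.Prime 11)] :
    let S := ∑ b ∈ squares, ZMod.stdAddChar b
    let T := ∑ b ∈ nonsquares, ZMod.stdAddChar b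
    S + T = -1 ∧ S * T = 3 ∧ conj S = T := by
  intro S T
  have hst : S + T = -1 := by
    have h : ∑ j : ZMod 11, ZMod.stdAddChar j = 0 := by
      simpa using sum_stdAddChar (p := 11) (1 : ZMod 11)
    rw [univ_eq, sum_insert zero_notMem.1, sum_union zero_notMem.2.2.2, AddChar.map_zero_eq_one] at h
    linear_combination h
  refine ⟨hst, ?_, ?_⟩
  · have h : S * T = ∑ j : ZMod 11, ((if j = 0 then 5 else 2 : ℕ) : ℂ) * ZMod.stdAddChar j := by
      simp only [S, T, sum_mul_sum, ← AddChar.map_add_eq_mul, ← Finset.sum_product']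
      rw [← Finset.sum_fiberwise' (squares ×ˢ nonsquares) (fun q => q.1 + q.2)]
      refine sum_congr rfl fun j _ => ?_
      rw [sum_const, count_eq, nsmul_eq_mul]
    have h2 : ∀ s : Finset (ZMod 11), (0 : ZMod 11) ∉ s →
        ∑ b ∈ s, ((if b = 0 then 5 else 2 : ℕ) : ℂ) * ZMod.stdAddChar b = 2 * ∑ b ∈ s, ZMod.stdAddChar b := by
      intro s hs
      rw [mul_sum]
      refine sum_congr rfl fun b hb => ?_
      rw [if_neg (ne_of_mem_of_not_mem hb hs), Nat.cast_ofNat]
    rw [h, univ_eq, sum_insert zero_notMem.1, sum_union zero_notMem.2.2.2, if_pos rfl,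
      AddChar.map_zero_eq_one, h2 _ zero_notMem.2.1, h2 _ zero_notMem.2.2.1, Nat.cast_ofNat]
    linear_combination 2 * hst
  · simp only [S, T, map_sum, ← AddChar.map_neg_eq_conj]
    exact Finset.sum_equiv (Equiv.neg _) neg_mem (fun i _ => rfl)

theorem charDegree_eq {G : Type*} [Group G] {χ : G → ℂ} {d : ℕ} (h : χ 1 = d) : Cfsg.charDegree χ = d := by
  rw [Cfsg.charDegree, h, Complex.natCast_re, Nat.floor_natCast]

section

variable {G : Type*} [Group G] [Finite G] [IsSimpleGroup G] (hG : Nat.card G = 7920)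
include hG

/-- The data of a nontrivial irreducible character. -/
theorem exists_data {x y : G} (hx : orderOf x = 11) (hy : orderOf y = 5) {χ : G → ℂ}
    (hχ : Cfsg.IsIrrCharacter G χ) (h1 : χ ≠ fun _ => 1) :
    ∃ d c₁ c₂ e : ℕ, χ 1 = d ∧ d ∣ 7920 ∧ 5 * (c₁ + c₂) ≤ d ∧ 0 < c₁ + c₂ ∧ 4 * e ≤ d ∧ 0 < e ∧
      χ y = (((d : ℤ) - 5 * e : ℤ) : ℂ) ∧
      χ x + conj (χ x) = ((2 * ((d : ℤ) - 5 * (c₁ + c₂)) - c₁ - c₂ : ℤ) : ℂ) ∧
      4 * (χ x * conj (χ x)) = (((2 * ((d : ℤ) - 5 * (c₁ + c₂)) - c₁ - c₂) *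
        (2 * ((d : ℤ) - 5 * (c₁ + c₂)) - c₁ - c₂) + 11 * ((c₁ : ℤ) - c₂) * ((c₁ : ℤ) - c₂) : ℤ) : ℂ) := by
  classical
  haveI : Fact (Nat.Prime 11) := ⟨by norm_num⟩
  haveI : Fact (Nat.Prime 5) := ⟨by norm_num⟩
  obtain ⟨d, -, hd⟩ := IsIrrCharacter.exists_degree hχ
  have hcls := IsCharacter.isClassFunction (IsIrrCharacter.isCharacter hχ)
  have hfaith : ∀ {g : G}, g ≠ 1 → χ g ≠ χ 1 := fun hg =>
    faithful hχ h1 (ne_one_of_simple (CfsgLib.Order7920.not_comm hG) hχ h1) hg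
  obtain ⟨c, hc⟩ := exists_count hx (IsIrrCharacter.isCharacter hχ)
  obtain ⟨f, hf⟩ := exists_count hy (IsIrrCharacter.isCharacter hχ)
  -- constancy at eleven
  have h3 : ∀ k : ZMod 11, c (3 * k) = c k := by
    refine count_pow hx hc hc (a := 3) Degrees7920.three_ne_zero fun j => ?_
    rw [pow_val_mul hx]
    exact IsClassFunction.apply_eq_of_isConj hcls
      ((CfsgLib.Order7920.eleven_isConj hG hx).pow j.val)
  have hA : ∀ b ∈ squares, c b = c 1 := by
    have a3 : c 3 = c 1 := h3 1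
    have a9 : c 9 = c 1 := (h3 3).trans a3
    have a5 : c 5 = c 1 := (h3 9).trans a9
    have a4 : c 4 = c 1 := (h3 5).trans a5
    intro b hb
    simp only [squares, mem_insert, mem_singleton] at hb
    rcases hb with rfl | rfl | rfl | rfl | rfl
    exacts [rfl, a3, a4, a5, a9]
  have hB : ∀ b ∈ nonsquares, c b = c 2 := by
    have a6 : c 6 = c 2 := h3 2
    have a7 : c 7 = c 2 := (h3 6).trans a6
    have a10 : c 10 = c 2 := (h3 7).trans a7
    have a8 : c 8 = c 2 := (h3 10).trans a10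
    intro b hb
    simp only [nonsquares, mem_insert, mem_singleton] at hb
    rcases hb with rfl | rfl | rfl | rfl | rfl
    exacts [rfl, a6, a7, a8, a10]
  -- constancy at five
  have hE : ∀ b ∈ (Finset.univ : Finset (ZMod 5)).erase 0, f b = f 1 := by
    intro b hb
    have hb0 := (mem_erase.1 hb).1
    have h := count_pow hy hf hf hb0 (fun j => ?_) 1
    · rwa [mul_one] at h
    rw [pow_val_mul hy]
    refine IsClassFunction.apply_eq_of_isConj hcls ((CfsgLib.Order7920.five_isConj hG hy ?_).pow j.val)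
    intro hdvd
    exact hb0 ((ZMod.val_eq_zero b).1 (Nat.eq_zero_of_dvd_of_lt hdvd (ZMod.val_lt b)))
  -- values at eleven
  have hv : ∀ φ : ZMod 11 → ℂ, ∑ b, (c b : ℂ) * φ b =
      c 0 * φ 0 + c 1 * (∑ b ∈ squares, φ b) + c 2 * ∑ b ∈ nonsquares, φ b := by
    intro φ
    rw [univ_eq, sum_insert zero_notMem.1, sum_union zero_notMem.2.2.2, mul_sum, mul_sum, add_assoc]
    congr 2 <;> refine sum_congr rfl fun b hb => ?_
    · rw [hA b hb]
    · rw [hB b hb]
  have hd11 : d = c 0 + 5 * (c 1 + c 2) := by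
    have h := hv fun _ => 1
    simp only [mul_one, sum_const, nsmul_eq_mul,
      card_eq] at h
    rw [← Nat.cast_sum, ← sum_count hx hc, hd] at h
    have h' : (d : ℂ) = ((c 0 + 5 * (c 1 + c 2) : ℕ) : ℂ) := by push_cast; linear_combination h
    exact_mod_cast h'
  obtain ⟨hst, hmul, hconj⟩ := periods
  set S := ∑ b ∈ squares, ZMod.stdAddChar b
  set T := ∑ b ∈ nonsquares, ZMod.stdAddChar b
  have hconj' : conj T = S := by rw [← hconj, Complex.conj_conj]
  have hX : χ x = c 0 + c 1 * S + c 2 * T := by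
    have h := hc 1
    rw [ZMod.val_one, pow_one] at h
    rw [h]
    simp only [mul_one]
    rw [hv, AddChar.map_zero_eq_one, mul_one]
  -- values at five
  have hd5 : d = f 0 + 4 * f 1 := by
    have h : (d : ℂ) = ((∑ b, f b : ℕ) : ℂ) := hd ▸ sum_count hy hf
    rw [Nat.cast_inj, ← add_sum_erase _ _ (mem_univ (0 : ZMod 5)), sum_congr rfl hE, sum_const,
      card_erase_of_mem (mem_univ _), card_univ, ZMod.card, smul_eq_mul] at h
    exact h
  have hY : χ y = (f 0 : ℂ) - f 1 := by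
    have h := hf 1
    rw [ZMod.val_one, pow_one] at h
    rw [h, ← add_sum_erase _ _ (mem_univ (0 : ZMod 5))]
    simp only [mul_one]
    rw [AddChar.map_zero_eq_one, mul_one,
      sum_congr rfl (fun b hb => by rw [hE b hb]), ← mul_sum]
    have h5 : ∑ j : ZMod 5, ZMod.stdAddChar j = 0 := by
      simpa using sum_stdAddChar (p := 5) (1 : ZMod 5)
    rw [← add_sum_erase _ _ (mem_univ (0 : ZMod 5)), AddChar.map_zero_eq_one] at h5
    linear_combination (f 1 : ℂ) * h5
  refine ⟨d, c 1, c 2, f 1, hd, hG ▸ IsIrrCharacter.degree_dvd_card hχ hd, by omega, ?_, by omega, ?_,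
    ?_, ?_, ?_⟩
  · by_contra h0
    refine hfaith (g := x) (fun e => by rw [e, orderOf_one] at hx; norm_num at hx) ?_
    rw [hX, hd, hd11, show c 1 = 0 by omega, show c 2 = 0 by omega]
    simp
  · by_contra h0
    refine hfaith (g := y) (fun e => by rw [e, orderOf_one] at hy; norm_num at hy) ?_
    rw [hY, hd, hd5, show f 1 = 0 by omega]
    simp
  · rw [hY, hd5]
    push_cast
    ring
  · rw [hX, hd11]
    simp only [map_add, map_mul, map_natCast, hconj, hconj']
    push_cast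
    linear_combination ((c 1 : ℂ) + c 2) * hst
  · rw [hX, hd11]
    simp only [map_add, map_mul, map_natCast, hconj, hconj']
    push_cast
    linear_combination (4 * (c 0 : ℂ) * (c 1 + c 2) + 4 * c 1 * c 2 * (S + T - 1)) * hst +
      4 * ((c 1 : ℂ) - c 2) ^ 2 * hmul

/-- The degrees of the irreducible characters. -/
theorem degrees : (irrFinset G).val.map Cfsg.charDegree =
    ↑([1, 55, 10, 10, 10, 45, 11, 44, 16, 16] : List ℕ) := by
  classical
  haveI : Fact (Nat.Prime 11) := ⟨by norm_num⟩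
  haveI : Fact (Nat.Prime 5) := ⟨by norm_num⟩
  obtain ⟨x, hx⟩ := exists_prime_orderOf_dvd_card' 11 (show 11 ∣ Nat.card G by rw [hG]; norm_num)
  obtain ⟨y, hy⟩ := exists_prime_orderOf_dvd_card' 5 (show 5 ∣ Nat.card G by rw [hG]; norm_num)
  have hone : (fun _ => (1 : ℂ)) ∈ irrFinset G := mem_irrFinset.2 isIrrCharacter_one
  set S : Finset (G → ℂ) := (irrFinset G).erase (fun _ => 1) with hS
  choose! d c₁ c₂ e hd hdvd hc hc' he he' hw hr hn using fun χ (hχ : χ ∈ S) =>
    exists_data hG hx hy (mem_irrFinset.1 (mem_of_mem_erase hχ)) (mem_erase.1 hχ).1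
  set r : (G → ℂ) → ℤ := fun χ => 2 * ((d χ : ℤ) - 5 * (c₁ χ + c₂ χ)) - c₁ χ - c₂ χ with hr_def
  set n : (G → ℂ) → ℕ := fun χ =>
    (r χ * r χ + 11 * ((c₁ χ : ℤ) - c₂ χ) * ((c₁ χ : ℤ) - c₂ χ)).toNat with hn_def
  set w : (G → ℂ) → ℤ := fun χ => (d χ : ℤ) - 5 * e χ with hw_def
  have hn' : ∀ χ, (n χ : ℤ) = r χ * r χ + 11 * ((c₁ χ : ℤ) - c₂ χ) * ((c₁ χ : ℤ) - c₂ χ) := fun χ => by
    rw [hn_def]
    refine Int.toNat_of_nonneg ?_
    nlinarith [mul_self_nonneg (r χ), mul_self_nonneg ((c₁ χ : ℤ) - c₂ χ)]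
  have hC1 : Nat.card (Subgroup.centralizer ({(1 : G)} : Set G)) = 7920 := by
    rw [show Subgroup.centralizer ({(1 : G)} : Set G) = ⊤ from
      (Subgroup.eq_top_iff' _).2 fun g => Subgroup.mem_centralizer_singleton_iff.2 (by simp),
      Subgroup.card_top, hG]
  have hne : ∀ a b : G, orderOf a ≠ orderOf b → ¬ IsConj a b := fun a b hab hc => hab (by
    obtain ⟨u, hu⟩ := hc
    exact hu.orderOf_eq _)
  have hcol : ∀ a b : G, ∑ χ ∈ S, χ a * conj (χ b) =
      (if IsConj a b then (Nat.card (Subgroup.centralizer ({a} : Set G)) : ℂ) else 0) - 1 := fun a b => by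
    rw [hS, sum_erase_eq_sub hone, sum_irr_mul_conj]
    simp
  have h11 : orderOf x ≠ orderOf (1 : G) := by rw [hx, orderOf_one]; norm_num
  have h51 : orderOf y ≠ orderOf (1 : G) := by rw [hy, orderOf_one]; norm_num
  have hxy : orderOf x ≠ orderOf y := by rw [hx, hy]; norm_num
  have t1 : ∑ χ ∈ S, d χ * d χ = 7919 := by
    have h : ((∑ χ ∈ S, d χ * d χ : ℕ) : ℂ) = ((7919 : ℕ) : ℂ) := by
      push_cast
      rw [show (∑ χ ∈ S, (d χ : ℂ) * d χ) = ∑ χ ∈ S, χ 1 * conj (χ 1) from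
        sum_congr rfl fun χ hχ => by rw [hd χ hχ, Complex.conj_natCast],
        hcol, if_pos (IsConj.refl _), hC1]
      norm_num
    exact_mod_cast h
  have t2 : ∑ χ ∈ S, n χ = 40 := by
    have h : ((∑ χ ∈ S, (n χ : ℤ) : ℤ) : ℂ) = ((40 : ℤ) : ℂ) := by
      rw [Int.cast_sum, show (∑ χ ∈ S, ((n χ : ℤ) : ℂ)) = ∑ χ ∈ S, 4 * (χ x * conj (χ x)) from
        sum_congr rfl fun χ hχ => by rw [hn', hn χ hχ],
        ← mul_sum, hcol, if_pos (IsConj.refl _), (CfsgLib.Order7920.eleven hG hx).1]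
      norm_num
    exact_mod_cast h
  have t3 : ∑ χ ∈ S, (w χ).natAbs ^ 2 = 4 := by
    have h : ((∑ χ ∈ S, w χ * w χ : ℤ) : ℂ) = ((4 : ℤ) : ℂ) := by
      push_cast
      rw [show (∑ χ ∈ S, (w χ : ℂ) * w χ) = ∑ χ ∈ S, χ y * conj (χ y) from
        sum_congr rfl fun χ hχ => by rw [hw χ hχ, map_intCast],
        hcol, if_pos (IsConj.refl _), (CfsgLib.Order7920.five hG hy).1]
      norm_num
    have h' : ∑ χ ∈ S, w χ * w χ = 4 := by exact_mod_cast h
    zify
    simp only [sq]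
    simpa [abs_mul_abs_self] using h'
  have t4 : ∑ χ ∈ S, (d χ : ℤ) * r χ = -2 := by
    have h : ((∑ χ ∈ S, (d χ : ℤ) * r χ : ℤ) : ℂ) = ((-2 : ℤ) : ℂ) := by
      rw [Int.cast_sum, show (∑ χ ∈ S, (((d χ : ℤ) * r χ : ℤ) : ℂ)) =
          ∑ χ ∈ S, χ x * conj (χ 1) + ∑ χ ∈ S, χ 1 * conj (χ x) from by
        rw [← sum_add_distrib]
        refine sum_congr rfl fun χ hχ => ?_
        rw [hd χ hχ, Complex.conj_natCast, Int.cast_mul, Int.cast_natCast, ← hr χ hχ]
        ring,
        hcol, hcol, if_neg (hne _ _ h11), if_neg (hne _ _ h11.symm)]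
      norm_num
    exact_mod_cast h
  have t5 : ∑ χ ∈ S, (d χ : ℤ) * w χ = -1 := by
    have h : ((∑ χ ∈ S, (d χ : ℤ) * w χ : ℤ) : ℂ) = ((-1 : ℤ) : ℂ) := by
      rw [Int.cast_sum, show (∑ χ ∈ S, (((d χ : ℤ) * w χ : ℤ) : ℂ)) = ∑ χ ∈ S, χ y * conj (χ 1) from
        sum_congr rfl fun χ hχ => by
          rw [hd χ hχ, hw χ hχ, Complex.conj_natCast, Int.cast_mul, Int.cast_natCast, mul_comm],
        hcol, if_neg (hne _ _ h51)]
      norm_num
    exact_mod_cast h
  have t6 : ∑ χ ∈ S, r χ * w χ = -2 := by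
    have h : ((∑ χ ∈ S, r χ * w χ : ℤ) : ℂ) = ((-2 : ℤ) : ℂ) := by
      rw [Int.cast_sum, show (∑ χ ∈ S, ((r χ * w χ : ℤ) : ℂ)) =
          ∑ χ ∈ S, χ x * conj (χ y) + ∑ χ ∈ S, χ y * conj (χ x) from by
        rw [← sum_add_distrib]
        refine sum_congr rfl fun χ hχ => ?_
        rw [hw χ hχ, map_intCast, Int.cast_mul, ← hr χ hχ]
        ring,
        hcol, hcol, if_neg (hne _ _ hxy), if_neg (hne _ _ hxy.symm)]
      norm_num
    exact_mod_cast h
  have hmem : ∀ t ∈ S.val.map (fun χ => ((d χ, n χ, r χ, w χ) : Row)), t ∈ table := by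
    intro t ht
    obtain ⟨χ, hχ, rfl⟩ := Multiset.mem_map.1 ht
    have hd2 : d χ * d χ ≤ 7919 :=
      t1 ▸ single_le_sum (f := fun χ => d χ * d χ) (fun _ _ => Nat.zero_le _) hχ
    have hn2 : n χ ≤ 40 := t2 ▸ single_le_sum (f := n) (fun _ _ => Nat.zero_le _) hχ
    have hw2 : (w χ).natAbs ^ 2 ≤ 4 :=
      t3 ▸ single_le_sum (f := fun χ => (w χ).natAbs ^ 2) (fun _ _ => Nat.zero_le _) hχ
    refine mem_table (by nlinarith) (hdvd χ hχ) (hc χ hχ) (hc' χ hχ) (he χ hχ) (he' χ hχ) rfl (hn' χ) hn2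
      rfl ?_
    have : ((w χ).natAbs : ℤ) ^ 2 ≤ 4 := by exact_mod_cast hw2
    rw [Int.natAbs_sq, sq] at this
    exact this
  have key := search_sound table (by decide) 7919 40 4 (-2) (-1) (-2) [] search_table _ hmem
    (by rw [Multiset.map_map]; exact t1) (by rw [Multiset.map_map]; exact t2)
    (by rw [Multiset.map_map]; exact t3) (by rw [Multiset.map_map]; exact t4)
    (by rw [Multiset.map_map]; exact t5) (by rw [Multiset.map_map]; exact t6)
  rw [Multiset.coe_nil, add_zero] at key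
  have hdeg := congrArg (Multiset.map (fun t : Row => t.1)) key
  rw [Multiset.map_map, Multiset.map_coe, target_degrees] at hdeg
  have hval : (irrFinset G).val = (fun _ => (1 : ℂ)) ::ₘ S.val := by
    rw [hS, Finset.erase_val, Multiset.cons_erase hone]
  rw [hval, Multiset.map_cons, charDegree_eq (d := 1) (by simp)]
  rw [Multiset.map_congr rfl (fun χ hχ => charDegree_eq (hd χ hχ))]
  exact congrArg (1 ::ₘ ·) hdeg

end

end CfsgLib.Degrees7920
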