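/-
Exact Sylow numbers from candidate lists, and counting elements of several prime orders.
-/
import Cfsg.Agent.SmallSimple.OneSixtyEight
import Cfsg.Agent.PermSimple.Criteria

set_option autoImplicit false
set_option linter.style.haveILetI false

namespace CfsgLib.SmallSimple

open Subgroup

variable {G : Type*} [Group G] [Finite G] [IsSimpleGroup G]

/-- The number of Sylow subgroups of prime order when all other candidates give a centralising normaliser. -/
theorem card_sylow_of_candidates (p m K : ℕ) [hp : Fact p.Prime] (h : Nat.card G = p * m) (hpm : ¬ p ∣ m)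
    (hm : 1 < m) (hk : ∀ k : ℕ, k ∣ m → k % p = 1 → k ≠ 1 → Nat.gcd (m / k) (p - 1) = 1 ∨ k = K) :
    Nat.card (Sylow p G) = K ∧ ∀ P : Sylow p G, Nat.card (P : Subgroup G) = p ∧
      Nat.card (normalizer ((P : Subgroup G) : Set G)) = p * (m / K) := by
  have hP : ∀ P : Sylow p G, Nat.card (P : Subgroup G) = p := fun P =>
    (card_sylow_eq P (k := 1) (m := m) (by rw [h, pow_one]) hpm).trans (pow_one p)
  obtain ⟨P⟩ : Nonempty (Sylow p G) := inferInstance
  have hP1 : 1 < Nat.card (P : Subgroup G) := by rw [hP]; exact hp.out.one_lt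
  have hPlt : Nat.card (P : Subgroup G) < Nat.card G := by rw [hP, h]; exact lt_mul_of_one_lt_right hp.out.pos hm
  set k := Nat.card (Sylow p G)
  have hkm : k ∣ m := by
    have h1 := P.card_dvd_index
    have h2 := (P : Subgroup G).card_mul_index
    rw [hP, h] at h2
    rwa [Nat.eq_of_mul_eq_mul_left hp.out.pos h2] at h1
  have hk1 : k % p = 1 := Eq.trans (card_sylow_modEq_one p G) (Nat.mod_eq_of_lt hp.out.one_lt)
  have hN : ∀ Q : Sylow p G, Nat.card (normalizer ((Q : Subgroup G) : Set G)) = p * (m / k) := fun Q => by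
    refine Nat.eq_of_mul_eq_mul_left (Nat.card_pos : 0 < k) (((card_sylow_mul Q).trans h).trans ?_)
    rw [mul_left_comm, Nat.mul_div_cancel' hkm]
  rcases hk k hkm hk1
      (card_sylow_ne_one P hP1 hPlt) with hg | hK
  swap
  · exact ⟨hK, fun Q => ⟨hP Q, hK ▸ hN Q⟩⟩
  exfalso
  refine not_le_centralizer P hP1 hPlt ?_
  set N := normalizer ((P : Subgroup G) : Set G)
  set C := centralizer ((P : Subgroup G) : Set G)
  have hPC : (P : Subgroup G) ≤ C := by
    haveI : IsCyclic (P : Subgroup G) := isCyclic_of_prime_card (hP P)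
    exact fun x hx => mem_centralizer_iff.2 fun y hy => setLike_mul_comm (S := Subgroup G) hy hx
  obtain ⟨c, hc⟩ : p ∣ Nat.card C := hP P ▸ card_dvd_of_le hPC
  have hCN : C ≤ N := centralizer_le_normalizer _
  have hr : C.relIndex N * Nat.card C = Nat.card N := by
    rw [← relIndex_bot_left, ← relIndex_bot_left, mul_comm]
    exact relIndex_mul_relIndex _ _ _ bot_le hCN
  have h1 : C.relIndex N ∣ m / k := by
    refine ⟨c, Nat.eq_of_mul_eq_mul_left hp.out.pos ?_⟩
    rw [← hN P, ← hr, hc]
    ring
  have h2 : C.relIndex N ∣ p - 1 := by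
    have hd := CfsgLib.PermSimple.normalizer_card_dvd (P : Subgroup G) (hP P)
    rw [← hr, mul_comm] at hd
    exact (Nat.mul_dvd_mul_iff_left Nat.card_pos).1 hd
  exact relIndex_eq_one.1 (Nat.dvd_one.1 (hg ▸ Nat.dvd_gcd h1 h2))

end CfsgLib.SmallSimple
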