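/-
A decidable criterion against simple groups: Sylow numbers and centraliser orders for the primes
dividing the order only once, compatibility by double counting, and counting of elements.
-/
import Cfsg.Agent.SmallSimple.CountOrders

set_option autoImplicit false
set_option linter.style.haveILetI false
set_option linter.unusedSectionVars false

namespace CfsgLib.SylowCheck

open Subgroup MulAction

/-- A prime, a number of Sylow subgroups and the index of the Sylow subgroup in its centraliser. -/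
abbrev Datum : Type := ℕ × ℕ × ℕ

/-- Possible data for the prime `p`. -/
def opts (D : List ℕ) (d p : ℕ) : List Datum :=
  (D.filter fun k => d / p % k == 0 && k % p == 1 && k != 1 &&
      !(k == p + 1 && p % 4 == 3 && d / p / k % 2 == 0)).flatMap fun k =>
    ((List.range p).filter fun t => decide (2 ≤ t) && (p - 1) % t == 0 && d / p / k % t == 0).map
      fun t => (p, k, d / p / k / t)

/-- Possible numbers of Sylow `p`-subgroups of a group of order `p * m`. -/
def cands (D : List ℕ) (p m : ℕ) : List ℕ := D.filter fun a => m % a == 0 && a % p == 1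

/-- Commuting elements are counted in the same way from both sides. -/
def compat (D : List ℕ) (x y : Datum) : Bool :=
  x.2.2 % y.1 != 0 || (y.2.2 % x.1 == 0 && (cands D y.1 (x.1 * x.2.2 / y.1)).any fun a =>
    (cands D x.1 (y.1 * y.2.2 / x.1)).any fun b => x.2.1 * a == y.2.1 * b)

/-- All markings of a list. -/
def flags : List Datum → List (List (Datum × Bool))
  | [] => [[]]
  | x :: l => (flags l).flatMap fun f => [(x, true) :: f, (x, false) :: f]

/-- Marked primes do not commute. -/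
def good (l : List (Datum × Bool)) : Bool :=
  l.all fun u => l.all fun v => !u.2 || !v.2 || u.1.1 == v.1.1 || u.1.2.2 % v.1.1 != 0

/-- Number of elements accounted for. -/
def weight : List (Datum × Bool) → ℕ
  | [] => 0
  | (x, s) :: l => x.2.1 * ((x.1 - 1) * (if s then x.2.2 else 1)) + weight l

/-- Too many elements. -/
def counted (d : ℕ) (acc : List Datum) : Bool :=
  (flags acc).any fun l => good l && decide (d ≤ weight l)

/-- Every choice of data is contradictory. -/
def search (D : List ℕ) (d : ℕ) : List ℕ → List Datum → Bool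
  | [], acc => counted d acc
  | p :: ps, acc => (opts D d p).all fun o =>
      acc.any (fun u => !(compat D o u && compat D u o)) || search D d ps (o :: acc)

variable {G : Type*} [Group G] [Finite G]

/-- The data are those of the group. -/
def Real (G : Type*) [Group G] (x : Datum) : Prop :=
  x.1.Prime ∧ ¬ x.1 ^ 2 ∣ Nat.card G ∧ Nat.card (Sylow x.1 G) = x.2.1 ∧
    ∀ Q : Sylow x.1 G, Nat.card (Q : Subgroup G) = x.1 ∧
      Nat.card (centralizer ((Q : Subgroup G) : Set G)) = x.1 * x.2.2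

theorem centralizer_of_orderOf {x : Datum} (hx : Real G x) {g : G} (hg : orderOf g = x.1) :
    ∃ Q : Sylow x.1 G, g ∈ (Q : Subgroup G) ∧
      centralizer ({g} : Set G) = centralizer ((Q : Subgroup G) : Set G) := by
  haveI : Fact x.1.Prime := ⟨hx.1⟩
  obtain ⟨Q, hQ⟩ := (IsPGroup.of_card (n := 1) (G := zpowers g)
    (by rw [Nat.card_zpowers, hg, pow_one])).exists_le_sylow
  have hQz : (Q : Subgroup G) = zpowers g :=
    (eq_of_le_of_card_ge hQ (by rw [(hx.2.2.2 Q).1, Nat.card_zpowers, hg])).symm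
  exact ⟨Q, hQ (mem_zpowers g), by
    rw [hQz, Subgroup.zpowers_eq_closure, Subgroup.centralizer_closure]⟩

theorem dvd_of_commute {x y : Datum} (hx : Real G x) (hy : Real G y) (hne : x.1 ≠ y.1) {g h : G}
    (hg : orderOf g = x.1) (hh : orderOf h = y.1) (hc : Commute g h) : y.1 ∣ x.2.2 := by
  obtain ⟨Q, -, hQ⟩ := centralizer_of_orderOf hx hg
  have hm : h ∈ centralizer ((Q : Subgroup G) : Set G) :=
    hQ ▸ mem_centralizer_singleton_iff.2 hc.symm
  have := Subgroup.orderOf_dvd_natCard _ hm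
  rw [hh, (hx.2.2.2 Q).2] at this
  exact (hy.1.dvd_mul.1 this).resolve_left fun h' => hne ((Nat.prime_dvd_prime_iff_eq hy.1 hx.1).1 h').symm

theorem pair_count {x y : Datum} (hx : Real G x) (hy : Real G y) (hne : x.1 ≠ y.1) (hd : y.1 ∣ x.2.2) :
    ∃ a : ℕ, a % y.1 = 1 ∧ a ∣ x.1 * x.2.2 / y.1 ∧ a ∣ Nat.card G ∧
      Nat.card {z : G × G // orderOf z.1 = x.1 ∧ orderOf z.2 = y.1 ∧ Commute z.1 z.2} =
        x.2.1 * (x.1 - 1) * (a * (y.1 - 1)) := by
  classical
  haveI : Fact x.1.Prime := ⟨hx.1⟩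
  haveI : Fact y.1.Prime := ⟨hy.1⟩
  obtain ⟨P⟩ : Nonempty (Sylow x.1 G) := inferInstance
  set C := centralizer ((P : Subgroup G) : Set G) with hC
  have hCc : Nat.card C = x.1 * x.2.2 := (hx.2.2.2 P).2
  have hCG : x.1 * x.2.2 ∣ Nat.card G := hCc ▸ Subgroup.card_subgroup_dvd_card C
  obtain ⟨e, he⟩ := hd
  have hCy : Nat.card C = y.1 ^ 1 * (x.1 * e) := by rw [hCc, he]; ring
  have hye : ¬ y.1 ∣ x.1 * e := fun ⟨u, hu⟩ => hy.2.1 (Dvd.dvd.trans ⟨u, by
    rw [he, mul_left_comm, hu]; ring⟩ hCG)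
  have hsyl : ∀ R : Sylow y.1 C, Nat.card (R : Subgroup C) = y.1 := fun R => by
    rw [CfsgLib.SmallSimple.card_sylow_eq R hCy hye, pow_one]
  refine ⟨Nat.card (Sylow y.1 C), ?_, ?_, ?_, ?_⟩
  · exact Eq.trans (card_sylow_modEq_one y.1 C) (Nat.mod_eq_of_lt hy.1.one_lt)
  · obtain ⟨R⟩ : Nonempty (Sylow y.1 C) := inferInstance
    have h1 := R.card_dvd_index
    have h2 := (R : Subgroup C).card_mul_index
    rw [hsyl R, hCc] at h2
    rwa [← h2, Nat.mul_div_cancel_left _ hy.1.pos]
  · obtain ⟨R⟩ : Nonempty (Sylow y.1 C) := inferInstance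
    exact (R.card_dvd_index.trans (Subgroup.index_dvd_card _)).trans (Subgroup.card_subgroup_dvd_card C)
  have hfib : ∀ g : {g : G // orderOf g = x.1},
      Nat.card {h : G // orderOf h = y.1 ∧ Commute (g : G) h} = Nat.card (Sylow y.1 C) * (y.1 - 1) := by
    rintro ⟨g, hg⟩
    obtain ⟨Q, -, hQ⟩ := centralizer_of_orderOf hx hg
    obtain ⟨u, rfl⟩ := MulAction.exists_smul_eq G P Q
    rw [← CfsgLib.Simple168.card_orderOf_prime hsyl]
    symm
    have hmap : centralizer ({g} : Set G) = C.map (MulAut.conj u).toMonoidHom := by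
      rw [hQ, hC]
      ext z
      rw [Subgroup.mem_map_equiv, mem_centralizer_iff, mem_centralizer_iff]
      simp only [SetLike.mem_coe, Sylow.coe_subgroup_smul, Subgroup.mem_pointwise_smul_iff_inv_smul_mem,
        MulAut.smul_def, MulAut.conj_symm_apply, MulAut.inv_apply]
      constructor
      · intro h w hw
        have h1 := h (u * w * u⁻¹) (by simpa [mul_assoc] using hw)
        have h2 : u⁻¹ * (u * w * u⁻¹ * z) * u = u⁻¹ * (z * (u * w * u⁻¹)) * u := by rw [h1]
        simpa [mul_assoc] using h2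
      · intro h w hw
        have h1 := h _ hw
        have h2 : u * (u⁻¹ * w * u * (u⁻¹ * z * u)) * u⁻¹ = u * (u⁻¹ * z * u * (u⁻¹ * w * u)) * u⁻¹ := by
          rw [h1]
        simpa [mul_assoc] using h2
    let E := C.equivMapOfInjective (MulAut.conj u).toMonoidHom (MulAut.conj u).injective
    refine Nat.card_eq_of_bijective
      (fun h => ⟨((E h.1 : C.map (MulAut.conj u).toMonoidHom) : G), by
        rw [Subgroup.orderOf_coe, MulEquiv.orderOf_eq]; exact h.2, by
        exact (mem_centralizer_singleton_iff.1 (hmap.ge (E h.1).2)).symm⟩) ⟨?_, ?_⟩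
    · intro a b hab
      simp only [Subtype.mk.injEq] at hab
      exact Subtype.ext (E.injective (Subtype.ext hab))
    · rintro ⟨h, hh, hgh⟩
      have hm : h ∈ C.map (MulAut.conj u).toMonoidHom := hmap ▸ mem_centralizer_singleton_iff.2 hgh.symm
      refine ⟨⟨E.symm ⟨h, hm⟩, ?_⟩, Subtype.ext ?_⟩
      · rw [MulEquiv.orderOf_eq, ← Subgroup.orderOf_coe, hh]
      · show ((E (E.symm ⟨h, hm⟩) : C.map (MulAut.conj u).toMonoidHom) : G) = h
        rw [E.apply_symm_apply]
  haveI := Fintype.ofFinite {g : G // orderOf g = x.1}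
  let f : (Σ g : {g : G // orderOf g = x.1}, {h : G // orderOf h = y.1 ∧ Commute (g : G) h}) →
      {z : G × G // orderOf z.1 = x.1 ∧ orderOf z.2 = y.1 ∧ Commute z.1 z.2} :=
    fun a => ⟨(a.1, a.2), a.1.2, a.2.2.1, a.2.2.2⟩
  have hf : Function.Bijective f :=
    ⟨fun ⟨⟨a, _⟩, ⟨b, _⟩⟩ ⟨⟨a', _⟩, ⟨b', _⟩⟩ h => by
      simp only [f, Subtype.mk.injEq, Prod.mk.injEq] at h
      obtain ⟨rfl, rfl⟩ := h
      rfl, fun ⟨⟨a, b⟩, h1, h2, h3⟩ => ⟨⟨⟨a, h1⟩, ⟨b, h2, h3⟩⟩, rfl⟩⟩
  rw [← Nat.card_eq_of_bijective f hf, Nat.card_sigma, Finset.sum_congr rfl fun g _ => hfib g,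
    Finset.sum_const, smul_eq_mul, Finset.card_univ, ← Nat.card_eq_fintype_card,
    CfsgLib.Simple168.card_orderOf_prime fun Q => (hx.2.2.2 Q).1, hx.2.2.1]

theorem compat_of_real (D : List ℕ) (hD : ∀ k, k ∣ Nat.card G → k ∈ D) {x y : Datum} (hx : Real G x)
    (hy : Real G y) (hne : x.1 ≠ y.1) : compat D x y = true := by
  haveI : Fact x.1.Prime := ⟨hx.1⟩
  haveI : Fact y.1.Prime := ⟨hy.1⟩
  by_cases hd : y.1 ∣ x.2.2
  swap
  · simp [compat, Nat.dvd_iff_mod_eq_zero.not.1 hd]
  have hd' : x.1 ∣ y.2.2 := by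
    obtain ⟨P⟩ : Nonempty (Sylow x.1 G) := inferInstance
    obtain ⟨h, hh⟩ := exists_prime_orderOf_dvd_card' (G := centralizer ((P : Subgroup G) : Set G)) y.1
      ((hx.2.2.2 P).2 ▸ Dvd.dvd.mul_left hd _)
    obtain ⟨g, hg⟩ := exists_prime_orderOf_dvd_card' (G := (P : Subgroup G)) x.1 (by rw [(hx.2.2.2 P).1])
    exact dvd_of_commute hy hx hne.symm (g := (h : G)) (h := (g : G))
      (by rw [Subgroup.orderOf_coe, hh]) (by rw [Subgroup.orderOf_coe, hg])
      ((mem_centralizer_iff.1 h.2 g g.2).symm)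
  obtain ⟨a, ha1, ha2, ha3, ha⟩ := pair_count hx hy hne hd
  obtain ⟨b, hb1, hb2, hb3, hb⟩ := pair_count hy hx hne.symm hd'
  have hswap : Nat.card {z : G × G // orderOf z.1 = x.1 ∧ orderOf z.2 = y.1 ∧ Commute z.1 z.2} =
      Nat.card {z : G × G // orderOf z.1 = y.1 ∧ orderOf z.2 = x.1 ∧ Commute z.1 z.2} :=
    Nat.card_congr ((Equiv.prodComm G G).subtypeEquiv fun z =>
      ⟨fun ⟨h1, h2, h3⟩ => ⟨h2, h1, h3.symm⟩, fun ⟨h1, h2, h3⟩ => ⟨h2, h1, h3.symm⟩⟩)
  rw [ha, hb] at hswap
  have heq : x.2.1 * a = y.2.1 * b := by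
    have h1 : 0 < (x.1 - 1) * (y.1 - 1) := Nat.mul_pos (by have := hx.1.two_le; omega)
      (by have := hy.1.two_le; omega)
    refine Nat.eq_of_mul_eq_mul_right h1 ?_
    calc x.2.1 * a * ((x.1 - 1) * (y.1 - 1)) = x.2.1 * (x.1 - 1) * (a * (y.1 - 1)) := by ring
      _ = _ := hswap
      _ = _ := by ring
  simp only [compat, Bool.or_eq_true, Bool.and_eq_true, List.any_eq_true, beq_iff_eq]
  refine Or.inr ⟨Nat.mod_eq_zero_of_dvd hd', a, ?_, b, ?_, heq⟩ <;>
    simp only [cands, List.mem_filter, Bool.and_eq_true, beq_iff_eq]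
  · exact ⟨hD a ha3, Nat.dvd_iff_mod_eq_zero.1 ha2, ha1⟩
  · exact ⟨hD b hb3, Nat.dvd_iff_mod_eq_zero.1 hb2, hb1⟩

theorem card_marked {x : Datum} (hx : Real G x) :
    x.2.1 * ((x.1 - 1) * x.2.2) ≤ Nat.card {g : G // x.1 ∣ orderOf g} := by
  classical
  haveI : Fact x.1.Prime := ⟨hx.1⟩
  haveI := Fintype.ofFinite (Sylow x.1 G)
  have hp := hx.1
  -- the elements of order prime to `p` in a centraliser meet each coset of the Sylow subgroup once at most
  have hQ : ∀ Q : Sylow x.1 G, (x.1 - 1) * x.2.2 ≤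
      Nat.card {g : centralizer ((Q : Subgroup G) : Set G) // x.1 ∣ orderOf g} := by
    intro Q
    obtain ⟨hQc, hCc⟩ := hx.2.2.2 Q
    set C := centralizer ((Q : Subgroup G) : Set G)
    set Q' := (Q : Subgroup G).subgroupOf C
    have hQC : (Q : Subgroup G) ≤ C := by
      haveI : IsCyclic (Q : Subgroup G) := isCyclic_of_prime_card hQc
      exact fun a ha => mem_centralizer_iff.2 fun b hb => setLike_mul_comm (S := Subgroup G) hb ha
    have hQ' : Nat.card Q' = x.1 := by rw [Nat.card_congr (subgroupOfEquivOfLe hQC).toEquiv, hQc]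
    have hidx : Q'.index = x.2.2 :=
      Nat.eq_of_mul_eq_mul_left hp.pos (by rw [← hCc, ← Q'.card_mul_index, hQ'])
    have hinj : Function.Injective
        (fun g : {g : C // ¬ x.1 ∣ orderOf g} => (QuotientGroup.mk g.1 : C ⧸ Q')) := by
      rintro ⟨a, ha⟩ ⟨b, hb⟩ hab
      have hz : a⁻¹ * b ∈ Q' := QuotientGroup.eq.1 hab
      apply Subtype.ext
      by_contra hne
      have hz1 : a⁻¹ * b ≠ 1 := fun h => hne (inv_mul_eq_one.1 h)
      have hzo : orderOf (a⁻¹ * b) = x.1 := by
        have := Subgroup.orderOf_dvd_natCard Q' hz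
        rw [hQ'] at this
        exact ((Nat.dvd_prime hp).1 this).resolve_left fun h => hz1 (orderOf_eq_one_iff.1 h)
      have hcomm : Commute a (a⁻¹ * b) := Subtype.ext
        ((mem_centralizer_iff.1 a.2 _ (Subgroup.mem_subgroupOf.1 hz)).symm)
      have ho := hcomm.orderOf_mul_eq_mul_orderOf_of_coprime
        (by rw [hzo]; exact (hp.coprime_iff_not_dvd.2 ha).symm)
      rw [mul_inv_cancel_left, hzo] at ho
      exact hb (ho ▸ dvd_mul_left _ _)
    have h1 : Nat.card {g : C // ¬ x.1 ∣ orderOf g} ≤ x.2.2 := by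
      have := Nat.card_le_card_of_injective _ hinj
      rwa [← Subgroup.index_eq_card, hidx] at this
    haveI := Fintype.ofFinite C
    have h2 : Nat.card {g : C // x.1 ∣ orderOf g} + Nat.card {g : C // ¬ x.1 ∣ orderOf g} = x.1 * x.2.2 := by
      rw [← Nat.card_sum, Nat.card_congr (Equiv.sumCompl _), hCc]
    rw [Nat.sub_one_mul]
    omega
  let f : (Σ Q : Sylow x.1 G, {g : centralizer ((Q : Subgroup G) : Set G) // x.1 ∣ orderOf g}) →
      {g : G // x.1 ∣ orderOf g} :=
    fun a => ⟨((a.2.1 : centralizer ((a.1 : Subgroup G) : Set G)) : G), by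
      rw [Subgroup.orderOf_coe]; exact a.2.2⟩
  have hf : Function.Injective f := by
    rintro ⟨Q, ⟨⟨g, hg⟩, hgo⟩⟩ ⟨R, ⟨⟨g', hg'⟩, hgo'⟩⟩ h
    obtain rfl : g = g' := congrArg Subtype.val h
    rw [Subgroup.orderOf_mk] at hgo
    set w := g ^ (orderOf g / x.1)
    have hw : orderOf w = x.1 := orderOf_pow_orderOf_div (orderOf_pos g).ne' hgo
    have key : ∀ S : Sylow x.1 G, g ∈ centralizer ((S : Subgroup G) : Set G) →
        (S : Subgroup G) = zpowers w := by
      intro S hS
      have hwS : w ∈ (S : Subgroup G) := by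
        refine CfsgLib.SmallSimple.mem_sylow_of_smul_eq (n := 1)
          (by rw [pow_one, ← hw, pow_orderOf_eq_one]) S ?_
        exact Sylow.smul_eq_iff_mem_normalizer.2 (centralizer_le_normalizer _ (pow_mem hS _))
      exact (eq_of_le_of_card_ge (zpowers_le.2 hwS)
        (by rw [(hx.2.2.2 S).1, Nat.card_zpowers, hw])).symm
    obtain rfl : Q = R := Sylow.ext ((key Q hg).trans (key R hg').symm)
    rfl
  refine le_trans ?_ (Nat.card_le_card_of_injective f hf)
  rw [Nat.card_sigma, ← hx.2.2.1, Nat.card_eq_fintype_card, ← Finset.card_univ, ← smul_eq_mul,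
    ← Finset.sum_const]
  exact Finset.sum_le_sum fun Q _ => hQ Q

/-- The elements attached to marked data. -/
def elts (G : Type*) [Group G] : List (Datum × Bool) → Set G
  | [] => ∅
  | (x, s) :: l => {g : G | if s then x.1 ∣ orderOf g else orderOf g = x.1} ∪ elts G l

theorem mem_elts {l : List (Datum × Bool)} {g : G} (h : g ∈ elts G l) :
    ∃ u ∈ l, if u.2 then u.1.1 ∣ orderOf g else orderOf g = u.1.1 := by
  induction l with
  | nil => exact absurd h (Set.notMem_empty g)
  | cons u l ih =>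
    rcases h with h | h
    · exact ⟨u, by simp, h⟩
    · obtain ⟨v, hv, hv'⟩ := ih h
      exact ⟨v, by simp [hv], hv'⟩

theorem weight_le (l : List (Datum × Bool)) (hl : ∀ u ∈ l, Real G u.1)
    (hne : l.Pairwise fun u v => u.1.1 ≠ v.1.1) (hgood : good l = true) :
    weight l ≤ (elts G l).ncard := by
  induction l with
  | nil => simp [weight]
  | cons u l ih =>
    obtain ⟨x, s⟩ := u
    rw [List.pairwise_cons] at hne
    have hgood' : good l = true := by
      simp only [good, List.all_eq_true] at hgood ⊢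
      exact fun a ha b hb => hgood a (by simp [ha]) b (by simp [hb])
    have hx := hl (x, s) (by simp)
    have hdisj : Disjoint {g : G | if s then x.1 ∣ orderOf g else orderOf g = x.1} (elts G l) := by
      rw [Set.disjoint_left]
      intro g hg hg'
      obtain ⟨⟨y, t⟩, hv, hv'⟩ := mem_elts hg'
      have hy := hl (y, t) (by simp [hv])
      have hne' : x.1 ≠ y.1 := hne.1 _ hv
      cases s <;> cases t <;> simp at hg hv'
      · exact hne' (hg.symm.trans hv')
      · exact hne' ((Nat.prime_dvd_prime_iff_eq hy.1 hx.1).1 (hg ▸ hv')).symm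
      · exact hne' ((Nat.prime_dvd_prime_iff_eq hx.1 hy.1).1 (hv' ▸ hg))
      · have hd := dvd_of_commute hx hy hne' (orderOf_pow_orderOf_div (orderOf_pos g).ne' hg)
          (orderOf_pow_orderOf_div (orderOf_pos g).ne' hv') ((Commute.refl g).pow_pow _ _)
        simp only [good, List.all_eq_true] at hgood
        have := hgood (x, true) (by simp) (y, true) (by simp [hv])
        simp [hne', Nat.mod_eq_zero_of_dvd hd] at this
    show _ + weight l ≤ ({g : G | if s then x.1 ∣ orderOf g else orderOf g = x.1} ∪ elts G l).ncard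
    rw [Set.ncard_union_eq hdisj]
    refine Nat.add_le_add ?_ (ih (fun v hv => hl v (by simp [hv])) hne.2 hgood')
    cases s
    · simp only [Bool.false_eq_true, if_false, mul_one]
      haveI : Fact x.1.Prime := ⟨hx.1⟩
      rw [← Nat.card_coe_set_eq]
      exact (hx.2.2.1 ▸ CfsgLib.Simple168.card_orderOf_prime fun Q => (hx.2.2.2 Q).1).ge
    · simp only [if_true]
      rw [← Nat.card_coe_set_eq]
      exact card_marked hx

theorem flags_fst {acc : List Datum} {l : List (Datum × Bool)} (hl : l ∈ flags acc) :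
    l.map Prod.fst = acc := by
  induction acc generalizing l with
  | nil => simp [flags] at hl; simp [hl]
  | cons x acc ih =>
    simp only [flags, List.mem_flatMap, List.mem_cons, List.not_mem_nil, or_false] at hl
    obtain ⟨f, hf, rfl | rfl⟩ := hl <;> simp [ih hf]

theorem false_of_counted {acc : List Datum} (hacc : ∀ x ∈ acc, Real G x)
    (hne : acc.Pairwise fun u v => u.1 ≠ v.1) (h : counted (Nat.card G) acc = true) : False := by
  simp only [counted, List.any_eq_true, Bool.and_eq_true, decide_eq_true_eq] at h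
  obtain ⟨l, hl, hgood, hw⟩ := h
  rw [← flags_fst hl, List.pairwise_map] at hne
  rw [← flags_fst hl, List.forall_mem_map] at hacc
  have h1 := weight_le (G := G) l hacc hne hgood
  have h2 : elts G l ⊆ {(1 : G)}ᶜ := by
    intro g hg hg1
    obtain ⟨u, hu, hu'⟩ := mem_elts hg
    rw [Set.mem_singleton_iff.1 hg1, orderOf_one] at hu'
    have := (hacc u hu).1
    split_ifs at hu' with hs
    · exact this.one_lt.ne' (Nat.dvd_one.1 hu')
    · exact this.one_lt.ne hu'
  have h3 := Set.ncard_le_ncard h2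
  rw [Set.ncard_compl, Set.ncard_singleton] at h3
  have := Nat.card_pos (α := G)
  omega

variable [IsSimpleGroup G]

/-- For `n_p = p + 1` with `p` congruent to 3 modulo 4 the normaliser has odd order. -/
theorem normalizer_odd (hG : ¬ IsMulCommutative G) {p : ℕ} [hp : Fact p.Prime] (P : Sylow p G)
    (hP : Nat.card (P : Subgroup G) = p) (hk : Nat.card (Sylow p G) = p + 1) (h4 : p % 4 = 3) :
    ¬ 2 ∣ Nat.card (normalizer ((P : Subgroup G) : Set G)) := by
  intro h2
  classical
  haveI := Fintype.ofFinite (Sylow p G)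
  haveI : Fact (Nat.Prime 2) := ⟨Nat.prime_two⟩
  obtain ⟨⟨t, htN⟩, ht⟩ := exists_prime_orderOf_dvd_card' (G := normalizer ((P : Subgroup G) : Set G)) 2 h2
  rw [Subgroup.orderOf_mk] at ht
  set φ : G →* Equiv.Perm (Sylow p G) := MulAction.toPermHom G (Sylow p G)
  have hφ : Function.Injective φ := by
    rcases IsSimpleGroup.eq_bot_or_eq_top_of_normal φ.ker inferInstance with h | h
    · exact (MonoidHom.ker_eq_bot_iff φ).1 h
    · exfalso
      have h1 : ∀ g : G, g • P = P := fun g => by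
        have hg : g ∈ φ.ker := h ▸ mem_top g
        exact DFunLike.congr_fun (MonoidHom.mem_ker.1 hg) P
      haveI : Subsingleton (Sylow p G) := ⟨fun Q R => by
        obtain ⟨g, rfl⟩ := MulAction.exists_smul_eq G P Q
        obtain ⟨g', rfl⟩ := MulAction.exists_smul_eq G P R
        rw [h1, h1]⟩
      have := Nat.card_of_subsingleton (α := Sylow p G) P
      omega
  have htP : t • P = P := Sylow.smul_eq_iff_mem_normalizer.2 htN
  set s := φ t
  have hs2 : s ^ 2 = 1 := by rw [← map_pow, ← ht, pow_orderOf_eq_one, map_one]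
  have hs1 : s ≠ 1 := fun h => by
    rw [hφ (h.trans (map_one φ).symm), orderOf_one] at ht
    omega
  have hN : Fintype.card (Sylow p G) = p + 1 := by rw [← Nat.card_eq_fintype_card, hk]
  -- fixed points
  have hreg : ∀ z ∈ (P : Subgroup G), ∀ Q : Sylow p G, Q ≠ P → z • Q = Q → z = 1 := by
    intro z hz Q hQ hzQ
    by_contra hz1
    have hzp : orderOf z = p :=
      ((Nat.dvd_prime hp.out).1 (hP ▸ Subgroup.orderOf_dvd_natCard _ hz)).resolve_left
        fun h => hz1 (orderOf_eq_one_iff.1 h)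
    have hzQ' := CfsgLib.SmallSimple.mem_sylow_of_smul_eq (n := 1) (by rw [pow_one, ← hzp, pow_orderOf_eq_one]) Q hzQ
    have hQp : Nat.card (Q : Subgroup G) = p := by
      rw [Nat.card_congr (Q.equiv P).toEquiv, hP]
    refine hQ (Sylow.ext ?_)
    exact ((eq_of_le_of_card_ge (zpowers_le.2 hzQ') (by rw [hQp, Nat.card_zpowers, hzp])).symm).trans
      (eq_of_le_of_card_ge (zpowers_le.2 hz) (by rw [hP, Nat.card_zpowers, hzp]))
  -- the Sylow subgroup is transitive away from itself
  have htrans : ∀ Q R : Sylow p G, Q ≠ P → R ≠ P → ∃ z ∈ (P : Subgroup G), z • Q = R := by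
    intro Q R hQ hR
    have hzP : ∀ z : G, z ∈ (P : Subgroup G) → z • Q ≠ P := fun z hz h => hQ (by
      rw [← inv_smul_smul z Q, h]
      exact Sylow.smul_eq_iff_mem_normalizer.2 (le_normalizer (inv_mem hz)))
    let f : ↥(P : Subgroup G) → {S : Sylow p G // S ≠ P} := fun z => ⟨(z : G) • Q, hzP z z.2⟩
    have hfi : Function.Injective f := fun a b hab => by
      have hab' : (a : G) • Q = (b : G) • Q := congrArg Subtype.val hab
      have := hreg _ (mul_mem (inv_mem b.2) a.2) Q hQ (by rw [mul_smul, hab', inv_smul_smul])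
      exact Subtype.ext (inv_mul_eq_one.1 this).symm
    have hc : Nat.card {S : Sylow p G // S ≠ P} = p := by
      rw [Nat.card_eq_fintype_card, Fintype.card_subtype_compl, Fintype.card_subtype_eq, hN,
        Nat.add_sub_cancel]
    obtain ⟨z, hz⟩ := ((Nat.bijective_iff_injective_and_card f).2 ⟨hfi, by rw [hP, hc]⟩).2 ⟨R, hR⟩
    exact ⟨z, z.2, congrArg Subtype.val hz⟩
  set F := Finset.univ.filter fun Q => s Q = Q with hF
  have hPF : P ∈ F := Finset.mem_filter.2 ⟨Finset.mem_univ _, htP⟩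
  have hF2 : F.card ≤ 2 := by
    by_contra hlt
    push Not at hlt
    obtain ⟨Q, hQ, R, hR, hQR⟩ := Finset.one_lt_card.1 (show 1 < (F.erase P).card by
      rw [Finset.card_erase_of_mem hPF]; omega)
    rw [Finset.mem_erase] at hQ hR
    have hQf : t • Q = Q := (Finset.mem_filter.1 hQ.2).2
    have hRf : t • R = R := (Finset.mem_filter.1 hR.2).2
    obtain ⟨z, hz, hzR⟩ := htrans Q R hQ.1 hR.1
    have hz1 : z ≠ 1 := fun h => hQR (by rw [← hzR, h, one_smul])
    have htz : t * z * t⁻¹ ∈ (P : Subgroup G) := (mem_normalizer_iff.1 htN z).1 hz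
    have h' : (z⁻¹ * (t * z * t⁻¹)) • Q = Q := by
      simp only [mul_smul]
      rw [inv_smul_eq_iff.2 hQf.symm, hzR, hRf]
      exact inv_smul_eq_iff.2 hzR.symm
    have htz' : z = t * z * t⁻¹ :=
      inv_mul_eq_one.1 (hreg _ (mul_mem (inv_mem hz) htz) Q hQ.1 h')
    have hzp : orderOf z = p :=
      ((Nat.dvd_prime hp.out).1 (hP ▸ Subgroup.orderOf_dvd_natCard _ hz)).resolve_left
        fun h => hz1 (orderOf_eq_one_iff.1 h)
    have hPz : (P : Subgroup G) = zpowers z :=
      (eq_of_le_of_card_ge (zpowers_le.2 hz) (by rw [hP, Nat.card_zpowers, hzp])).symm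
    have hcen : ∀ w ∈ (P : Subgroup G), Commute t w := by
      intro w hw
      rw [hPz] at hw
      obtain ⟨i, rfl⟩ := hw
      exact Commute.zpow_right (mul_inv_eq_iff_eq_mul.1 htz'.symm) i
    refine hs1 (Equiv.ext fun S => ?_)
    show t • S = S
    by_cases hS : S = P
    · rw [hS, htP]
    obtain ⟨w, hw, rfl⟩ := htrans Q S hQ.1 hS
    rw [← mul_smul, (hcen w hw).eq, mul_smul, hQf]
  have hsupp : s.support.card + F.card = p + 1 := by
    rw [← hN, ← Finset.card_univ, ← Finset.card_filter_add_card_filter_not (s := Finset.univ) (fun Q => s Q ≠ Q)]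
    congr 1
    simp [hF]
  have heven := Equiv.Perm.two_dvd_card_support hs2
  have hF1 : 0 < F.card := Finset.card_pos.2 ⟨P, hPF⟩
  have hsign := Equiv.Perm.sign_of_pow_two_eq_one hs2
  have hfix : Fintype.card (Function.fixedPoints s) = F.card :=
    Fintype.card_of_subtype F fun Q => by simp [hF, Function.mem_fixedPoints, Function.IsFixedPt]
  rw [hfix, hN] at hsign
  rw [CfsgLib.SmallSimple.sign_eq_one hG φ t, Odd.neg_one_pow (Nat.odd_iff.2 (by omega))] at hsign
  exact absurd hsign (by decide)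

/-- The data of a group are among the options. -/
theorem exists_real (hG : ¬ IsMulCommutative G) (D : List ℕ) (hD : ∀ k, k ∣ Nat.card G → k ∈ D) {p : ℕ}
    (hp : p.Prime) (hd : p ∣ Nat.card G) (hd2 : ¬ p ^ 2 ∣ Nat.card G) :
    ∃ x ∈ opts D (Nat.card G) p, Real G x ∧ x.1 = p := by
  haveI : Fact p.Prime := ⟨hp⟩
  obtain ⟨m, hm⟩ := hd
  have hpm : ¬ p ∣ m := fun ⟨u, hu⟩ => hd2 ⟨u, by rw [hm, hu]; ring⟩
  have hsyl : ∀ Q : Sylow p G, Nat.card (Q : Subgroup G) = p := fun Q => by
    rw [CfsgLib.SmallSimple.card_sylow_eq Q (k := 1) (m := m) (by rw [hm, pow_one]) hpm, pow_one]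
  have hm1 : 1 < m := by
    by_contra hle
    rcases (by omega : m = 0 ∨ m = 1) with h | h
    · exact (Nat.card_pos (α := G)).ne' (by rw [hm, h, mul_zero])
    · haveI : IsCyclic G := isCyclic_of_prime_card (α := G) (p := p) (by rw [hm, h, mul_one])
      exact hG ⟨⟨fun a b => (IsCyclic.commGroup (α := G)).mul_comm a b⟩⟩
  obtain ⟨P⟩ : Nonempty (Sylow p G) := inferInstance
  have hP1 : 1 < Nat.card (P : Subgroup G) := by rw [hsyl]; exact hp.one_lt
  have hPlt : Nat.card (P : Subgroup G) < Nat.card G := by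
    rw [hsyl, hm]; exact lt_mul_of_one_lt_right hp.pos hm1
  set k := Nat.card (Sylow p G) with hk
  set N := normalizer ((P : Subgroup G) : Set G) with hNdef
  set C := centralizer ((P : Subgroup G) : Set G) with hCdef
  have hkN : k * Nat.card N = p * m := (CfsgLib.SmallSimple.card_sylow_mul P).trans hm
  have hkm : k ∣ m := by
    have h1 := P.card_dvd_index
    have h2 := (P : Subgroup G).card_mul_index
    rw [hsyl P, hm] at h2
    rwa [Nat.eq_of_mul_eq_mul_left hp.pos h2] at h1
  have hk1 : k % p = 1 := Eq.trans (card_sylow_modEq_one p G) (Nat.mod_eq_of_lt hp.one_lt)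
  have hkpos : 0 < k := Nat.card_pos
  have hN : Nat.card N = p * (m / k) :=
    Nat.eq_of_mul_eq_mul_left hkpos (hkN.trans (by rw [mul_left_comm, Nat.mul_div_cancel' hkm]))
  have hPC : (P : Subgroup G) ≤ C := by
    haveI : IsCyclic (P : Subgroup G) := isCyclic_of_prime_card (hsyl P)
    exact fun a ha => mem_centralizer_iff.2 fun b hb => setLike_mul_comm (S := Subgroup G) hb ha
  obtain ⟨c, hc⟩ : p ∣ Nat.card C := hsyl P ▸ card_dvd_of_le hPC
  have hCN : C ≤ N := centralizer_le_normalizer _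
  set t := C.relIndex N
  have hr : t * Nat.card C = Nat.card N := by
    rw [← relIndex_bot_left, ← relIndex_bot_left, mul_comm]
    exact relIndex_mul_relIndex _ _ _ bot_le hCN
  have htc : m / k = c * t := Nat.eq_of_mul_eq_mul_left hp.pos (by rw [← hN, ← hr, hc]; ring)
  have htp : t ∣ p - 1 := by
    have h := CfsgLib.PermSimple.normalizer_card_dvd (P : Subgroup G) (hsyl P)
    rw [← hr, mul_comm] at h
    exact (Nat.mul_dvd_mul_iff_left Nat.card_pos).1 h
  have ht0 : 0 < t := Nat.pos_of_dvd_of_pos htp (by have := hp.two_le; omega)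
  have ht1 : t ≠ 1 := fun h =>
    CfsgLib.SmallSimple.not_le_centralizer P hP1 hPlt (relIndex_eq_one.1 h)
  have hdiv : Nat.card G / p = m := by rw [hm, Nat.mul_div_cancel_left _ hp.pos]
  have hcc : ∀ Q : Sylow p G, Nat.card (centralizer ((Q : Subgroup G) : Set G)) = p * c := by
    intro Q
    obtain ⟨u, rfl⟩ := MulAction.exists_smul_eq G P Q
    rw [← hc]
    refine (Nat.card_congr ((MulAut.conj u).toEquiv.subtypeEquiv fun z => ?_)).symm
    show z ∈ C ↔ MulAut.conj u z ∈ centralizer (((u • P : Sylow p G) : Subgroup G) : Set G)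
    rw [hCdef, mem_centralizer_iff, mem_centralizer_iff]
    simp only [SetLike.mem_coe, Sylow.coe_subgroup_smul, Subgroup.mem_pointwise_smul_iff_inv_smul_mem,
      MulAut.smul_def, MulAut.inv_apply]
    constructor
    · intro h w hw
      have h1 := congrArg (MulAut.conj u) (h _ hw)
      rwa [map_mul, map_mul, MulEquiv.apply_symm_apply] at h1
    · intro h w hw
      refine (MulAut.conj u).injective ?_
      rw [map_mul, map_mul]
      exact h _ (by rw [MulEquiv.symm_apply_apply]; exact hw)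
  refine ⟨(p, k, c), ?_, ⟨hp, hd2, rfl, fun Q => ⟨hsyl Q, hcc Q⟩⟩, rfl⟩
  simp only [opts, List.mem_flatMap, List.mem_filter, List.mem_map, Bool.and_eq_true, beq_iff_eq,
    bne_iff_ne, Bool.not_eq_true', List.mem_range, decide_eq_true_eq, hdiv]
  refine ⟨k, ⟨hD k (hkm.trans ⟨p, by rw [hm, mul_comm]⟩),
    ⟨⟨Nat.mod_eq_zero_of_dvd hkm, hk1⟩, CfsgLib.SmallSimple.card_sylow_ne_one P hP1 hPlt⟩, ?_⟩, t,
    ⟨?_, ⟨by omega, Nat.mod_eq_zero_of_dvd htp⟩, Nat.mod_eq_zero_of_dvd ⟨c, by rw [htc, mul_comm]⟩⟩,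
    by rw [htc, Nat.mul_div_cancel _ ht0]⟩
  · by_contra hb
    simp only [Bool.not_eq_false, Bool.and_eq_true, beq_iff_eq] at hb
    obtain ⟨⟨h1, h2⟩, h3⟩ := hb
    refine normalizer_odd hG P (hsyl P) h1 h2 ?_
    rw [← hNdef, hN]
    exact Dvd.dvd.mul_left (Nat.dvd_of_mod_eq_zero h3) _
  · have := Nat.le_of_dvd (by have := hp.two_le; omega) htp
    have := hp.two_le
    omega

theorem false_of_search (hG : ¬ IsMulCommutative G) (D : List ℕ) (hD : ∀ k, k ∣ Nat.card G → k ∈ D)
    (ps : List ℕ) (acc : List Datum) (hps : ∀ p ∈ ps, p.Prime ∧ p ∣ Nat.card G ∧ ¬ p ^ 2 ∣ Nat.card G)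
    (hnd : (ps ++ acc.map Prod.fst).Nodup) (hacc : ∀ x ∈ acc, Real G x)
    (h : search D (Nat.card G) ps acc = true) : False := by
  induction ps generalizing acc with
  | nil =>
    rw [List.nil_append, List.Nodup, List.pairwise_map] at hnd
    exact false_of_counted hacc hnd h
  | cons p ps ih =>
    obtain ⟨hp, hd, hd2⟩ := hps p (by simp)
    obtain ⟨x, hx, hxr, rfl⟩ := exists_real hG D hD hp hd hd2
    simp only [search, List.all_eq_true] at h
    rcases Bool.or_eq_true_iff.1 (h x hx) with h' | h'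
    · simp only [List.any_eq_true] at h'
      obtain ⟨u, hu, hu'⟩ := h'
      have hne : x.1 ≠ u.1 := fun h => by
        rw [List.cons_append, List.nodup_cons] at hnd
        exact hnd.1 (h ▸ List.mem_append_right _ (List.mem_map_of_mem hu))
      simp [compat_of_real D hD hxr (hacc u hu) hne, compat_of_real D hD (hacc u hu) hxr hne.symm] at hu'
    · refine ih (x :: acc) (fun q hq => hps q (by simp [hq])) ?_ ?_ h'
      · rw [List.map_cons]
        exact (List.perm_middle).nodup_iff.2 hnd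
      · intro y hy
        rcases List.mem_cons.1 hy with rfl | hy
        exacts [hxr, hacc y hy]

end CfsgLib.SylowCheck
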