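/-
Four-groups and maximal subgroups of a simple group of order 168.
-/
import Cfsg.Agent.SmallSimple.OneSixtyEight

set_option autoImplicit false
set_option linter.style.haveILetI false
set_option linter.unusedSectionVars false

namespace CfsgLib.Simple168

open Subgroup CfsgLib.SmallSimple CfsgLib.InvChar
open scoped Pointwise

/-- The two four-groups of the dihedral group of order eight. -/
def dK (i : ZMod 4) : Subgroup (DihedralGroup 4) where
  carrier := {g | g = .r 0 ∨ g = .r 2 ∨ g = .sr i ∨ g = .sr (i + 2)}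
  one_mem' := Or.inl rfl
  mul_mem' := by
    intro a b ha hb
    revert ha hb
    revert a b
    revert i
    decide
  inv_mem' := by
    intro a ha
    revert ha
    revert a
    revert i
    decide

theorem dK_four (i : ZMod 4) : Nat.card (dK i) = 4 ∧ (∀ x ∈ dK i, x * x = 1) := by
  classical
  have h : ∀ i : ZMod 4, ({DihedralGroup.r 0, .r 2, .sr i, .sr (i + 2)} : Finset (DihedralGroup 4)).card = 4 ∧
      ∀ x ∈ ({DihedralGroup.r 0, .r 2, .sr i, .sr (i + 2)} : Finset (DihedralGroup 4)), x * x = 1 := by decide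
  refine ⟨?_, fun x hx => (h i).2 x (by simpa using (show x = .r 0 ∨ x = .r 2 ∨ x = .sr i ∨ x = .sr (i + 2) from hx))⟩
  refine Eq.trans ?_ ((Nat.card_eq_finsetCard _).trans (h i).1)
  exact Nat.card_congr (Equiv.subtypeEquivRight fun x => by
    simp only [Finset.mem_insert, Finset.mem_singleton]; rfl)

theorem dihedral_four_groups {K : Subgroup (DihedralGroup 4)} (h4 : Nat.card K = 4) (h2 : ∀ x ∈ K, x * x = 1) :
    K = dK 0 ∨ K = dK 1 := by
  classical
  set s := Finset.univ.filter fun x : DihedralGroup 4 => x ∈ K with hs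
  have hc : s.card = 4 := by rw [hs, ← Fintype.card_subtype, ← Nat.card_eq_fintype_card]; exact h4
  have key : ∀ s ∈ (Finset.univ : Finset (DihedralGroup 4)).powersetCard 4,
      (∀ x ∈ s, x * x = 1) → (∀ x ∈ s, ∀ y ∈ s, x * y ∈ s) →
      s = {DihedralGroup.r 0, .r 2, .sr 0, .sr 2} ∨ s = {DihedralGroup.r 0, .r 2, .sr 1, .sr 3} := by
    decide +kernel
  have hk := key s (Finset.mem_powersetCard.mpr ⟨Finset.subset_univ _, hc⟩)
    (fun x hx => h2 x (Finset.mem_filter.mp hx).2) (fun x hx y hy => Finset.mem_filter.mpr ⟨Finset.mem_univ _,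
      mul_mem (Finset.mem_filter.mp hx).2 (Finset.mem_filter.mp hy).2⟩)
  refine hk.imp (fun e => ?_) (fun e => ?_) <;>
  · ext x
    rw [show x ∈ K ↔ x ∈ s by simp [hs], e]
    simp only [Finset.mem_insert, Finset.mem_singleton]
    rfl

variable {G : Type*} [Group G] [Finite G] [IsSimpleGroup G] (h : Nat.card G = 168)
include h

theorem exists_klein_pair (T : Sylow 2 G) : ∃ U W : Subgroup G, U ≤ (T : Subgroup G) ∧ W ≤ (T : Subgroup G) ∧
    IsKleinFour ↥U ∧ IsKleinFour ↥W ∧ U ≠ W ∧
    ∀ V : Subgroup G, V ≤ (T : Subgroup G) → IsKleinFour ↥V → V = U ∨ V = W := by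
  obtain ⟨e⟩ := nonempty_dihedral h T
  let ι : DihedralGroup 4 →* G := (T : Subgroup G).subtype.comp e.symm.toMonoidHom
  have hι : Function.Injective ι := Subtype.val_injective.comp e.symm.injective
  have hmk : ∀ i, IsKleinFour ↥((dK i).map ι) := fun i => by
    refine isKleinFour_of (by rw [card_map_of_injective hι]; exact (dK_four i).1) ?_
    rintro _ ⟨x, hx, rfl⟩
    rw [← map_mul, (dK_four i).2 x hx, map_one]
  have hle : ∀ i, (dK i).map ι ≤ (T : Subgroup G) := fun i => by
    rintro _ ⟨x, -, rfl⟩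
    exact (e.symm x).2
  refine ⟨_, _, hle 0, hle 1, hmk 0, hmk 1, fun he => ?_, fun V hV hK => ?_⟩
  · have h1 : (DihedralGroup.sr 1 : DihedralGroup 4) ∈ dK 0 := by
      rw [map_injective hι he]; exact Or.inr (Or.inr (Or.inl rfl))
    exact absurd (show (DihedralGroup.sr (1 : ZMod 4)) = .r 0 ∨ DihedralGroup.sr (1 : ZMod 4) = .r 2 ∨
      DihedralGroup.sr (1 : ZMod 4) = .sr 0 ∨ DihedralGroup.sr (1 : ZMod 4) = .sr (0 + 2) from h1) (by decide)
  · have hr : V ≤ ι.range := fun x hx => ⟨e ⟨x, hV hx⟩, by simp [ι]⟩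
    have hV' : (V.comap ι).map ι = V := map_comap_eq_self hr
    refine (dihedral_four_groups (K := V.comap ι) ?_ fun x hx => hι ?_).imp (fun ek => ?_) (fun ek => ?_)
    · rw [← card_map_of_injective hι, hV']; exact IsKleinFour.card_four
    · rw [map_mul, map_one]; exact klein_sq (U := V) hx
    · rw [← hV', ek]
    · rw [← hV', ek]

theorem klein_not_conj (T : Sylow 2 G) {U W : Subgroup G} (hU : U ≤ (T : Subgroup G)) (hW : W ≤ (T : Subgroup G))
    [IsKleinFour ↥U] [IsKleinFour ↥W] (hne : U ≠ W) (g : G) : U.map (MulAut.conj g).toMonoidHom ≠ W := by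
  intro hg
  have hUn := sylow_le_normalizer h T IsKleinFour.card_four hU
  obtain ⟨n, hn, hnm⟩ := exists_conj_normalizer T hUn (sylow_le_normalizer h T IsKleinFour.card_four hW) hg
  rw [normalizer_two h] at hn
  exact hne ((map_conj_eq_of_mem (hUn hn)).symm.trans hnm)

theorem klein_conj_into (T : Sylow 2 G) {V : Subgroup G} [IsKleinFour ↥V] :
    ∃ g : G, V.map (MulAut.conj g).toMonoidHom ≤ (T : Subgroup G) ∧ IsKleinFour ↥(V.map (MulAut.conj g).toMonoidHom) := by
  obtain ⟨g, -, hg⟩ := exists_conj_le_sylow T (N := ⊤) le_top le_top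
    (IsPGroup.of_card (n := 2) IsKleinFour.card_four : IsPGroup 2 V)
  refine ⟨g, hg, isKleinFour_of ?_ ?_⟩
  · rw [card_map_of_injective (MulAut.conj g).injective]; exact IsKleinFour.card_four
  · rintro _ ⟨x, hx, rfl⟩
    rw [← map_mul, klein_sq hx, map_one]

omit h in
theorem map_conj_normalizer (H : Subgroup G) (g : G) :
    (normalizer (H : Set G)).map (MulAut.conj g).toMonoidHom =
      normalizer ((H.map (MulAut.conj g).toMonoidHom : Subgroup G) : Set G) :=
  map_equiv_normalizer_eq H (MulAut.conj g)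

theorem exists_klein : ∃ U : Subgroup G, IsKleinFour ↥U := by
  obtain ⟨T⟩ : Nonempty (Sylow 2 G) := Sylow.nonempty
  obtain ⟨U, -, -, -, hU, -⟩ := exists_klein_pair h T
  exact ⟨U, hU⟩

theorem normalizer_three_le (R : Sylow 3 G) :
    ∃ U : Subgroup G, IsKleinFour ↥U ∧ normalizer ((R : Subgroup G) : Set G) ≤ normalizer (U : Set G) := by
  obtain ⟨U, hU⟩ := exists_klein h
  set M := normalizer (U : Set G) with hMdef
  have hM : Nat.card M = 24 := card_normalizer_klein h
  have h4 := card_sylow_three_sub h (M := M) (m := 8) hM (by norm_num) (by norm_num) dvd_rfl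
  obtain ⟨S⟩ : Nonempty (Sylow 3 M) := Sylow.nonempty
  have hS : Nat.card (S : Subgroup M) = 3 := by
    rw [card_sylow_eq S (k := 1) (m := 8) (by rw [hM]; norm_num) (by norm_num)]; norm_num
  set Q := (S : Subgroup M).map M.subtype with hQ
  have hQc : Nat.card Q = 3 := by rw [hQ, card_map_of_injective M.subtype_injective, hS]
  obtain ⟨R0, hR0⟩ := (IsPGroup.of_card (n := 1) (G := Q) (by rw [hQc]; norm_num)).exists_le_sylow (p := 3)
  have hQR : Q = (R0 : Subgroup G) := eq_of_le_of_card_ge hR0 (by rw [hQc, card_three h])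
  have h6 : normalizer ((R0 : Subgroup G) : Set G) ≤ M := by
    have hN := card_sylow_mul S
    rw [h4, hM] at hN
    have hle : (normalizer ((S : Subgroup M) : Set M)).map M.subtype ≤ normalizer ((R0 : Subgroup G) : Set G) := by
      rintro _ ⟨m, hm, rfl⟩
      rw [← hQR]
      apply mem_normalizer_of_map_conj_eq
      rw [hQ, Subgroup.map_map]
      conv_rhs => rw [← map_conj_eq_of_mem hm]
      rw [Subgroup.map_map]
      rfl
    rw [← eq_of_le_of_card_ge hle (by
      rw [card_map_of_injective M.subtype_injective, card_normalizer_three h]; omega)]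
    exact map_subtype_le _
  obtain ⟨g, rfl⟩ := MulAction.exists_smul_eq G R0 R
  refine ⟨U.map (MulAut.conj g).toMonoidHom, isKleinFour_of ?_ ?_, ?_⟩
  · rw [card_map_of_injective (MulAut.conj g).injective]; exact IsKleinFour.card_four
  · rintro _ ⟨x, hx, rfl⟩
    rw [← map_mul, klein_sq hx, map_one]
  · rw [← map_conj_normalizer, Sylow.coe_subgroup_smul]
    refine le_trans ?_ (map_mono (f := (MulAut.conj g).toMonoidHom) h6)
    rw [map_conj_normalizer]
    exact le_of_eq rfl

theorem two_group_le {V : Subgroup G} (hV : IsPGroup 2 V) :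
    ∃ U : Subgroup G, IsKleinFour ↥U ∧ V ≤ normalizer (U : Set G) := by
  obtain ⟨T, hT⟩ := hV.exists_le_sylow
  obtain ⟨U, -, hle, -, hU, -⟩ := exists_klein_pair h T
  exact ⟨U, hU, hT.trans (sylow_le_normalizer h T IsKleinFour.card_four hle)⟩

theorem twelve_le {M : Subgroup G} (hM : Nat.card M = 12) :
    ∃ U : Subgroup G, IsKleinFour ↥U ∧ M ≤ normalizer (U : Set G) := by
  classical
  haveI := Fintype.ofFinite M
  have h4 := card_sylow_three_sub h (M := M) (m := 4) hM (by norm_num) (by norm_num) (by norm_num)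
  have hsyl : ∀ R : Sylow 3 M, Nat.card (R : Subgroup M) = 3 := fun R => by
    rw [card_sylow_eq R (k := 1) (m := 4) (by rw [hM]; norm_num) (by norm_num)]; norm_num
  have h8 : Nat.card {g : M // orderOf g = 3} = 8 := by rw [card_orderOf_prime hsyl, h4]
  have hrest : (Finset.univ.filter fun g : M => ¬ orderOf g = 3).card = 4 := by
    have hh := Finset.card_filter_add_card_filter_not (s := (Finset.univ : Finset M)) (fun g : M => orderOf g = 3)
    rw [← Fintype.card_subtype, ← Nat.card_eq_fintype_card, h8, Finset.card_univ, ← Nat.card_eq_fintype_card, hM] at hh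
    omega
  have hV : ∀ V : Sylow 2 M, (Finset.univ.filter fun g : M => g ∈ (V : Subgroup M)) =
      Finset.univ.filter fun g : M => ¬ orderOf g = 3 := fun V => by
    have hc : Nat.card (V : Subgroup M) = 4 := by
      rw [card_sylow_eq V (k := 2) (m := 3) (by rw [hM]; norm_num) (by norm_num)]; norm_num
    refine Finset.eq_of_subset_of_card_le (fun g hg => Finset.mem_filter.mpr ⟨Finset.mem_univ _, fun e => ?_⟩) ?_
    · have := dvd_card_of_mem (Finset.mem_filter.mp hg).2
      rw [e, hc] at this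
      norm_num at this
    · rw [hrest, ← Fintype.card_subtype, ← Nat.card_eq_fintype_card, hc]
  haveI : Subsingleton (Sylow 2 M) := ⟨fun a b => Sylow.ext (SetLike.ext fun g => by
    have := Finset.ext_iff.mp ((hV a).trans (hV b).symm) g
    simpa using this)⟩
  obtain ⟨V⟩ : Nonempty (Sylow 2 M) := Sylow.nonempty
  have hc : Nat.card (V : Subgroup M) = 4 := by
    rw [card_sylow_eq V (k := 2) (m := 3) (by rw [hM]; norm_num) (by norm_num)]; norm_num
  haveI : (V : Subgroup M).Normal := Sylow.normal_of_subsingleton V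
  set U := (V : Subgroup M).map M.subtype with hU
  have hUc : Nat.card U = 4 := by rw [hU, card_map_of_injective M.subtype_injective, hc]
  have hle : M ≤ normalizer (U : Set G) := by
    refine le_normalizer_of_normal (map_subtype_le _) ?_
    rw [show U.subgroupOf M = (V : Subgroup M) from comap_map_eq_self_of_injective M.subtype_injective _]
    infer_instance
  refine ⟨U, isKleinFour_of hUc fun x hx => ?_, hle⟩
  by_contra hx2
  have hx4 : orderOf x = 4 := by
    rcases element_orders h x with e | e | e | e | e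
    · exact absurd (by rw [orderOf_eq_one_iff.mp e, mul_one]) hx2
    · exact absurd (by rw [← sq]; exact orderOf_dvd_iff_pow_eq_one.mp e.dvd) hx2
    · have := dvd_card_of_mem hx; rw [e, hUc] at this; norm_num at this
    · exact e
    · have := dvd_card_of_mem hx; rw [e, hUc] at this; norm_num at this
  have hzp : zpowers x = U := eq_of_le_of_card_ge (zpowers_le.mpr hx) (by rw [hUc, Nat.card_zpowers, hx4])
  have hMC : M ≤ centralizer ({x * x} : Set G) := fun m hm => by
    have := (mem_normalizer_iff.mp (hle hm) x).mp hx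
    rw [← hzp] at this
    exact mem_centralizer_singleton_iff.mpr (mul_inv_eq_iff_eq_mul.mp (conj_four_sq hx4 this))
  obtain ⟨T, -, hT⟩ := exists_sylow_four h hx4
  have := Nat.le_of_dvd Nat.card_pos (card_dvd_of_le hMC)
  rw [hT, card_two h, hM] at this
  omega

/-- The Klein four-group in the symmetric group of degree four. -/
def v4 : Subgroup (Equiv.Perm (Fin 4)) where
  carrier := {σ | σ * σ = 1 ∧ Equiv.Perm.sign σ = 1}
  one_mem' := ⟨mul_one 1, map_one _⟩
  mul_mem' := by
    intro a b ha hb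
    revert ha hb
    revert a b
    decide +kernel
  inv_mem' := by
    intro a ha
    revert ha
    revert a
    decide +kernel

omit h in
theorem v4_spec : Nat.card v4 = 4 ∧ v4.Normal := by
  refine ⟨?_, ⟨?_⟩⟩
  · show Nat.card {σ : Equiv.Perm (Fin 4) // σ * σ = 1 ∧ Equiv.Perm.sign σ = 1} = 4
    rw [Nat.card_eq_fintype_card]
    decide +kernel
  · show ∀ n : Equiv.Perm (Fin 4), (n * n = 1 ∧ Equiv.Perm.sign n = 1) → ∀ g : Equiv.Perm (Fin 4),
      (g * n * g⁻¹) * (g * n * g⁻¹) = 1 ∧ Equiv.Perm.sign (g * n * g⁻¹) = 1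
    decide +kernel

theorem twentyfour_eq {M : Subgroup G} (hM : Nat.card M = 24) :
    ∃ U : Subgroup G, IsKleinFour ↥U ∧ M = normalizer (U : Set G) := by
  obtain ⟨e⟩ := nonempty_symmetric h hM
  let ι : Equiv.Perm (Fin 4) →* G := M.subtype.comp e.symm.toMonoidHom
  have hι : Function.Injective ι := Subtype.val_injective.comp e.symm.injective
  have hK : IsKleinFour ↥(v4.map ι) := isKleinFour_of (by rw [card_map_of_injective hι]; exact v4_spec.1) (by
    rintro _ ⟨x, hx, rfl⟩
    rw [← map_mul, hx.1, map_one])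
  have hsub : v4.map ι ≤ M := by rintro _ ⟨x, -, rfl⟩; exact (e.symm x).2
  refine ⟨_, hK, eq_of_le_of_card_ge (le_normalizer_of_normal hsub ⟨fun n hn g => ?_⟩)
    (by rw [card_normalizer_klein h, hM])⟩
  obtain ⟨x, hx, hxn⟩ := hn
  refine ⟨e g * x * (e g)⁻¹, v4_spec.2.conj_mem x hx _, ?_⟩
  show ι (e g * x * (e g)⁻¹) = (g : G) * n * (g : G)⁻¹
  rw [map_mul, map_mul, map_inv, hxn]
  simp [ι]

theorem seven_le {M : Subgroup G} (hM : M ≠ ⊤) (h7 : 7 ∣ Nat.card M) :
    ∃ P : Sylow 7 G, M ≤ normalizer ((P : Subgroup G) : Set G) := by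
  obtain ⟨S⟩ : Nonempty (Sylow 7 M) := Sylow.nonempty
  have hle := card_le h M hM
  obtain ⟨m, hm⟩ := h7
  have hm3 : m ≤ 3 := by omega
  have hm0 : 0 < m := by
    rcases Nat.eq_zero_or_pos m with rfl | hp
    · have := Nat.card_pos (α := M); omega
    · exact hp
  have hS : Nat.card (S : Subgroup M) = 7 := by
    rw [card_sylow_eq S (k := 1) (m := m) (by rw [hm]; ring) (Nat.not_dvd_of_pos_of_lt hm0 (by omega))]
    norm_num
  have h1 := (S : Subgroup M).card_mul_index
  rw [hS, hm] at h1
  have hd : Nat.card (Sylow 7 M) ∣ m := (show (S : Subgroup M).index = m by omega) ▸ S.card_dvd_index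
  have hmod : Nat.card (Sylow 7 M) % 7 = 1 := card_sylow_modEq_one 7 M
  have := Nat.le_of_dvd hm0 hd
  haveI : Subsingleton (Sylow 7 M) := (Nat.card_eq_one_iff_unique.mp (show Nat.card (Sylow 7 M) = 1 by omega)).1
  haveI : (S : Subgroup M).Normal := Sylow.normal_of_subsingleton S
  set Q := (S : Subgroup M).map M.subtype with hQ
  have hQc : Nat.card Q = 7 := by rw [hQ, card_map_of_injective M.subtype_injective, hS]
  obtain ⟨P, hP⟩ := (IsPGroup.of_card (n := 1) (G := Q) (by rw [hQc]; norm_num)).exists_le_sylow (p := 7)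
  refine ⟨P, ?_⟩
  rw [← eq_of_le_of_card_ge hP (by rw [hQc, card_seven h])]
  refine le_normalizer_of_normal (map_subtype_le _) ?_
  rw [show Q.subgroupOf M = (S : Subgroup M) from comap_map_eq_self_of_injective M.subtype_injective _]
  infer_instance

theorem exists_overgroup {M : Subgroup G} (hM : M ≠ ⊤) :
    (∃ U : Subgroup G, IsKleinFour ↥U ∧ M ≤ normalizer (U : Set G)) ∨
      ∃ P : Sylow 7 G, M ≤ normalizer ((P : Subgroup G) : Set G) := by
  by_cases h7 : 7 ∣ Nat.card M
  · exact Or.inr (seven_le h hM h7)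
  left
  have hle := card_le h M hM
  have hd : Nat.card M ∣ 168 := h ▸ card_subgroup_dvd_card M
  have h24 : Nat.card M ∣ 24 := Nat.Coprime.dvd_of_dvd_mul_right
    ((Nat.Prime.coprime_iff_not_dvd (by norm_num)).mpr h7).symm (show Nat.card M ∣ 24 * 7 from hd)
  have hcases : Nat.card M ∣ 8 ∨ Nat.card M = 3 ∨ Nat.card M = 6 ∨ Nat.card M = 12 ∨ Nat.card M = 24 := by
    have := Nat.card_pos (α := M)
    interval_cases Nat.card M <;> omega
  have h36 : ∀ m, Nat.card M = 3 * m → ¬ 3 ∣ m → m ≤ 2 →
      ∃ U : Subgroup G, IsKleinFour ↥U ∧ M ≤ normalizer (U : Set G) := by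
    intro m hm h3 hm2
    obtain ⟨S⟩ : Nonempty (Sylow 3 M) := Sylow.nonempty
    have hS : Nat.card (S : Subgroup M) = 3 := by
      rw [card_sylow_eq S (k := 1) (m := m) (by rw [hm]; ring) h3]; norm_num
    have h1 := (S : Subgroup M).card_mul_index
    rw [hS, hm] at h1
    have hdm : Nat.card (Sylow 3 M) ∣ m := (show (S : Subgroup M).index = m by omega) ▸ S.card_dvd_index
    have hmod : Nat.card (Sylow 3 M) % 3 = 1 := card_sylow_modEq_one 3 M
    have := Nat.le_of_dvd (by omega) hdm
    haveI : Subsingleton (Sylow 3 M) := (Nat.card_eq_one_iff_unique.mp (show Nat.card (Sylow 3 M) = 1 by omega)).1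
    haveI : (S : Subgroup M).Normal := Sylow.normal_of_subsingleton S
    set Q := (S : Subgroup M).map M.subtype with hQ
    have hQc : Nat.card Q = 3 := by rw [hQ, card_map_of_injective M.subtype_injective, hS]
    obtain ⟨R, hR⟩ := (IsPGroup.of_card (n := 1) (G := Q) (by rw [hQc]; norm_num)).exists_le_sylow (p := 3)
    obtain ⟨U, hU, hNU⟩ := normalizer_three_le h R
    refine ⟨U, hU, le_trans ?_ hNU⟩
    rw [← eq_of_le_of_card_ge hR (by rw [hQc, card_three h])]
    refine le_normalizer_of_normal (map_subtype_le _) ?_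
    rw [show Q.subgroupOf M = (S : Subgroup M) from comap_map_eq_self_of_injective M.subtype_injective _]
    infer_instance
  rcases hcases with e | e | e | e | e
  · obtain ⟨j, -, hj⟩ := (Nat.dvd_prime_pow Nat.prime_two).mp (show Nat.card M ∣ 2 ^ 3 from e)
    exact two_group_le h (IsPGroup.of_card hj)
  · exact h36 1 e (by norm_num) (by norm_num)
  · exact h36 2 e (by norm_num) (by norm_num)
  · exact twelve_le h e
  · obtain ⟨U, hU, hMU⟩ := twentyfour_eq h e
    exact ⟨U, hU, hMU.le⟩

theorem normalizer_seven_ne_top (P : Sylow 7 G) : normalizer ((P : Subgroup G) : Set G) ≠ ⊤ := fun e => by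
  have := card_normalizer_seven h P
  rw [e, card_top, h] at this
  omega

theorem isCoatom_klein {U : Subgroup G} [IsKleinFour ↥U] : IsCoatom (normalizer (U : Set G)) := by
  refine ⟨normalizer_klein_ne_top h, fun K hK => ?_⟩
  by_contra hne
  have h1 := card_le h K hne
  exact hK.ne (eq_of_le_of_card_ge hK.le (by rw [card_normalizer_klein h]; exact h1))

theorem isCoatom_seven (P : Sylow 7 G) : IsCoatom (normalizer ((P : Subgroup G) : Set G)) := by
  refine ⟨normalizer_seven_ne_top h P, fun K hK => ?_⟩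
  by_contra hne
  have h1 := card_le h K hne
  obtain ⟨k, hk⟩ := card_dvd_of_le hK.le
  rw [card_normalizer_seven h] at hk
  refine hK.ne (eq_of_le_of_card_ge hK.le ?_)
  rw [card_normalizer_seven h, hk]
  omega

theorem coatom_cases {M : Subgroup G} (hM : IsCoatom M) :
    (∃ U : Subgroup G, IsKleinFour ↥U ∧ M = normalizer (U : Set G)) ∨
      ∃ P : Sylow 7 G, M = normalizer ((P : Subgroup G) : Set G) := by
  rcases exists_overgroup h hM.1 with ⟨U, hU, hle⟩ | ⟨P, hle⟩
  · refine Or.inl ⟨U, hU, hle.eq_or_lt.resolve_right fun hlt => normalizer_klein_ne_top h (hM.2 _ hlt)⟩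
  · exact Or.inr ⟨P, hle.eq_or_lt.resolve_right fun hlt => normalizer_seven_ne_top h P (hM.2 _ hlt)⟩

theorem isConj_of_three {s t : G} (hs : orderOf s = 3) (ht : orderOf t = 3) : IsConj s t := by
  obtain ⟨R, hR⟩ := exists_sylow_eq_zpowers h (card_three h) hs
  obtain ⟨R', hR'⟩ := exists_sylow_eq_zpowers h (card_three h) ht
  obtain ⟨g, hg⟩ := MulAction.exists_smul_eq G R R'
  have hmem : g * s * g⁻¹ ∈ zpowers t := by
    rw [← hR', ← hg, Sylow.coe_subgroup_smul]
    exact ⟨s, hR ▸ mem_zpowers s, rfl⟩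
  have hso : orderOf (g * s * g⁻¹) = 3 := by rw [← MulAut.conj_apply, MulEquiv.orderOf_eq, hs]
  classical
  rw [mem_zpowers_iff_mem_range_orderOf, ht, Finset.mem_image] at hmem
  obtain ⟨k, hk, hke⟩ := hmem
  rw [Finset.mem_range] at hk
  have h1 : IsConj s (g * s * g⁻¹) := isConj_iff.mpr ⟨g, rfl⟩
  rw [← hke] at h1 hso
  interval_cases k
  · rw [pow_zero, orderOf_one] at hso; omega
  · rwa [pow_one] at h1
  · refine h1.trans ?_
    -- an element inverting `t`
    obtain ⟨⟨m, hm⟩, hmo⟩ := exists_prime_orderOf_dvd_card'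
      (G := normalizer ((R' : Subgroup G) : Set G)) 2 (by rw [card_normalizer_three h]; norm_num)
    rw [Subgroup.orderOf_mk] at hmo
    have hc := (mem_normalizer_iff.mp hm t).mp (hR' ▸ mem_zpowers t)
    rw [hR', mem_zpowers_iff_mem_range_orderOf, ht, Finset.mem_image] at hc
    obtain ⟨j, hj, hje⟩ := hc
    rw [Finset.mem_range] at hj
    interval_cases j
    · rw [pow_zero, eq_comm, conj_eq_one_iff] at hje
      rw [hje, orderOf_one] at ht; omega
    · exfalso
      have : m ∈ centralizer ({t} : Set G) :=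
        mem_centralizer_singleton_iff.mpr (mul_inv_eq_iff_eq_mul.mp (hje.symm.trans (pow_one t)))
      rw [centralizer_three h ht] at this
      have := dvd_card_of_mem this
      rw [Nat.card_zpowers, ht, hmo] at this
      norm_num at this
    · exact (isConj_iff.mpr ⟨m, hje.symm⟩ : IsConj t (t ^ 2)).symm

theorem not_isConj_inv {x : G} (hx : orderOf x = 7) : ¬ IsConj x x⁻¹ := by
  intro hc
  obtain ⟨g, hg⟩ := isConj_iff.mp hc
  obtain ⟨P, hP⟩ := exists_sylow_eq_zpowers h (card_seven h) hx
  have hgN : g ∈ normalizer ((P : Subgroup G) : Set G) := by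
    apply mem_normalizer_of_map_conj_eq
    rw [hP, MonoidHom.map_zpowers]
    show zpowers (g * x * g⁻¹) = zpowers x
    rw [hg, zpowers_inv]
  have hd := dvd_card_of_mem hgN
  rw [card_normalizer_seven h] at hd
  have hg2 : g * g ∈ centralizer ({x} : Set G) := by
    refine mem_centralizer_singleton_iff.mpr (mul_inv_eq_iff_eq_mul.mp ?_)
    calc g * g * x * (g * g)⁻¹ = g * (g * x * g⁻¹) * g⁻¹ := by group
      _ = (g * x * g⁻¹)⁻¹ := by rw [hg, ← conj_inv, hg]
      _ = x := by rw [hg, inv_inv]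
  obtain ⟨k, hk⟩ : Odd (orderOf g) := Odd.of_dvd_nat (by decide : Odd 21) hd
  have hgx : g ∈ centralizer ({x} : Set G) := by
    have : (g * g) ^ (k + 1) = g := by
      rw [← sq, ← pow_mul, show 2 * (k + 1) = orderOf g + 1 by omega, pow_succ, pow_orderOf_eq_one, one_mul]
    exact this ▸ pow_mem hg2 (k + 1)
  rw [mem_centralizer_singleton_iff.mp hgx, mul_inv_cancel_right] at hg
  have h2 : x ^ 2 = 1 := by rw [sq]; exact mul_eq_one_iff_eq_inv.mpr hg
  have := orderOf_dvd_of_pow_eq_one h2
  rw [hx] at this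
  norm_num at this

theorem not_comm_twentyone {M : Subgroup G} (hM : Nat.card M = 21) : ¬ IsMulCommutative M := by
  intro hc
  obtain ⟨⟨y, hy⟩, hyo⟩ := exists_prime_orderOf_dvd_card' (G := M) 7 (by rw [hM]; norm_num)
  rw [Subgroup.orderOf_mk] at hyo
  have hle : M ≤ centralizer ({y} : Set G) := fun m hm => mem_centralizer_singleton_iff.mpr
    (congrArg Subtype.val (hc.is_comm.comm ⟨m, hm⟩ ⟨y, hy⟩))
  rw [centralizer_seven h hyo] at hle
  have := Nat.le_of_dvd Nat.card_pos (card_dvd_of_le hle)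
  rw [Nat.card_zpowers, hyo, hM] at this
  omega

theorem maximal_subgroups :
    (∀ M : Subgroup G, IsCoatom M → Nonempty (↥M ≃* Equiv.Perm (Fin 4)) ∨
      (Nat.card ↥M = 21 ∧ ¬ IsMulCommutative ↥M)) ∧
    (∀ M M' : Subgroup G, IsCoatom M → IsCoatom M' → Nat.card ↥M = 21 → Nat.card ↥M' = 21 →
      ∃ g : G, M' = M.map (MulAut.conj g).toMonoidHom) ∧
    ∃ M₁ M₂ : Subgroup G, IsCoatom M₁ ∧ IsCoatom M₂ ∧ Nonempty (↥M₁ ≃* Equiv.Perm (Fin 4)) ∧
      Nonempty (↥M₂ ≃* Equiv.Perm (Fin 4)) ∧ (∀ g : G, M₂ ≠ M₁.map (MulAut.conj g).toMonoidHom) ∧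
      ∀ M : Subgroup G, IsCoatom M → Nonempty (↥M ≃* Equiv.Perm (Fin 4)) →
        ∃ g : G, M = M₁.map (MulAut.conj g).toMonoidHom ∨ M = M₂.map (MulAut.conj g).toMonoidHom := by
  refine ⟨fun M hM => ?_, fun M M' hM hM' hc hc' => ?_, ?_⟩
  · rcases coatom_cases h hM with ⟨U, hU, rfl⟩ | ⟨P, rfl⟩
    · exact Or.inl (nonempty_symmetric h (card_normalizer_klein h))
    · exact Or.inr ⟨card_normalizer_seven h P, not_comm_twentyone h (card_normalizer_seven h P)⟩
  · have key : ∀ M : Subgroup G, IsCoatom M → Nat.card ↥M = 21 →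
        ∃ P : Sylow 7 G, M = normalizer ((P : Subgroup G) : Set G) := fun M hM hc =>
      (coatom_cases h hM).resolve_left fun ⟨U, hU, e⟩ => by
        rw [e, card_normalizer_klein h] at hc; omega
    obtain ⟨P, rfl⟩ := key M hM hc
    obtain ⟨P', rfl⟩ := key M' hM' hc'
    obtain ⟨g, rfl⟩ := MulAction.exists_smul_eq G P P'
    refine ⟨g, ?_⟩
    rw [map_conj_normalizer, Sylow.coe_subgroup_smul]
    rfl
  · obtain ⟨T⟩ : Nonempty (Sylow 2 G) := Sylow.nonempty
    obtain ⟨U, W, hUT, hWT, hU, hW, hne, hall⟩ := exists_klein_pair h T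
    refine ⟨_, _, isCoatom_klein h (U := U), isCoatom_klein h (U := W),
      nonempty_symmetric h (card_normalizer_klein h), nonempty_symmetric h (card_normalizer_klein h),
      fun g hg => ?_, fun M hM hMS => ?_⟩
    · rw [map_conj_normalizer] at hg
      haveI : IsKleinFour ↥(U.map (MulAut.conj g).toMonoidHom) := isKleinFour_of
        (by rw [card_map_of_injective (MulAut.conj g).injective]; exact IsKleinFour.card_four)
        (by rintro _ ⟨x, hx, rfl⟩; rw [← map_mul, klein_sq hx, map_one])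
      exact klein_not_conj h T hUT hWT hne g (klein_unique h hg.symm)
    · rcases coatom_cases h hM with ⟨V, hV, rfl⟩ | ⟨P, rfl⟩
      · obtain ⟨g, hg, hgK⟩ := klein_conj_into h T (V := V)
        refine ⟨g⁻¹, ?_⟩
        have hback : ∀ X : Subgroup G, V.map (MulAut.conj g).toMonoidHom = X →
            normalizer (V : Set G) = (normalizer (X : Set G)).map (MulAut.conj g⁻¹).toMonoidHom := by
          rintro _ rfl
          rw [← map_conj_normalizer, map_conj_map_conj, inv_mul_cancel]
          ext x; simp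
        exact (hall _ hg hgK).imp (hback U) (hback W)
      · exfalso
        obtain ⟨e⟩ := hMS
        have := Nat.card_congr e.toEquiv
        rw [card_normalizer_seven h, Nat.card_perm, Nat.card_fin] at this
        norm_num [Nat.factorial] at this

end CfsgLib.Simple168
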