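import Cfsg.Agent.SmallSimple.Basic
import Cfsg.Agent.Perm.SharplyThreePGL
import Cfsg.Agent.PermSimple.Criteria
import Mathlib

/-!
A simple group of order 504 is `PGL₂(8)`: it is sharply triply transitive on its nine Sylow
2-subgroups.
-/

set_option autoImplicit false
set_option linter.style.haveILetI false

namespace CfsgLib.SmallSimple.FiveOhFour

open MulAction Subgroup

variable {G : Type*} [Group G] [Finite G] [IsSimpleGroup G] (h : Nat.card G = 504)
include h

/-- No proper subgroup has index below eight. -/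
theorem index_ge (H : Subgroup G) (hH : H ≠ ⊤) : 8 ≤ H.index := by
  by_contra hlt
  push Not at hlt
  have hd := card_dvd_factorial H hH
  rw [h] at hd
  haveI : Fact (Nat.Prime 2) := ⟨Nat.prime_two⟩
  obtain ⟨S⟩ : Nonempty (Sylow 2 G) := inferInstance
  have hS : Nat.card (S : Subgroup G) = 8 := card_sylow_eq S (k := 3) (m := 63) h (by norm_num)
  have hG : ¬ IsMulCommutative G := not_comm_of_sylow S (by omega) (by omega)
  have h7 : H.index = 7 := by
    have hpos := H.index_ne_zero_of_finite
    interval_cases hi : H.index <;> first | rfl | (norm_num [Nat.factorial] at hd)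
  have hA : Nat.card (alternatingGroup (Fin 7)) = 2520 := by
    rw [nat_card_alternatingGroup, Nat.card_fin]; rfl
  obtain ⟨f', hf'⟩ : ∃ f' : G →* alternatingGroup (Fin 7), Function.Injective f' :=
    h7 ▸ exists_hom_alternating hG H hH
  haveI : IsSimpleGroup (alternatingGroup (Fin 7)) := alternatingGroup.isSimpleGroup (by simp)
  have hc : Nat.card f'.range = 504 := by
    rw [← h]; exact (Nat.card_congr (MonoidHom.ofInjective hf').toEquiv).symm
  have hidx : f'.range.index = 5 := by
    have := f'.range.card_mul_index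
    rw [hc, hA] at this; omega
  have := card_dvd_factorial f'.range (fun e => by rw [e, Subgroup.index_top] at hidx; omega)
  rw [hidx, hA] at this
  norm_num [Nat.factorial] at this

theorem card_three [Fact (Nat.Prime 3)] (P : Sylow 3 G) : Nat.card (P : Subgroup G) = 9 :=
  card_sylow_eq P (k := 2) (m := 56) h (by norm_num)

theorem card_two [Fact (Nat.Prime 2)] (S : Sylow 2 G) : Nat.card (S : Subgroup G) = 8 :=
  card_sylow_eq S (k := 3) (m := 63) h (by norm_num)

theorem card_seven [Fact (Nat.Prime 7)] (P : Sylow 7 G) : Nat.card (P : Subgroup G) = 7 :=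
  card_sylow_eq P (k := 1) (m := 72) h (by norm_num)

theorem card_sylow_ge {p : ℕ} [Fact p.Prime] (P : Sylow p G) (h1 : 1 < Nat.card (P : Subgroup G))
    (h2 : Nat.card (P : Subgroup G) < Nat.card G) : 8 ≤ Nat.card (Sylow p G) := by
  have hne := card_sylow_ne_one P h1 h2
  rw [P.card_eq_index_normalizer] at hne ⊢
  exact index_ge h _ fun e => hne (by rw [e, Subgroup.index_top])

/-- The Sylow 3-normaliser has order eighteen. -/
theorem count_three [Fact (Nat.Prime 3)] : Nat.card (Sylow 3 G) = 28 ∧
    ∀ P : Sylow 3 G, Nat.card (normalizer ((P : Subgroup G) : Set G)) = 18 := by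
  obtain ⟨P⟩ : Nonempty (Sylow 3 G) := inferInstance
  have hP := card_three h P
  have h8 := card_sylow_ge h P (by omega) (by omega)
  have hd : Nat.card (Sylow 3 G) ∣ 56 := by
    have h1 := P.card_dvd_index
    have h2 := (P : Subgroup G).card_mul_index
    rw [hP, h] at h2
    rwa [show (P : Subgroup G).index = 56 by omega] at h1
  have hmod : Nat.card (Sylow 3 G) % 3 = 1 := card_sylow_modEq_one 3 G
  have key : ∀ n ∈ Nat.divisors 56, n % 3 = 1 → 8 ≤ n → n = 28 := by decide
  have h28 := key _ (Nat.mem_divisors.mpr ⟨hd, by norm_num⟩) hmod h8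
  refine ⟨h28, fun Q => ?_⟩
  have := card_sylow_mul Q
  rw [h28, h] at this
  omega

/-- The Sylow 7-normaliser has order fourteen. -/
theorem count_seven [Fact (Nat.Prime 7)] : Nat.card (Sylow 7 G) = 36 ∧
    ∀ P : Sylow 7 G, Nat.card (normalizer ((P : Subgroup G) : Set G)) = 14 := by
  haveI : Fact (Nat.Prime 3) := ⟨Nat.prime_three⟩
  obtain ⟨P⟩ : Nonempty (Sylow 7 G) := inferInstance
  have hP := card_seven h P
  have h8 := card_sylow_ge h P (by omega) (by omega)
  have hd : Nat.card (Sylow 7 G) ∣ 72 := by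
    have h1 := P.card_dvd_index
    have h2 := (P : Subgroup G).card_mul_index
    rw [hP, h] at h2
    rwa [show (P : Subgroup G).index = 72 by omega] at h1
  have hmod : Nat.card (Sylow 7 G) % 7 = 1 := card_sylow_modEq_one 7 G
  have key : ∀ n ∈ Nat.divisors 72, n % 7 = 1 → 8 ≤ n → n = 36 ∨ n = 8 := by decide
  suffices h36 : Nat.card (Sylow 7 G) = 36 by
    refine ⟨h36, fun Q => ?_⟩
    have := card_sylow_mul Q
    rw [h36, h] at this
    omega
  refine (key _ (Nat.mem_divisors.mpr ⟨hd, by norm_num⟩) hmod h8).resolve_right fun hn => ?_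
  -- otherwise an element of order three centralises an element of order seven
  have hN := card_sylow_mul P
  rw [hn, h] at hN
  have hdiv := CfsgLib.PermSimple.normalizer_card_dvd (P : Subgroup G) hP
  rw [show Nat.card (normalizer ((P : Subgroup G) : Set G)) = 63 by omega] at hdiv
  have h3 : 3 ∣ Nat.card (centralizer ((P : Subgroup G) : Set G)) := by
    rcases (Nat.prime_three.dvd_mul).mp ((by norm_num : 3 ∣ 63).trans hdiv) with h3 | -
    · exact h3
    · have h21 : 3 * 21 ∣ 3 * (2 * Nat.card (centralizer ((P : Subgroup G) : Set G))) := by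
        rw [mul_comm, show 7 - 1 = 3 * 2 by rfl] at hdiv
        rwa [← mul_assoc]
      exact (Nat.Coprime.dvd_of_dvd_mul_left (by norm_num)
        ((by norm_num : 3 ∣ 21).trans (Nat.dvd_of_mul_dvd_mul_left (by norm_num) h21)))
  obtain ⟨⟨z, hzC⟩, hz⟩ := exists_prime_orderOf_dvd_card' 3 h3
  rw [Subgroup.orderOf_mk] at hz
  haveI : FaithfulSMul G (Sylow 7 G) := by
    refine ⟨fun {a b} hab => ?_⟩
    by_contra hne
    set K := (MulAction.toPermHom G (Sylow 7 G)).ker
    have hmem : a⁻¹ * b ∈ K := Equiv.ext fun Q => by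
      show (a⁻¹ * b) • Q = Q
      rw [mul_smul, ← hab Q, inv_smul_smul]
    have hK : K ≠ ⊥ := fun e => hne (inv_mul_eq_one.mp (Subgroup.mem_bot.mp (e ▸ hmem)))
    have htop := ((inferInstance : K.Normal).eq_bot_or_eq_top).resolve_left hK
    have : normalizer ((P : Subgroup G) : Set G) = ⊤ := eq_top_iff.mpr fun g _ =>
      Sylow.smul_eq_iff_mem_normalizer.mp (Equiv.congr_fun (show g ∈ K from htop ▸ mem_top g) P)
    rw [this, Subgroup.card_top, h] at hN
    omega
  have hz1 : z ≠ 1 := fun e => by rw [e, orderOf_one] at hz; omega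
  have hZ : IsPGroup 3 (zpowers z) := IsPGroup.of_card (n := 1) (by rw [Nat.card_zpowers, hz]; rfl)
  set F := fixedPoints (zpowers z) (Sylow 7 G)
  have hF : (8 : ℕ) % 3 = Nat.card F % 3 := hn ▸ hZ.card_modEq_card_fixedPoints (Sylow 7 G)
  obtain ⟨b, hb, hbP⟩ : ∃ b ∈ F, b ≠ P := by
    by_contra hall
    push Not at hall
    haveI : Subsingleton F := ⟨fun a b => Subtype.ext ((hall a a.2).trans (hall b b.2).symm)⟩
    have := Finite.card_le_one_iff_subsingleton.mpr ‹Subsingleton F›
    omega
  -- the orbit of `b` under `P` consists of fixed points of `z`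
  have horb : Set.Subset (orbit (P : Subgroup G) b) F := by
    rintro _ ⟨x, rfl⟩
    rintro ⟨w, hw⟩
    obtain ⟨k, rfl⟩ := Subgroup.mem_zpowers_iff.mp hw
    have hc : Commute (x : G) (z ^ k) :=
      (show Commute (x : G) z from Subgroup.mem_centralizer_iff.mp hzC _ x.2).zpow_right k
    show (z ^ k) • ((x : G) • b) = (x : G) • b
    rw [smul_smul, ← hc.eq, mul_smul]
    exact congrArg ((x : G) • ·) (hb ⟨z ^ k, hw⟩)
  have h7 : 7 ≤ Nat.card (orbit (P : Subgroup G) b) := by
    obtain ⟨k, hk⟩ := P.2.card_orbit b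
    rcases Nat.eq_zero_or_pos k with h0 | h0
    · exfalso
      rw [h0, pow_zero] at hk
      apply hbP
      have hfix : b ∈ fixedPoints (P : Subgroup G) (Sylow 7 G) := fun x => by
        haveI := (Nat.card_eq_one_iff_unique.mp hk).1
        exact congrArg Subtype.val (Subsingleton.elim
          (⟨x • b, mem_orbit b x⟩ : orbit (P : Subgroup G) b) ⟨b, mem_orbit_self b⟩)
      have hle : (P : Subgroup G) ≤ (b : Subgroup G) := fun x hx =>
        mem_sylow_of_smul_eq (n := 1) (by
          rw [pow_one]
          have := congrArg Subtype.val (pow_card_eq_one' (x := (⟨x, hx⟩ : (P : Subgroup G))))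
          rw [hP] at this
          exact this) b (hfix ⟨x, hx⟩)
      exact Sylow.ext (P.3 b.2 hle)
    · rw [hk]; exact Nat.le_self_pow h0.ne' 7
  have hF7 : 7 ≤ Nat.card F := h7.trans (Nat.card_mono (Set.toFinite _) horb)
  have hF8 : Nat.card F ≤ 8 := hn ▸ Nat.card_le_card_of_injective _ Subtype.val_injective
  have hall : ∀ Q : Sylow 7 G, z • Q = Q := by
    intro Q
    have : F = Set.univ := Set.eq_of_subset_of_ncard_le (Set.subset_univ _) (by
      rw [Set.ncard_univ, hn, ← Nat.card_coe_set_eq]; omega)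
    exact (show Q ∈ F from this ▸ trivial) ⟨z, mem_zpowers z⟩
  exact hz1 (eq_of_smul_eq_smul (α := Sylow 7 G) fun Q => by rw [hall, one_smul])

/-- No non-trivial element of a Sylow 3-subgroup centralises its normaliser. -/
theorem not_normalizer_le [Fact (Nat.Prime 3)] (P : Sylow 3 G) {x : G} (hx : x ∈ (P : Subgroup G))
    (hle : normalizer ((P : Subgroup G) : Set G) ≤ centralizer ({x} : Set G)) : x = 1 := by
  letI : CommGroup (P : Subgroup G) :=
    IsPGroup.commGroupOfCardEqPrimeSq (p := 3) (by rw [card_three h P]; norm_num)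
  haveI : IsMulCommutative (P : Subgroup G) := ⟨⟨mul_comm⟩⟩
  have hG : ¬ IsMulCommutative G := not_comm_of_sylow P (by rw [card_three h P]; norm_num)
    (by rw [card_three h P, h]; norm_num)
  have key : ∀ (k : ℕ) (g₀ : G), g₀⁻¹ * x ^ k * g₀ ∈ (P : Subgroup G) →
      g₀⁻¹ * x ^ k * g₀ = x ^ k := by
    intro k g₀ hk
    obtain ⟨n, hn, he⟩ := P.conj_eq_normalizer_conj_of_mem (x ^ k) g₀ (pow_mem hx k) hk
    rw [he]
    exact ((show Commute x n from (mem_centralizer_singleton_iff.mp (hle hn)).symm).pow_left k).symm.inv_mul_cancel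
  have ht := MonoidHom.transfer_eq_pow (MonoidHom.id (P : Subgroup G)) x key
  rw [hom_comm_eq_one hG (MonoidHom.transfer (MonoidHom.id (P : Subgroup G))), MonoidHom.one_apply,
    MonoidHom.id_apply] at ht
  have h56 : x ^ 56 = 1 := by
    have h2 := (P : Subgroup G).card_mul_index
    rw [card_three h P, h] at h2
    have h3 := congrArg Subtype.val ht.symm
    change x ^ (P : Subgroup G).index = 1 at h3
    rwa [show (P : Subgroup G).index = 56 by omega] at h3
  have h9 : x ^ 9 = 1 := by
    rw [← card_three h P]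
    exact congrArg Subtype.val (pow_card_eq_one' (x := (⟨x, hx⟩ : (P : Subgroup G))))
  have := pow_gcd_eq_one.mpr ⟨h56, h9⟩
  simpa using this

/-- Non-trivial 3-elements have the Sylow subgroup as centraliser. -/
theorem centralizer_three [Fact (Nat.Prime 3)] (P : Sylow 3 G) {x : G}
    (hx : x ∈ (P : Subgroup G)) (hx1 : x ≠ 1) : centralizer ({x} : Set G) = P := by
  have hP := card_three h P
  letI : CommGroup (P : Subgroup G) :=
    IsPGroup.commGroupOfCardEqPrimeSq (p := 3) (by rw [hP]; norm_num)
  set C := centralizer ({x} : Set G) with hC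
  set N := normalizer ((P : Subgroup G) : Set G) with hN
  have hle : (P : Subgroup G) ≤ C := fun y hy => mem_centralizer_singleton_iff.mpr
    (congrArg Subtype.val (mul_comm (⟨y, hy⟩ : (P : Subgroup G)) ⟨x, hx⟩))
  have hCN : C ⊓ N = P := by
    have hle' : (P : Subgroup G) ≤ C ⊓ N := le_inf hle le_normalizer
    refine le_antisymm ?_ hle'
    by_contra hne
    apply hx1
    refine not_normalizer_le h P hx ?_
    have h1 : Nat.card (C ⊓ N : Subgroup G) ∣ 18 :=
      ((count_three h).2 P) ▸ card_dvd_of_le (inf_le_right : C ⊓ N ≤ N)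
    have h2 : 9 ∣ Nat.card (C ⊓ N : Subgroup G) := hP ▸ card_dvd_of_le hle'
    have h9 : Nat.card (C ⊓ N : Subgroup G) ≠ 9 := fun e =>
      hne (eq_of_le_of_card_ge hle' (by rw [e, hP])).ge
    have key : ∀ n ∈ Nat.divisors 18, 9 ∣ n → n = 9 ∨ n = 18 := by decide
    have h18 := (key _ (Nat.mem_divisors.mpr ⟨h1, by norm_num⟩) h2).resolve_left h9
    have : C ⊓ N = N := eq_of_le_of_card_ge inf_le_right (by rw [h18, hN, (count_three h).2 P])
    exact inf_eq_right.mp this
  -- Burnside inside the centraliser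
  let P' : Sylow 3 C := P.subtype hle
  have hP' : Nat.card (P' : Subgroup C) = 9 := by
    rw [show (P' : Subgroup C) = (P : Subgroup G).subgroupOf C from rfl,
      Nat.card_congr (subgroupOfEquivOfLe hle).toEquiv, hP]
  have hnorm : normalizer ((P' : Subgroup C) : Set C) = P' := by
    refine le_antisymm (fun c hc => ?_) le_normalizer
    have hcN : (c : G) ∈ N := by
      rw [hN, mem_normalizer_iff]
      intro y
      constructor
      · intro hy
        exact (mem_normalizer_iff.mp hc ⟨y, hle hy⟩).mp hy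
      · intro hy
        have hyC : y ∈ C := by
          have := C.mul_mem (C.mul_mem (C.inv_mem c.2) (hle hy)) c.2
          simpa [mul_assoc] using this
        exact (mem_normalizer_iff.mp hc ⟨y, hyC⟩).mpr hy
    exact (hCN.le ⟨c.2, hcN⟩ : (c : G) ∈ (P : Subgroup G))
  have hcent : normalizer ((P' : Subgroup C) : Set C) ≤ centralizer ((P' : Subgroup C) : Set C) := by
    rw [hnorm]
    exact fun c hc => mem_centralizer_iff.mpr fun y hy => Subtype.ext
      (show (y : G) * (c : G) = (c : G) * (y : G) from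
        congrArg Subtype.val (mul_comm (⟨(y : G), hy⟩ : (P : Subgroup G)) ⟨(c : G), hc⟩))
  have hcompl := MonoidHom.ker_transferSylow_isComplement' P' hcent
  set M := (MonoidHom.transferSylow P' hcent).ker with hM
  have hmul := hcompl.card_mul_card
  rw [hP'] at hmul
  have hCtop : C ≠ ⊤ := fun e => by
    apply hx1
    refine not_normalizer_le h P hx (by rw [← hC, e]; exact le_top)
  have hC63 : Nat.card C ≤ 63 := by
    have := C.card_mul_index
    rw [h] at this
    have := index_ge h C hCtop
    nlinarith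
  have hmod : Nat.card M % 3 = 1 := by
    have h1 : Nat.card (Sylow 3 C) % 3 = 1 := card_sylow_modEq_one 3 C
    have h2 : Nat.card (Sylow 3 C) = (P' : Subgroup C).index :=
      P'.card_eq_index_normalizer.trans (congrArg Subgroup.index hnorm)
    rwa [h2, hcompl.index_eq_card] at h1
  have hM56 : Nat.card M * 9 ∣ 56 * 9 := by
    rw [hmul, show 56 * 9 = Nat.card G by rw [h]]
    exact C.card_subgroup_dvd_card
  have key : ∀ n ∈ Nat.divisors 56, n % 3 = 1 → n * 9 ≤ 63 → n = 1 ∨ n = 4 ∨ n = 7 := by decide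
  have hMG : Nat.card (M.map C.subtype) = Nat.card M := card_map_of_injective C.subtype_injective
  have hCnorm : C ≤ normalizer ((M.map C.subtype : Subgroup G) : Set G) := by
    intro c hc
    rw [mem_normalizer_iff]
    intro y
    constructor
    · rintro ⟨m, hm, rfl⟩
      exact ⟨_, (inferInstance : M.Normal).conj_mem m hm ⟨c, hc⟩, rfl⟩
    · rintro ⟨m, hm, hme⟩
      refine ⟨_, (inferInstance : M.Normal).conj_mem m hm ⟨c, hc⟩⁻¹, ?_⟩
      simp only [coe_subtype] at hme
      simp [hme, mul_assoc]
  rcases key _ (Nat.mem_divisors.mpr ⟨Nat.dvd_of_mul_dvd_mul_right (by norm_num) hM56, by norm_num⟩)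
      hmod (by omega) with h1 | h4 | h7
  · exact (eq_of_le_of_card_ge hle (by rw [hP, ← hmul, h1])).symm
  · exfalso
    haveI : Fact (Nat.Prime 2) := ⟨Nat.prime_two⟩
    set V := M.map C.subtype with hV
    obtain ⟨S, hS⟩ := (IsPGroup.of_card (n := 2) (G := V) (by rw [hMG, h4]; rfl) :
      IsPGroup 2 V).exists_le_sylow
    have hVS : (V.subgroupOf (S : Subgroup G)).Normal := by
      refine Subgroup.normal_of_index_eq_two ?_
      have h1 := (V.subgroupOf (S : Subgroup G)).card_mul_index
      rw [Nat.card_congr (subgroupOfEquivOfLe hS).toEquiv, hMG, h4, card_two h S] at h1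
      omega
    have hSn : (S : Subgroup G) ≤ normalizer ((V : Subgroup G) : Set G) :=
      (normal_subgroupOf_iff_le_normalizer hS).mp hVS
    have h72 : 72 ∣ Nat.card (normalizer ((V : Subgroup G) : Set G)) := by
      have h8 := card_dvd_of_le hSn
      rw [card_two h S] at h8
      have h36 : 9 ∣ Nat.card (normalizer ((V : Subgroup G) : Set G)) :=
        (Dvd.intro_left _ hmul).trans (card_dvd_of_le hCnorm)
      exact Nat.Coprime.mul_dvd_of_dvd_of_dvd (show Nat.Coprime 8 9 by norm_num) h8 h36
    have htop : normalizer ((V : Subgroup G) : Set G) = ⊤ := by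
      by_contra hne
      have h1 := index_ge h _ hne
      have h2 := (normalizer ((V : Subgroup G) : Set G)).card_mul_index
      have h3 := Nat.le_of_dvd Nat.card_pos h72
      rw [h] at h2
      nlinarith
    haveI : V.Normal := normalizer_eq_top_iff.mp htop
    rcases (inferInstance : V.Normal).eq_bot_or_eq_top with e | e
    · rw [e, Subgroup.card_bot] at hMG; omega
    · rw [e, Subgroup.card_top, h] at hMG; omega
  · exfalso
    haveI : Fact (Nat.Prime 7) := ⟨by norm_num⟩
    set V := M.map C.subtype with hV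
    obtain ⟨S, hS⟩ := (IsPGroup.of_card (n := 1) (G := V) (by rw [hMG, h7]; rfl) :
      IsPGroup 7 V).exists_le_sylow
    have hVS : V = (S : Subgroup G) :=
      eq_of_le_of_card_ge hS (by rw [card_seven h S, hMG, h7])
    have := card_dvd_of_le hCnorm
    rw [← hmul, h7, hVS, (count_seven h).2 S] at this
    norm_num at this

/-- Elements of order seven and involutions: element orders. -/
theorem involutions [Fact (Nat.Prime 2)] :
    (∀ g : G, g ≠ 1 → g ^ 9 = 1 ∨ orderOf g = 7 ∨ orderOf g = 2) ∧
    (∀ g : G, orderOf g = 2 → Nat.card (centralizer ({g} : Set G)) = 8) ∧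
    Nat.card {g : G // orderOf g = 2} = 63 := by
  classical
  haveI : Fact (Nat.Prime 3) := ⟨Nat.prime_three⟩
  haveI : Fact (Nat.Prime 7) := ⟨by norm_num⟩
  haveI := Fintype.ofFinite G
  obtain ⟨S⟩ : Nonempty (Sylow 2 G) := inferInstance
  have hS := card_two h S
  haveI : Nontrivial (S : Subgroup G) := Finite.one_lt_card_iff_nontrivial.mp (by omega)
  haveI : Nontrivial (Subgroup.center (S : Subgroup G)) := S.2.center_nontrivial
  have h2d : 2 ∣ Nat.card (Subgroup.center (S : Subgroup G)) := by
    obtain ⟨n, hn⟩ := IsPGroup.iff_card.mp (S.2.to_subgroup (Subgroup.center (S : Subgroup G)))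
    rcases Nat.eq_zero_or_pos n with h0 | h0
    · rw [h0, pow_zero] at hn
      exact absurd hn Finite.one_lt_card.ne'
    · exact hn ▸ dvd_pow_self 2 h0.ne'
  obtain ⟨w, hw⟩ := exists_prime_orderOf_dvd_card' 2 h2d
  set z : G := ((w : (S : Subgroup G)) : G) with hzdef
  have hz : orderOf z = 2 := by rw [hzdef, Subgroup.orderOf_coe, Subgroup.orderOf_coe, hw]
  have hSC : (S : Subgroup G) ≤ centralizer ({z} : Set G) := fun y hy =>
    mem_centralizer_singleton_iff.mpr
      (congrArg Subtype.val (Subgroup.mem_center_iff.mp w.2 ⟨y, hy⟩))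
  -- two-elements are not centralised by elements of order three or seven
  have no3 : ∀ u : G, orderOf u = 2 → ¬ 3 ∣ Nat.card (centralizer ({u} : Set G)) := by
    intro u hu h3
    obtain ⟨⟨c, hcC⟩, hc⟩ := exists_prime_orderOf_dvd_card' 3 h3
    rw [Subgroup.orderOf_mk] at hc
    obtain ⟨Q, hQ⟩ := (IsPGroup.of_card (n := 1) (G := zpowers c)
      (by rw [Nat.card_zpowers, hc]; rfl) : IsPGroup 3 (zpowers c)).exists_le_sylow
    have huQ : u ∈ (Q : Subgroup G) := by
      rw [← centralizer_three h Q (hQ (mem_zpowers c)) (fun e => by rw [e, orderOf_one] at hc; omega)]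
      exact mem_centralizer_singleton_iff.mpr (mem_centralizer_singleton_iff.mp hcC).symm
    have := Subgroup.orderOf_dvd_natCard (Q : Subgroup G) huQ
    rw [hu, card_three h Q] at this
    omega
  have no7 : ∀ u : G, orderOf u = 2 → ¬ 7 ∣ Nat.card (centralizer ({u} : Set G)) := by
    intro u hu h7
    obtain ⟨⟨c, hcC⟩, hc⟩ := exists_prime_orderOf_dvd_card' 7 h7
    rw [Subgroup.orderOf_mk] at hc
    obtain ⟨Q, hQ⟩ := (IsPGroup.of_card (n := 1) (G := zpowers c)
      (by rw [Nat.card_zpowers, hc]; rfl) : IsPGroup 7 (zpowers c)).exists_le_sylow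
    have hQe : zpowers c = (Q : Subgroup G) :=
      eq_of_le_of_card_ge hQ (by rw [Nat.card_zpowers, hc, card_seven h Q])
    haveI : IsCyclic (Q : Subgroup G) := isCyclic_of_prime_card (card_seven h Q)
    have huN : u ∈ normalizer ((Q : Subgroup G) : Set G) ∧
        u ∈ centralizer ((Q : Subgroup G) : Set G) := by
      have huc : u ∈ centralizer ((Q : Subgroup G) : Set G) := by
        rw [mem_centralizer_iff]
        intro y hy
        obtain ⟨k, rfl⟩ := mem_zpowers_iff.mp (hQe ▸ hy : y ∈ zpowers c)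
        exact ((show Commute c u from mem_centralizer_singleton_iff.mp hcC).zpow_left k).eq
      exact ⟨Subgroup.centralizer_le_normalizer _ huc, huc⟩
    refine not_le_centralizer Q (by rw [card_seven h Q]; norm_num)
      (by rw [card_seven h Q, h]; norm_num) ?_
    have hQC : (Q : Subgroup G) ≤ centralizer ((Q : Subgroup G) : Set G) := fun y hy =>
      mem_centralizer_iff.mpr fun v hv => setLike_mul_comm (S := Subgroup G) hv hy
    have hCN := Subgroup.centralizer_le_normalizer (((Q : Subgroup G) : Set G))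
    refine (eq_of_le_of_card_ge hCN ?_).ge
    rw [(count_seven h).2 Q]
    have h7' := card_dvd_of_le hQC
    rw [card_seven h Q] at h7'
    have h2' := Subgroup.orderOf_dvd_natCard _ huN.2
    rw [hu] at h2'
    exact Nat.le_of_dvd Nat.card_pos (Nat.Coprime.mul_dvd_of_dvd_of_dvd (show Nat.Coprime 2 7 by norm_num) h2' h7')
  have hC8 : Nat.card (centralizer ({z} : Set G)) = 8 := by
    have h1 : Nat.card (centralizer ({z} : Set G)) ∣ 504 := h ▸ card_subgroup_dvd_card _
    have h8 : 8 ∣ Nat.card (centralizer ({z} : Set G)) := hS ▸ card_dvd_of_le hSC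
    obtain ⟨k, hk⟩ := h8
    have key : ∀ n ∈ Nat.divisors 63, n = 1 ∨ 3 ∣ n ∨ 7 ∣ n := by decide
    rw [hk, show (504 : ℕ) = 8 * 63 by rfl] at h1
    rcases key k (Nat.mem_divisors.mpr ⟨Nat.dvd_of_mul_dvd_mul_left (by norm_num) h1, by norm_num⟩)
      with e | e | e
    · rw [hk, e]
    · exact absurd (hk ▸ dvd_mul_of_dvd_right e 8) (no3 z hz)
    · exact absurd (hk ▸ dvd_mul_of_dvd_right e 8) (no7 z hz)
  -- count
  let Z : Finset G := Finset.univ.filter fun g => IsConj z g
  let A3 : Finset G := Finset.univ.filter fun g => g ≠ 1 ∧ g ^ 9 = 1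
  let A7 : Finset G := Finset.univ.filter fun g => orderOf g = 7
  have hZc : Z.card = 63 := by
    have h1 : Nat.card (conjugatesOf z) = 63 := by
      have hidx := (centralizer ({z} : Set G)).card_mul_index
      rw [hC8, h] at hidx
      have heq : conjugatesOf z = MulAction.orbit (ConjAct G) z := by
        ext g
        rw [ConjAct.mem_orbit_conjAct]
        exact ⟨fun hg => IsConj.symm hg, fun hg => IsConj.symm hg⟩
      rw [heq, Nat.card_coe_set_eq, ← MulAction.index_stabilizer]
      rw [ConjAct.stabilizer_eq_centralizer]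
      show (centralizer ({z} : Set G)).index = 63
      omega
    rw [← h1, Nat.card_eq_fintype_card, ← Set.toFinset_card]
    exact congrArg Finset.card (Finset.ext fun g => by
      rw [Set.mem_toFinset, Finset.mem_filter]
      exact ⟨fun e => e.2, fun e => ⟨Finset.mem_univ _, e⟩⟩)
  have hZ2 : ∀ g ∈ Z, orderOf g = 2 := by
    intro g hg
    obtain ⟨c, rfl⟩ := isConj_iff.mp (Finset.mem_filter.mp hg).2
    rw [← hz]
    exact orderOf_injective (MulAut.conj c).toMonoidHom (MulAut.conj c).injective z
  have hA3 : 224 ≤ A3.card := by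
    haveI := Fintype.ofFinite (Sylow 3 G)
    let f : (Σ Q : Sylow 3 G, {x : (Q : Subgroup G) // x ≠ 1}) → A3 := fun a =>
      ⟨((a.2 : (a.1 : Subgroup G)) : G), Finset.mem_filter.mpr ⟨Finset.mem_univ _,
        fun e => a.2.2 (Subtype.ext e), by
          have h1 := congrArg Subtype.val (pow_card_eq_one' (x := (a.2 : (a.1 : Subgroup G))))
          rw [card_three h a.1] at h1
          exact h1⟩⟩
    have hf : Function.Injective f := by
      rintro ⟨Q, ⟨x, hx⟩⟩ ⟨R, ⟨y, hy⟩⟩ e
      have hxy : (x : G) = y := congrArg Subtype.val e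
      have hx1 : (x : G) ≠ 1 := fun e => hx (Subtype.ext e)
      obtain rfl : Q = R := Sylow.ext ((centralizer_three h Q x.2 hx1).symm.trans
        (centralizer_three h R (hxy ▸ y.2) hx1))
      obtain rfl : x = y := Subtype.ext hxy
      rfl
    have hcard := Nat.card_le_card_of_injective f hf
    have hfib : ∀ Q : Sylow 3 G, Nat.card {x : (Q : Subgroup G) // x ≠ 1} = 8 := by
      intro Q
      rw [Nat.card_eq_fintype_card, Fintype.card_subtype_compl, Fintype.card_subtype_eq,
        ← Nat.card_eq_fintype_card, card_three h Q]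
    rw [Nat.card_sigma, Finset.sum_congr rfl fun Q _ => hfib Q, Finset.sum_const, smul_eq_mul,
      Finset.card_univ, ← Nat.card_eq_fintype_card, (count_three h).1, Nat.card_eq_fintype_card,
      Fintype.card_coe] at hcard
    exact hcard
  have hA7 : 216 ≤ A7.card := by
    haveI := Fintype.ofFinite (Sylow 7 G)
    let f : (Σ Q : Sylow 7 G, {x : (Q : Subgroup G) // x ≠ 1}) → A7 := fun a =>
      ⟨((a.2 : (a.1 : Subgroup G)) : G), Finset.mem_filter.mpr ⟨Finset.mem_univ _, by
        refine orderOf_eq_prime ?_ fun e => a.2.2 (Subtype.ext e)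
        have h1 := congrArg Subtype.val (pow_card_eq_one' (x := (a.2 : (a.1 : Subgroup G))))
        rw [card_seven h a.1] at h1
        exact h1⟩⟩
    have hgen : ∀ (Q : Sylow 7 G) (x : G), x ∈ (Q : Subgroup G) → x ≠ 1 →
        (Q : Subgroup G) = zpowers x := by
      intro Q x hx hx1
      refine (eq_of_le_of_card_ge (zpowers_le.mpr hx) ?_).symm
      rw [card_seven h Q, Nat.card_zpowers, orderOf_eq_prime (p := 7) ?_ hx1]
      have h1 := congrArg Subtype.val (pow_card_eq_one' (x := (⟨x, hx⟩ : (Q : Subgroup G))))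
      rw [card_seven h Q] at h1
      exact h1
    have hf : Function.Injective f := by
      rintro ⟨Q, ⟨x, hx⟩⟩ ⟨R, ⟨y, hy⟩⟩ e
      have hxy : (x : G) = y := congrArg Subtype.val e
      have hx1 : (x : G) ≠ 1 := fun e => hx (Subtype.ext e)
      obtain rfl : Q = R := Sylow.ext ((hgen Q x x.2 hx1).trans
        (hgen R x (hxy ▸ y.2) hx1).symm)
      obtain rfl : x = y := Subtype.ext hxy
      rfl
    have hcard := Nat.card_le_card_of_injective f hf
    have hfib : ∀ Q : Sylow 7 G, Nat.card {x : (Q : Subgroup G) // x ≠ 1} = 6 := by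
      intro Q
      rw [Nat.card_eq_fintype_card, Fintype.card_subtype_compl, Fintype.card_subtype_eq,
        ← Nat.card_eq_fintype_card, card_seven h Q]
    rw [Nat.card_sigma, Finset.sum_congr rfl fun Q _ => hfib Q, Finset.sum_const, smul_eq_mul,
      Finset.card_univ, ← Nat.card_eq_fintype_card, (count_seven h).1, Nat.card_eq_fintype_card,
      Fintype.card_coe] at hcard
    exact hcard
  have hd1 : Disjoint A3 A7 := Finset.disjoint_left.mpr fun g h3 h7 => by
    have := orderOf_dvd_of_pow_eq_one (Finset.mem_filter.mp h3).2.2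
    rw [(Finset.mem_filter.mp h7).2] at this
    omega
  have hd2 : Disjoint (A3 ∪ A7) Z := Finset.disjoint_left.mpr fun g hg hgZ => by
    have h2 := hZ2 g hgZ
    rcases Finset.mem_union.mp hg with h3 | h7
    · have := orderOf_dvd_of_pow_eq_one (Finset.mem_filter.mp h3).2.2
      rw [h2] at this
      omega
    · have := (Finset.mem_filter.mp h7).2
      omega
  have hsub : A3 ∪ A7 ∪ Z ⊆ (Finset.univ : Finset G).erase 1 := by
    intro g hg
    refine Finset.mem_erase.mpr ⟨fun e => ?_, Finset.mem_univ _⟩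
    subst e
    rcases Finset.mem_union.mp hg with hg | hg
    · rcases Finset.mem_union.mp hg with h3 | h7
      · exact (Finset.mem_filter.mp h3).2.1 rfl
      · simpa using (Finset.mem_filter.mp h7).2
    · simpa using hZ2 _ hg
  have hall : A3 ∪ A7 ∪ Z = (Finset.univ : Finset G).erase 1 := by
    refine Finset.eq_of_subset_of_card_le hsub ?_
    rw [Finset.card_erase_of_mem (Finset.mem_univ _), Finset.card_univ, ← Nat.card_eq_fintype_card,
      h, Finset.card_union_of_disjoint hd2, Finset.card_union_of_disjoint hd1]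
    omega
  have hcases : ∀ g : G, g ≠ 1 → g ∈ A3 ∨ g ∈ A7 ∨ g ∈ Z := fun g hg => by
    have : g ∈ A3 ∪ A7 ∪ Z := hall ▸ Finset.mem_erase.mpr ⟨hg, Finset.mem_univ _⟩
    simpa only [Finset.mem_union, or_assoc] using this
  have hZiff : ∀ g : G, orderOf g = 2 → g ∈ Z := fun g hg => by
    rcases hcases g (fun e => by rw [e, orderOf_one] at hg; omega) with h3 | h7 | hZ
    · have := orderOf_dvd_of_pow_eq_one (Finset.mem_filter.mp h3).2.2
      rw [hg] at this
      omega
    · have := (Finset.mem_filter.mp h7).2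
      omega
    · exact hZ
  refine ⟨fun g hg => ?_, fun g hg => ?_, ?_⟩
  · rcases hcases g hg with h3 | h7 | hZ
    · exact Or.inl (Finset.mem_filter.mp h3).2.2
    · exact Or.inr (Or.inl (Finset.mem_filter.mp h7).2)
    · exact Or.inr (Or.inr (hZ2 g hZ))
  · obtain ⟨c, hc⟩ := isConj_iff.mp (Finset.mem_filter.mp (hZiff g hg)).2
    rw [← hC8, ← hc]
    have : centralizer ({c * z * c⁻¹} : Set G) =
        (centralizer ({z} : Set G)).map (MulAut.conj c).toMonoidHom := by
      ext y
      rw [mem_map_equiv, MulAut.conj_symm_apply, mem_centralizer_singleton_iff,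
        mem_centralizer_singleton_iff]
      constructor
      · intro e
        calc c⁻¹ * y * c * z = c⁻¹ * (y * (c * z * c⁻¹)) * c := by group
          _ = c⁻¹ * ((c * z * c⁻¹) * y) * c := by rw [e]
          _ = z * (c⁻¹ * y * c) := by group
      · intro e
        calc y * (c * z * c⁻¹) = c * ((c⁻¹ * y * c) * z) * c⁻¹ := by group
          _ = c * (z * (c⁻¹ * y * c)) * c⁻¹ := by rw [e]
          _ = c * z * c⁻¹ * y := by group
    rw [this, card_map_of_injective (MulAut.conj c).injective]
  · rw [← hZc, ← Fintype.card_coe, Nat.card_eq_fintype_card]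
    exact Fintype.card_congr (Equiv.subtypeEquivRight fun g => ⟨hZiff g, hZ2 g⟩)

/-- Sylow 2-subgroups are the centralisers of their involutions. -/
theorem mem_two [Fact (Nat.Prime 2)] (S : Sylow 2 G) {x : G} (hx : x ∈ (S : Subgroup G))
    (hx1 : x ≠ 1) : orderOf x = 2 ∧ centralizer ({x} : Set G) = S := by
  have hord : ∀ y ∈ (S : Subgroup G), y ≠ 1 → orderOf y = 2 := by
    intro y hy hy1
    have h8 := Subgroup.orderOf_dvd_natCard (S : Subgroup G) hy
    rw [card_two h S] at h8
    rcases (involutions h).1 y hy1 with h9 | h7 | h2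
    · have h9' := orderOf_dvd_of_pow_eq_one h9
      have := Nat.dvd_gcd h8 h9'
      norm_num at this
      exact absurd this hy1
    · rw [h7] at h8; omega
    · exact h2
  have hsq : ∀ y ∈ (S : Subgroup G), y * y = 1 := fun y hy => by
    by_cases hy1 : y = 1
    · rw [hy1, one_mul]
    · rw [← pow_two, ← hord y hy hy1, pow_orderOf_eq_one]
  refine ⟨hord x hx hx1, (eq_of_le_of_card_ge (fun y hy => mem_centralizer_singleton_iff.mpr ?_) ?_).symm⟩
  · have e := hsq _ (mul_mem hy hx)
    calc y * x = (y * x) * ((x * y) * (x * y)) := by rw [hsq _ (mul_mem hx hy), mul_one]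
      _ = y * (x * x) * y * (x * y) := by group
      _ = x * y := by rw [hsq x hx, mul_one, hsq y hy, one_mul]
  · rw [(involutions h).2.1 x (hord x hx hx1), card_two h S]

theorem count_two [Fact (Nat.Prime 2)] : Nat.card (Sylow 2 G) = 9 := by
  classical
  haveI := Fintype.ofFinite (Sylow 2 G)
  let f : (Σ Q : Sylow 2 G, {x : (Q : Subgroup G) // x ≠ 1}) → {g : G // orderOf g = 2} := fun a =>
    ⟨((a.2 : (a.1 : Subgroup G)) : G),
      (mem_two h a.1 (a.2 : (a.1 : Subgroup G)).2 fun e => a.2.2 (Subtype.ext e)).1⟩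
  have hf : Function.Bijective f := by
    constructor
    · rintro ⟨Q, ⟨x, hx⟩⟩ ⟨R, ⟨y, hy⟩⟩ e
      have hxy : (x : G) = y := congrArg Subtype.val e
      have hx1 : (x : G) ≠ 1 := fun e => hx (Subtype.ext e)
      obtain rfl : Q = R := Sylow.ext ((mem_two h Q x.2 hx1).2.symm.trans
        (mem_two h R (hxy ▸ y.2) hx1).2)
      obtain rfl : x = y := Subtype.ext hxy
      rfl
    · rintro ⟨g, hg⟩
      obtain ⟨Q, hQ⟩ := (IsPGroup.of_card (n := 1) (G := zpowers g)
        (by rw [Nat.card_zpowers, hg]; rfl) : IsPGroup 2 (zpowers g)).exists_le_sylow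
      refine ⟨⟨Q, ⟨⟨g, hQ (mem_zpowers g)⟩, fun e => ?_⟩⟩, rfl⟩
      rw [show g = 1 from congrArg Subtype.val e, orderOf_one] at hg
      omega
  have hc := Nat.card_eq_of_bijective f hf
  haveI := Fintype.ofFinite G
  have hfib : ∀ Q : Sylow 2 G, Nat.card {x : (Q : Subgroup G) // x ≠ 1} = 7 := by
    intro Q
    rw [Nat.card_eq_fintype_card, Fintype.card_subtype_compl, Fintype.card_subtype_eq,
      ← Nat.card_eq_fintype_card, card_two h Q]
  rw [Nat.card_sigma, Finset.sum_congr rfl fun Q _ => hfib Q, Finset.sum_const, smul_eq_mul,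
    Finset.card_univ, ← Nat.card_eq_fintype_card, (involutions h).2.2] at hc
  omega

/-- A simple group of order 504 is `PGL₂(8)`. -/
theorem nonempty_mulEquiv_pgl (F : Type) [Field F] [Finite F] (hF : Nat.card F = 8) :
    Nonempty (G ≃* Matrix.ProjGenLinGroup (Fin 2) F) := by
  classical
  haveI : Fact (Nat.Prime 2) := ⟨Nat.prime_two⟩
  haveI : Fact (Nat.Prime 7) := ⟨by norm_num⟩
  haveI := Fintype.ofFinite (Sylow 2 G)
  haveI := Fintype.ofFinite G
  have hX := count_two h
  have hN : ∀ S : Sylow 2 G, Nat.card (normalizer ((S : Subgroup G) : Set G)) = 56 := fun S => by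
    have := card_sylow_mul S
    rw [hX, h] at this
    omega
  haveI : FaithfulSMul G (Sylow 2 G) := by
    refine ⟨fun {a b} hab => ?_⟩
    by_contra hne
    set K := (MulAction.toPermHom G (Sylow 2 G)).ker
    have hmem : a⁻¹ * b ∈ K := Equiv.ext fun Q => by
      show (a⁻¹ * b) • Q = Q
      rw [mul_smul, ← hab Q, inv_smul_smul]
    have hK : K ≠ ⊥ := fun e => hne (inv_mul_eq_one.mp (Subgroup.mem_bot.mp (e ▸ hmem)))
    have htop := ((inferInstance : K.Normal).eq_bot_or_eq_top).resolve_left hK
    obtain ⟨S⟩ : Nonempty (Sylow 2 G) := inferInstance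
    have : normalizer ((S : Subgroup G) : Set G) = ⊤ := eq_top_iff.mpr fun g _ =>
      Sylow.smul_eq_iff_mem_normalizer.mp (Equiv.congr_fun (show g ∈ K from htop ▸ mem_top g) S)
    have h56 := hN S
    rw [this, Subgroup.card_top, h] at h56
    omega
  -- three points have trivial stabiliser
  have hsharp : ∀ x : Fin 3 ↪ Sylow 2 G, stabilizer G x = ⊥ := by
    intro x
    rw [eq_bot_iff]
    intro g hg
    rw [Subgroup.mem_bot]
    have hfix : ∀ i, g • x i = x i := fun i => DFunLike.congr_fun (mem_stabilizer_iff.mp hg) i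
    by_contra hg1
    rcases (involutions h).1 g hg1 with h9 | h7 | h2
    · have hn := Subgroup.orderOf_dvd_natCard _ (Sylow.smul_eq_iff_mem_normalizer.mp (hfix 0))
      replace hn : orderOf g ∣ 56 := hn.trans (hN (x 0)).dvd
      have := Nat.dvd_gcd hn (orderOf_dvd_of_pow_eq_one h9)
      norm_num at this
      exact hg1 this
    · have hZ : IsPGroup 7 (zpowers g) :=
        IsPGroup.of_card (n := 1) (by rw [Nat.card_zpowers, h7]; rfl)
      have hmod : 9 % 7 = Nat.card (fixedPoints (zpowers g) (Sylow 2 G)) % 7 :=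
        hX ▸ hZ.card_modEq_card_fixedPoints (Sylow 2 G)
      have hsub : ∀ i, x i ∈ fixedPoints (zpowers g) (Sylow 2 G) := fun i u =>
        (zpowers_le.mpr (mem_stabilizer_iff.mpr (hfix i)) : zpowers g ≤ stabilizer G (x i)) u.2
      have h3 : 3 ≤ Nat.card (fixedPoints (zpowers g) (Sylow 2 G)) := by
        have h1 := Nat.card_le_card_of_injective (fun i => (⟨x i, hsub i⟩ :
          fixedPoints (zpowers g) (Sylow 2 G))) fun a b e => x.injective (congrArg Subtype.val e)
        rwa [Nat.card_fin] at h1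
      have h9' : Nat.card (fixedPoints (zpowers g) (Sylow 2 G)) ≤ 9 :=
        hX ▸ Nat.card_le_card_of_injective _ Subtype.val_injective
      have huniv : fixedPoints (zpowers g) (Sylow 2 G) = Set.univ :=
        Set.eq_of_subset_of_ncard_le (Set.subset_univ _) (by
          rw [Set.ncard_univ, hX, ← Nat.card_coe_set_eq]; omega)
      exact hg1 (eq_of_smul_eq_smul (α := Sylow 2 G) fun Q => by
        rw [one_smul]
        exact (show Q ∈ fixedPoints (zpowers g) (Sylow 2 G) from huniv ▸ trivial) ⟨g, mem_zpowers g⟩)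
    · have hmem : ∀ i, g ∈ (x i : Subgroup G) := fun i =>
        mem_sylow_of_smul_eq (n := 1) (by rw [pow_one, ← h2, pow_orderOf_eq_one]) _ (hfix i)
      have e0 := (mem_two h (x 0) (hmem 0) hg1).2
      have e1 := (mem_two h (x 1) (hmem 1) hg1).2
      exact absurd (x.injective (Sylow.ext (e0.symm.trans e1))) (by decide)
  have hcard : Fintype.card (Sylow 2 G) = 9 := by rw [← Nat.card_eq_fintype_card, hX]
  obtain ⟨x₀⟩ : Nonempty (Fin 3 ↪ Sylow 2 G) :=
    Function.Embedding.nonempty_of_card_le (by rw [hcard, Fintype.card_fin]; norm_num)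
  have hinj : Function.Injective fun g : G => g • x₀ := fun g k e => by
    have e' : g • x₀ = k • x₀ := e
    have : k⁻¹ * g ∈ stabilizer G x₀ := by
      rw [mem_stabilizer_iff, mul_smul, e', inv_smul_smul]
    rw [hsharp, Subgroup.mem_bot] at this
    exact (inv_mul_eq_one.mp this).symm
  have hbij : Function.Bijective fun g : G => g • x₀ := by
    rw [Fintype.bijective_iff_injective_and_card]
    refine ⟨hinj, ?_⟩
    rw [← Nat.card_eq_fintype_card, h, Fintype.card_embedding_eq, hcard, Fintype.card_fin]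
    rfl
  have h3 : IsMultiplyPretransitive G (Sylow 2 G) 3 := ⟨fun x y => by
    obtain ⟨g, rfl⟩ := hbij.2 x
    obtain ⟨k, rfl⟩ := hbij.2 y
    exact ⟨k * g⁻¹, by rw [smul_smul, inv_mul_cancel_right]⟩⟩
  set a := x₀ 0
  set b := x₀ 1
  set c := x₀ 2
  have hab : a ≠ b := x₀.injective.ne (by decide)
  have hac : a ≠ c := x₀.injective.ne (by decide)
  have hbc : b ≠ c := x₀.injective.ne (by decide)
  obtain ⟨s, hs⟩ := h3.exists_smul_eq x₀
    ((Equiv.swap (0 : Fin 3) 1).toEmbedding.trans x₀)
  have hsa : s • a = b := by simpa using DFunLike.congr_fun hs 0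
  have hsb : s • b = a := by simpa using DFunLike.congr_fun hs 1
  have hsc : s • c = c := by simpa [Equiv.swap_apply_of_ne_of_ne] using DFunLike.congr_fun hs 2
  have hss : s * s = 1 := CfsgLib.SharplyThree.eq_one_of_three hsharp hab hac hbc
    (by rw [mul_smul, hsa, hsb]) (by rw [mul_smul, hsb, hsa]) (by rw [mul_smul, hsc, hsc])
  have hs2 : orderOf s = 2 := orderOf_eq_prime (by rw [pow_two, hss]) fun e => hab (by
    rw [← hsa, e, one_smul])
  -- the two-point stabiliser has order seven
  set H := stabilizer G a ⊓ stabilizer G b with hH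
  haveI : IsPretransitive G (Sylow 2 G) := inferInstance
  have h7' : Nat.card H ∣ 7 := by
    have hinjH : Function.Injective fun u : H => (u : G) • c := by
      intro u v e
      exact Subtype.ext (CfsgLib.SharplyThree.eq_of_three hsharp hab hac hbc
        (u.2.1.trans v.2.1.symm) (u.2.2.trans v.2.2.symm) e)
    have hle : Nat.card H ≤ 7 := by
      let f : H → {w : Sylow 2 G // w ≠ a ∧ w ≠ b} := fun u => ⟨(u : G) • c,
        fun e => hac (MulAction.injective (u : G) (u.2.1.trans e.symm)),
        fun e => hbc (MulAction.injective (u : G) (u.2.2.trans e.symm))⟩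
      refine (Nat.card_le_card_of_injective f fun u v e => hinjH (congrArg Subtype.val e)).trans ?_
      rw [Nat.card_eq_fintype_card, Fintype.card_subtype]
      have : (Finset.univ.filter fun w : Sylow 2 G => w ≠ a ∧ w ≠ b) =
          ((Finset.univ : Finset (Sylow 2 G)).erase a).erase b := by
        ext w; simp [and_comm]
      rw [this, Finset.card_erase_of_mem (by simp [hab.symm]),
        Finset.card_erase_of_mem (Finset.mem_univ _), Finset.card_univ, hcard]
    have h56 : Nat.card H ∣ 56 := by
      have := card_dvd_of_le (show H ≤ normalizer ((a : Subgroup G) : Set G) from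
        fun u hu => Sylow.smul_eq_iff_mem_normalizer.mp hu.1)
      rwa [hN] at this
    have hodd : ¬ 2 ∣ Nat.card H := fun h2 => by
      obtain ⟨⟨u, hu⟩, hu2⟩ := exists_prime_orderOf_dvd_card' 2 h2
      rw [Subgroup.orderOf_mk] at hu2
      have hu1 : u ≠ 1 := fun e => by rw [e, orderOf_one] at hu2; omega
      have hp : u ^ 2 ^ 1 = 1 := by rw [pow_one, ← hu2, pow_orderOf_eq_one]
      exact hab (Sylow.ext ((mem_two h a (mem_sylow_of_smul_eq hp a hu.1) hu1).2.symm.trans
        (mem_two h b (mem_sylow_of_smul_eq hp b hu.2) hu1).2))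
    exact Nat.Coprime.dvd_of_dvd_mul_left
      ((Nat.prime_two.coprime_iff_not_dvd.mpr hodd).symm.pow_right 3) (h56 : Nat.card H ∣ 2 ^ 3 * 7)
  haveI : IsCyclic H := by
    rcases (Nat.dvd_prime (by norm_num : Nat.Prime 7)).mp h7' with e | e
    · haveI := (Nat.card_eq_one_iff_unique.mp e).1; infer_instance
    · exact isCyclic_of_prime_card e
  have hinv : ∀ u ∈ stabilizer G a ⊓ stabilizer G b, s * u * s⁻¹ = u⁻¹ := by
    intro u hu
    have hsi : s⁻¹ = s := inv_eq_of_mul_eq_one_right hss
    have hw : s * u * s⁻¹ ∈ H := ⟨by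
      show (s * u * s⁻¹) • a = a
      rw [hsi, mul_smul, mul_smul, hsa, show u • b = b from hu.2, hsb], by
      show (s * u * s⁻¹) • b = b
      rw [hsi, mul_smul, mul_smul, hsb, show u • a = a from hu.1, hsa]⟩
    set v := s * u * s⁻¹ * u with hv
    have hvH : v ∈ H := mul_mem hw hu
    have hcomm : s * u * s⁻¹ * u = u * (s * u * s⁻¹) := setLike_mul_comm (S := Subgroup G) hw hu
    have hvs : Commute v s := by
      show v * s = s * v
      rw [hv]
      conv_rhs => rw [hcomm]
      rw [hsi]
      calc s * u * s * u * s = s * (u * (s * u * s)) := by group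
        _ = _ := rfl
    by_contra hne
    have hv1 : v ≠ 1 := fun e => hne (eq_inv_of_mul_eq_one_left e)
    have hvo : orderOf v = 7 := ((Nat.dvd_prime (by norm_num : Nat.Prime 7)).mp
      ((Subgroup.orderOf_dvd_natCard H hvH).trans h7')).resolve_left
        fun e => hv1 (orderOf_eq_one_iff.mp e)
    have := Subgroup.orderOf_dvd_natCard _
      (show v ∈ centralizer ({s} : Set G) from mem_centralizer_singleton_iff.mpr hvs.eq)
    rw [hvo, (involutions h).2.1 s hs2] at this
    omega
  exact CfsgLib.SharplyThree.nonempty_mulEquiv_pgl h3 hsharp hab hac hbc hsa hsb hsc hinv F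
    (by rw [hF, hcard])

end CfsgLib.SmallSimple.FiveOhFour
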