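import Cfsg.Agent.Perm.PrimeAddOneMain
import Cfsg.Agent.SmallSimple.Basic

/-!
A simple group of order `p (p² - 1) / 2` is `PSL₂(p)`.
-/

set_option autoImplicit false

namespace CfsgLib.SmallSimple

open MulAction

theorem iso_psl_of_card {G : Type*} [Group G] [Finite G] [IsSimpleGroup G] {p : ℕ} [Fact p.Prime]
    (hp11 : 11 ≤ p) (h : 2 * Nat.card G = p * (p ^ 2 - 1)) :
    Nonempty (G ≃* Matrix.ProjectiveSpecialLinearGroup (Fin 2) (ZMod p)) := by
  classical
  have hp : p.Prime := Fact.out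
  obtain ⟨P⟩ := (inferInstance : Nonempty (Sylow p G))
  have hpow : 1 ≤ p ^ 2 := Nat.one_le_pow _ _ hp.pos
  have hnd : ¬ p ∣ p ^ 2 - 1 := fun hd => by
    have h1 : p ∣ (p ^ 2 - 1) + 1 := by
      rw [Nat.sub_add_cancel hpow]
      exact dvd_pow_self p two_ne_zero
    exact hp.not_dvd_one ((Nat.dvd_add_right hd).1 h1)
  have hpd : p ∣ Nat.card G := by
    rcases hp.dvd_mul.1 (⟨_, h⟩ : p ∣ 2 * Nat.card G) with h2 | h2
    · have := Nat.le_of_dvd (by norm_num) h2
      omega
    · exact h2
  -- the normalizer of `P`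
  set n := Nat.card (Sylow p G) with hn
  set N := Subgroup.normalizer ((P : Subgroup G) : Set G)
  have hNG : n * Nat.card N = Nat.card G := by
    rw [hn, Sylow.card_eq_index_normalizer P]
    exact Subgroup.index_mul_card _
  have hpN : p ∣ Nat.card N := (P.dvd_card_of_dvd_card hpd).trans
    (Subgroup.card_dvd_of_le Subgroup.le_normalizer)
  obtain ⟨m, hm⟩ := hpN
  have hnm : 2 * (n * m) = p ^ 2 - 1 := by
    apply Nat.eq_of_mul_eq_mul_left hp.pos
    rw [← h, ← hNG, hm]
    ring
  have hn1 : n ≠ 1 := by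
    intro hn1
    have hN : N = ⊤ := Subgroup.eq_top_of_card_eq _ (by rw [← hNG, hn1, one_mul])
    have hPn : (P : Subgroup G).Normal := Subgroup.normalizer_eq_top_iff.1 hN
    rcases hPn.eq_bot_or_eq_top with hb | ht
    · have := P.dvd_card_of_dvd_card hpd
      rw [hb, Subgroup.card_bot] at this
      exact hp.not_dvd_one this
    · have hcP : IsPGroup p G :=
        P.2.of_equiv ((MulEquiv.subgroupCongr ht).trans Subgroup.topEquiv)
      obtain ⟨k, hk⟩ := hcP.exists_card_eq
      have h2 : p ^ 2 - 1 ∣ 2 * p ^ k := ⟨p, by rw [← hk, h, mul_comm]⟩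
      have hco : Nat.Coprime (p ^ 2 - 1) (p ^ k) :=
        Nat.Coprime.pow_right _ ((hp.coprime_iff_not_dvd.2 hnd).symm)
      have h3 := Nat.le_of_dvd (by norm_num) (hco.dvd_of_dvd_mul_right h2)
      have : 121 ≤ p ^ 2 := by nlinarith
      omega
  have hmod : n % p = 1 := by
    have h1 := card_sylow_modEq_one p G
    rw [Nat.ModEq, Nat.one_mod_eq_one.2 hp.one_lt.ne'] at h1
    exact h1
  obtain ⟨k, hk⟩ : ∃ k, n = 1 + p * k := ⟨n / p, by have := Nat.mod_add_div n p; omega⟩
  have hk1 : 1 ≤ k := by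
    rcases Nat.eq_zero_or_pos k with h0 | h0
    · simp [h0] at hk; exact absurd hk hn1
    · exact h0
  have hmk : 2 * m + 1 + 2 * m * (p * k) = p * p := by
    have : 2 * (n * m) + 1 = p ^ 2 := by omega
    rw [hk] at this
    nlinarith
  obtain ⟨j, hj⟩ : p ∣ 2 * m + 1 :=
    (Nat.dvd_add_left (dvd_mul_of_dvd_right (dvd_mul_right p k) _)).1
      (hmk ▸ dvd_mul_right p p)
  have hjk : j + 2 * m * k = p := by
    apply Nat.eq_of_mul_eq_mul_left hp.pos
    nlinarith
  have hj1 : 1 ≤ j := by
    rcases Nat.eq_zero_or_pos j with h0 | h0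
    · simp [h0] at hj
    · exact h0
  have h2mk : 2 * m ≤ 2 * m * k := Nat.le_mul_of_pos_right _ hk1
  have hj2 : j = 1 := by
    have : p * j ≤ p := by omega
    exact le_antisymm (Nat.le_of_mul_le_mul_left (by simpa using this) hp.pos) hj1
  have hk2 : k = 1 := by
    have h1 : 2 * m * k = 2 * m * 1 := by rw [hj2] at hj hjk; omega
    refine Nat.eq_of_mul_eq_mul_left ?_ h1
    rw [hj2] at hj; omega
  have hm2 : 2 * m + 1 = p := by rw [hj, hj2, mul_one]
  have hnp : n = p + 1 := by rw [hk, hk2]; ring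
  -- the action on the Sylow subgroups
  haveI := Fintype.ofFinite (Sylow p G)
  let φ := MulAction.toPermHom G (Sylow p G)
  have hφ : Function.Injective φ := by
    rw [← MonoidHom.ker_eq_bot_iff]
    rcases (MonoidHom.normal_ker φ).eq_bot_or_eq_top with hb | ht
    · exact hb
    · exfalso
      apply hn1
      have hfix : ∀ Q : Sylow p G, Q = P := fun Q => by
        obtain ⟨g, rfl⟩ := MulAction.exists_smul_eq G P Q
        have hg : g ∈ φ.ker := ht ▸ Subgroup.mem_top g
        exact congrArg (fun e : Equiv.Perm (Sylow p G) => e P) (MonoidHom.mem_ker.1 hg)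
      haveI : Subsingleton (Sylow p G) := ⟨fun a b => (hfix a).trans (hfix b).symm⟩
      exact Nat.card_of_subsingleton P
  let e : G ≃* φ.range := MonoidHom.ofInjective hφ
  have S : CfsgLib.PrimeAddOne.Small φ.range p m :=
    { prime := hp
      degree := by rw [← Nat.card_eq_fintype_card, ← hn, hnp]
      trans := ⟨fun a b => by
        obtain ⟨g, hg⟩ := MulAction.exists_smul_eq G a b
        exact ⟨⟨φ g, g, rfl⟩, hg⟩⟩
      order := by
        rw [← Nat.card_congr e.toEquiv, ← hNG, hm, hnp, mul_assoc]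
      lt := by omega }
  rcases CfsgLib.PrimeAddOne.classify S with ⟨hd, -⟩ | ⟨-, ⟨e'⟩⟩ | ⟨q, hq, hpq, hd, -⟩
  · omega
  · exact ⟨e.trans e'⟩
  · exfalso
    rcases hd with hd | hd
    · omega
    · have key : ∀ r : ℕ, 2 * (r + 4) + 2 < 2 ^ (r + 4) := by
        intro r
        induction r with
        | zero => norm_num
        | succ r ih =>
          rw [show r + 1 + 4 = (r + 4) + 1 by ring, pow_succ]
          omega
      rcases Nat.lt_or_ge q 4 with h4 | h4
      · interval_cases q <;> omega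
      · have := key (q - 4)
        rw [Nat.sub_add_cancel h4] at this
        omega

/-- The same over any field with `p` elements. -/
theorem iso_psl_of_card_field {G : Type*} [Group G] [Finite G] [IsSimpleGroup G] {p : ℕ}
    (hp : p.Prime) (hp11 : 11 ≤ p) (h : 2 * Nat.card G = p * (p ^ 2 - 1)) {F : Type*} [Field F]
    [Fintype F] (hF : Fintype.card F = p) :
    Nonempty (G ≃* Matrix.ProjectiveSpecialLinearGroup (Fin 2) F) := by
  haveI : Fact p.Prime := ⟨hp⟩
  obtain ⟨e⟩ := iso_psl_of_card hp11 h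
  obtain ⟨f⟩ := CfsgLib.InvChar.psl_congr (FiniteField.ringEquivOfCardEq
    (show Fintype.card (ZMod p) = Fintype.card F by rw [ZMod.card, hF]))
  exact ⟨e.trans f⟩

end CfsgLib.SmallSimple
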