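import Cfsg.Agent.SmallSimple.M11Uniq.Main
import Mathlib.GroupTheory.Transfer
import Mathlib.GroupTheory.Sylow

/-!
# Recognition of the simple group of order 7920 from the numbers of elements of each order
-/

set_option autoImplicit false
set_option linter.style.haveILetI false
set_option linter.unusedSectionVars false

namespace CfsgLib.M11Nse

open Subgroup

variable {G : Type*} [Group G] [Finite G]

/-- The number of elements of order `m`. -/
noncomputable def cnt (G : Type*) [Group G] (m : ℕ) : ℕ := Nat.card {g : G // orderOf g = m}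

theorem dvd_cnt {m d : ℕ} (h : ∀ g : G, orderOf g = m → d ∣ (centralizer ({g} : Set G)).index) :
    d ∣ cnt G m := by
  classical
  haveI := Fintype.ofFinite G
  unfold cnt
  rw [Nat.card_eq_fintype_card, Fintype.card_subtype,
    Finset.card_eq_sum_card_fiberwise (f := ConjClasses.mk) (t := Finset.univ) fun _ _ => Finset.mem_univ _]
  refine Finset.dvd_sum fun c _ => ?_
  by_cases hc : ∃ g, orderOf g = m ∧ ConjClasses.mk g = c
  · obtain ⟨g, hg, rfl⟩ := hc
    have he : ((Finset.univ.filter fun x => orderOf x = m).filter fun x => ConjClasses.mk x = ConjClasses.mk g) =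
        (MulAction.orbit (ConjAct G) g).toFinset := by
      ext x
      simp only [Finset.mem_filter, Finset.mem_univ, true_and, Set.mem_toFinset,
        ConjAct.mem_orbit_conjAct, ConjClasses.mk_eq_mk_iff_isConj]
      refine ⟨fun h => h.2, fun h => ⟨?_, h⟩⟩
      obtain ⟨c, hcx⟩ := isConj_iff.1 h
      rw [← hg, ← hcx, ← MulAut.conj_apply, MulEquiv.orderOf_eq]
    rw [he, ← Set.ncard_eq_toFinset_card', ← MulAction.index_stabilizer, ConjAct.stabilizer_eq_centralizer]
    exact h g hg
  · push Not at hc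
    rw [Finset.card_eq_zero.2]
    · exact dvd_zero d
    · rw [Finset.filter_eq_empty_iff]
      intro x hx
      exact hc x (Finset.mem_filter.1 hx).2

theorem cnt_one : cnt G 1 = 1 := by
  unfold cnt
  refine Nat.card_eq_one_iff_unique.2 ⟨⟨fun a b => Subtype.ext ?_⟩, ⟨⟨1, orderOf_one⟩⟩⟩
  rw [orderOf_eq_one_iff.1 a.2, orderOf_eq_one_iff.1 b.2]

/-- The counts of the model avoid the dangerous values. -/
theorem cnt_avoid [IsSimpleGroup G] (hG : Nat.card G = 7920) (m : ℕ) :
    cnt G m ≠ 4 ∧ cnt G m ≠ 10 ∧ cnt G m ≠ 120 ∧ cnt G m ≠ 450 := by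
  by_cases h0 : cnt G m = 0
  · omega
  haveI : Nonempty {g : G // orderOf g = m} := (Nat.card_pos_iff.1 (Nat.pos_of_ne_zero h0)).1
  obtain ⟨⟨g₀, hg₀⟩⟩ := ‹Nonempty {g : G // orderOf g = m}›
  by_cases h1 : m = 1
  · rw [h1, cnt_one]; omega
  set q := m.minFac
  have hq : q.Prime := Nat.minFac_prime h1
  obtain ⟨k, hk⟩ : q ∣ m := Nat.minFac_dvd m
  have hm : 0 < m := hg₀ ▸ orderOf_pos g₀
  have hk0 : k ≠ 0 := fun h => by rw [h, mul_zero] at hk; omega
  have hpow : ∀ g : G, orderOf g = m → orderOf (g ^ k) = q := fun g hg => by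
    rw [orderOf_pow' g hk0, hg, hk, Nat.gcd_mul_left_left, Nat.mul_div_cancel _ (Nat.pos_of_ne_zero hk0)]
  have hqG : q ∣ 7920 := hG ▸ (hk ▸ dvd_mul_right q k : q ∣ m).trans (hg₀ ▸ orderOf_dvd_natCard g₀)
  have key : ∀ c d : ℕ, c * d = 7920 → (∀ u : G, orderOf u = q → Nat.card (centralizer ({u} : Set G)) ∣ c) →
      d ∣ cnt G m := by
    intro c d hcd hc
    refine dvd_cnt fun g hg => ?_
    have hle : centralizer ({g} : Set G) ≤ centralizer ({g ^ k} : Set G) := fun x hx =>
      mem_centralizer_singleton_iff.2 ((Commute.pow_right (mem_centralizer_singleton_iff.1 hx : Commute x g) k).eq)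
    refine dvd_trans ?_ (index_dvd_of_le hle)
    obtain ⟨e, he⟩ := hc _ (hpow g hg)
    have h2 := (centralizer ({g ^ k} : Set G)).card_mul_index
    rw [hG, ← hcd, he, mul_assoc] at h2
    exact ⟨e, by rw [Nat.eq_of_mul_eq_mul_left Nat.card_pos h2, mul_comm]⟩
  have hq4 : q = 2 ∨ q = 3 ∨ q = 5 ∨ q = 11 := by
    rw [show (7920 : ℕ) = 2 ^ 4 * (3 ^ 2 * (5 * 11)) by norm_num] at hqG
    rcases hq.dvd_mul.1 hqG with h | h
    · exact Or.inl ((Nat.prime_dvd_prime_iff_eq hq Nat.prime_two).1 (hq.dvd_of_dvd_pow h))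
    rcases hq.dvd_mul.1 h with h | h
    · exact Or.inr (Or.inl ((Nat.prime_dvd_prime_iff_eq hq Nat.prime_three).1 (hq.dvd_of_dvd_pow h)))
    rcases hq.dvd_mul.1 h with h | h
    · exact Or.inr (Or.inr (Or.inl ((Nat.prime_dvd_prime_iff_eq hq Nat.prime_five).1 h)))
    · exact Or.inr (Or.inr (Or.inr ((Nat.prime_dvd_prime_iff_eq hq (by norm_num)).1 h)))
  rcases hq4 with h | h | h | h
  · have := key 48 165 rfl fun u hu => (CfsgLib.M11Uniq.card_centralizer_invol hG (h ▸ hu)).dvd
    omega
  · have := key 18 440 rfl fun u hu => CfsgLib.M11Uniq.card_centralizer_three hG (h ▸ hu)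
    omega
  · have := key 5 1584 rfl fun u hu => (CfsgLib.Order7920.five hG (h ▸ hu)).1.dvd
    omega
  · have := key 11 720 rfl fun u hu => (CfsgLib.Order7920.eleven hG (h ▸ hu)).1.dvd
    omega

/-- Elements of order `p` when the Sylow subgroups have order `p`. -/
theorem cnt_prime {p : ℕ} [hp : Fact p.Prime] (hP : ∀ P : Sylow p G, Nat.card (P : Subgroup G) = p) :
    cnt G p = Nat.card (Sylow p G) * (p - 1) := by
  classical
  have hord : ∀ (P : Sylow p G) (g : G), g ∈ (P : Subgroup G) → g ≠ 1 → orderOf g = p := by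
    intro P g hg h1
    have := Subgroup.orderOf_dvd_natCard (P : Subgroup G) hg
    rw [hP] at this
    exact ((Nat.dvd_prime hp.out).1 this).resolve_left fun h => h1 (orderOf_eq_one_iff.1 h)
  have heq : ∀ (P : Sylow p G) (g : G), g ∈ (P : Subgroup G) → g ≠ 1 → zpowers g = (P : Subgroup G) :=
    fun P g hg h1 => eq_of_le_of_card_ge (zpowers_le.2 hg) (by rw [Nat.card_zpowers, hord P g hg h1, hP])
  let f : (Σ P : Sylow p G, {x : (P : Subgroup G) // x ≠ 1}) → {g : G // orderOf g = p} := fun s =>
    ⟨s.2.1.1, hord s.1 _ s.2.1.2 fun h => s.2.2 (Subtype.ext h)⟩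
  have hf : Function.Bijective f := by
    refine ⟨?_, fun g => ?_⟩
    · rintro ⟨P, x⟩ ⟨Q, y⟩ h
      have h' : (x.1 : G) = y.1 := congrArg Subtype.val h
      obtain rfl : P = Q := Sylow.ext (by
        rw [← heq P _ x.1.2 (fun e => x.2 (Subtype.ext e)), h', heq Q _ y.1.2 (fun e => y.2 (Subtype.ext e))])
      exact Sigma.ext rfl (heq_of_eq (Subtype.ext (Subtype.ext h')))
    · obtain ⟨P, hgP⟩ := (IsPGroup.of_card (n := 1) (by rw [Nat.card_zpowers, g.2, pow_one]) :
        IsPGroup p (zpowers (g : G))).exists_le_sylow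
      refine ⟨⟨P, ⟨⟨g, hgP (mem_zpowers _)⟩, fun h => ?_⟩⟩, Subtype.ext rfl⟩
      have := g.2
      rw [congrArg Subtype.val h, Subgroup.coe_one, orderOf_one] at this
      exact hp.out.one_lt.ne this
  haveI := Fintype.ofFinite G
  haveI := Fintype.ofFinite (Sylow p G)
  rw [cnt, ← Nat.card_eq_of_bijective f hf, Nat.card_sigma,
    Finset.sum_const_nat (m := p - 1) fun P _ => ?_, Finset.card_univ, ← Nat.card_eq_fintype_card]
  haveI := Fintype.ofFinite (P : Subgroup G)
  rw [Nat.card_eq_fintype_card, Fintype.card_subtype_compl, Fintype.card_subtype_eq,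
    ← Nat.card_eq_fintype_card, hP]

theorem isSimple_of_avoid (hG : Nat.card G = 7920)
    (h : ∀ m, cnt G m ≠ 4 ∧ cnt G m ≠ 10 ∧ cnt G m ≠ 120 ∧ cnt G m ≠ 450) : IsSimpleGroup G := by
  classical
  haveI : Fact (Nat.Prime 11) := ⟨by norm_num⟩
  haveI : Fact (Nat.Prime 5) := ⟨by norm_num⟩
  have hP : ∀ P : Sylow 11 G, Nat.card (P : Subgroup G) = 11 := fun P => by
    rw [P.card_eq_multiplicity, hG, show (7920 : ℕ) = 11 ^ 1 * 720 by norm_num,
      Nat.factorization_mul (by norm_num) (by norm_num), Finsupp.add_apply,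
      Nat.Prime.factorization_pow (by norm_num), Finsupp.single_eq_same,
      Nat.factorization_eq_zero_of_not_dvd (by norm_num)]
    norm_num
  have hP5 : ∀ P : Sylow 5 G, Nat.card (P : Subgroup G) = 5 := fun P => by
    rw [P.card_eq_multiplicity, hG, show (7920 : ℕ) = 5 ^ 1 * 1584 by norm_num,
      Nat.factorization_mul (by norm_num) (by norm_num), Finsupp.add_apply,
      Nat.Prime.factorization_pow (by norm_num), Finsupp.single_eq_same,
      Nat.factorization_eq_zero_of_not_dvd (by norm_num)]
    norm_num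
  have hn : Nat.card (Sylow 11 G) = 144 := by
    obtain ⟨P⟩ : Nonempty (Sylow 11 G) := inferInstance
    have h1 := P.card_dvd_index
    have h2 := (P : Subgroup G).card_mul_index
    rw [hP, hG] at h2
    rw [show (P : Subgroup G).index = 720 by omega] at h1
    have h3 : Nat.card (Sylow 11 G) % 11 = 1 := card_sylow_modEq_one 11 G
    have hmem : Nat.card (Sylow 11 G) ∈ (Nat.divisors 720).filter fun k => k % 11 = 1 :=
      Finset.mem_filter.2 ⟨Nat.mem_divisors.2 ⟨h1, by norm_num⟩, h3⟩
    rw [show ((Nat.divisors 720).filter fun k => k % 11 = 1) = ({1, 12, 45, 144} : Finset ℕ) by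
      decide +kernel] at hmem
    simp only [Finset.mem_insert, Finset.mem_singleton] at hmem
    have hc := cnt_prime hP
    have := h 11
    omega
  have h1440 : cnt G 11 = 1440 := by rw [cnt_prime hP, hn]
  have hN55 : ∀ g : G, orderOf g = 11 → Nat.card (normalizer ((zpowers g : Subgroup G) : Set G)) = 55 := by
    intro g hg
    obtain ⟨P, hgP⟩ := (IsPGroup.of_card (n := 1) (by rw [Nat.card_zpowers, hg, pow_one]) :
        IsPGroup 11 (zpowers g)).exists_le_sylow
    rw [eq_of_le_of_card_ge hgP (by rw [Nat.card_zpowers, hg, hP])]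
    have h2 := (normalizer ((P : Subgroup G) : Set G)).card_mul_index
    have h3 : (normalizer ((P : Subgroup G) : Set G)).index = 144 := P.card_eq_index_normalizer.symm.trans hn
    rw [h3, hG] at h2
    omega
  -- no nontrivial normal subgroup of order prime to eleven
  have noPrime : ∀ N : Subgroup G, N.Normal → N ≠ ⊥ → ¬ 11 ∣ Nat.card N → False := by
    intro N hN hbot h11
    have hcardN : Nat.card N ∣ 7920 := hG ▸ card_subgroup_dvd_card N
    have h23 : ∀ q : ℕ, q.Prime → q ≠ 5 → q ≠ 11 → ¬ q ∣ Nat.card N := by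
      intro q hq hq5 hq11 hqN
      haveI := Fact.mk hq
      obtain ⟨Q⟩ : Nonempty (Sylow q N) := inferInstance
      haveI := hN
      have hsup := Sylow.normalizer_sup_eq_top Q
      set QG := (Q : Subgroup N).map N.subtype
      have h11N : 11 ∣ Nat.card (normalizer (QG : Set G)) := by
        have hidx : N.index ∣ Nat.card (normalizer (QG : Set G)) := by
          have h := Subgroup.relIndex_sup_right (normalizer (QG : Set G)) N
          rw [hsup, relIndex_top_right] at h
          rw [h]
          exact relIndex_dvd_card _ _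
        refine dvd_trans ?_ hidx
        have h2 := N.card_mul_index
        rw [hG] at h2
        exact ((Nat.Prime.dvd_mul (by norm_num)).1 (h2 ▸ (by norm_num : 11 ∣ 7920))).resolve_left h11
      obtain ⟨g, hg⟩ := exists_prime_orderOf_dvd_card' 11 h11N
      rw [← Subgroup.orderOf_coe] at hg
      haveI := Fintype.ofFinite QG
      have hgn : ∀ x, x ∈ QG → (g : G) * x * (g : G)⁻¹ ∈ QG := fun x hx => (mem_normalizer_iff.1 g.2 x).1 hx
      let σ : Equiv.Perm QG := Equiv.ofBijective (fun x => ⟨(g : G) * x * (g : G)⁻¹, hgn x x.2⟩)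
        (Finite.injective_iff_bijective.1 fun a b hab => Subtype.ext (by simpa using congrArg Subtype.val hab))
      have hσn : ∀ (n : ℕ) (x : QG), (((σ ^ n) x : QG) : G) = (g : G) ^ n * x * ((g : G) ^ n)⁻¹ := by
        intro n
        induction n with
        | zero => intro x; simp
        | succ n ih =>
          intro x
          rw [pow_succ', Equiv.Perm.mul_apply]
          show (g : G) * ((σ ^ n) x : QG) * (g : G)⁻¹ = _
          rw [ih, pow_succ']
          group
      have hσ : σ ^ 11 ^ 1 = 1 := by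
        rw [pow_one]
        refine Equiv.ext fun x => Subtype.ext ?_
        rw [hσn, show (g : G) ^ 11 = 1 from hg ▸ pow_orderOf_eq_one _]
        simp
      have hfix : ∀ x : QG, σ x = x ↔ x = 1 := by
        intro x
        refine ⟨fun hx => ?_, fun hx => ?_⟩
        · have hc : (g : G) * x = x * g := by
            have h := congrArg Subtype.val hx
            change (g : G) * x * (g : G)⁻¹ = x at h
            exact mul_inv_eq_iff_eq_mul.1 h
          have hxn : (x : G) ∈ normalizer ((zpowers (g : G) : Subgroup G) : Set G) := by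
            refine centralizer_le_normalizer _ (mem_centralizer_iff.2 ?_)
            rintro y ⟨i, rfl⟩
            exact (Commute.zpow_left hc i).eq
          have h1 : orderOf (x : G) ∣ 55 := hN55 _ hg ▸ Subgroup.orderOf_dvd_natCard _ hxn
          obtain ⟨j, hj⟩ := IsPGroup.iff_card.1 (Q.2.map N.subtype)
          have h2 : orderOf (x : G) ∣ q ^ j := hj ▸ Subgroup.orderOf_dvd_natCard _ x.2
          have hco : Nat.Coprime 55 (q ^ j) := by
            refine Nat.Coprime.pow_right _ ?_
            rw [show (55 : ℕ) = 5 * 11 by norm_num]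
            exact Nat.Coprime.mul_left ((Nat.coprime_primes (by norm_num) hq).2 (Ne.symm hq5))
              ((Nat.coprime_primes (by norm_num) hq).2 (Ne.symm hq11))
          exact Subtype.ext (orderOf_eq_one_iff.1 (Nat.eq_one_of_dvd_coprimes hco h1 h2))
        · subst hx; exact Subtype.ext (by show (g : G) * 1 * (g : G)⁻¹ = 1; group)
      have hmod := Equiv.Perm.card_compl_support_modEq (p := 11) (n := 1) hσ
      rw [show σ.supportᶜ = ({1} : Finset QG) by
        ext x
        rw [Finset.mem_compl, Equiv.Perm.mem_support, not_not, hfix, Finset.mem_singleton],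
        Finset.card_singleton, ← Nat.card_eq_fintype_card] at hmod
      have hQc : Nat.card QG = q ^ (Nat.card N).factorization q := by
        rw [card_map_of_injective N.subtype_injective, Q.card_eq_multiplicity]
      have hf1 : 1 ≤ (Nat.card N).factorization q := hq.factorization_pos_of_dvd Nat.card_pos.ne' hqN
      have hf4 : q ^ (Nat.card N).factorization q ∣ 7920 := (Nat.ordProj_dvd _ _).trans hcardN
      rw [← hQc] at hf4
      have hne1 : Nat.card QG ≠ 1 := by
        rw [hQc]; exact (Nat.one_lt_pow (by omega) hq.one_lt).ne'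
      -- a prime power divisor of 7920 which is 1 mod 11
      have hmem : Nat.card QG ∈ (Nat.divisors 7920).filter fun k => k % 11 = 1 :=
        Finset.mem_filter.2 ⟨Nat.mem_divisors.2 ⟨hf4, by norm_num⟩, by unfold Nat.ModEq at hmod; omega⟩
      rw [show ((Nat.divisors 7920).filter fun k => k % 11 = 1) = ({1, 12, 45, 144} : Finset ℕ) by
        decide +kernel] at hmem
      simp only [Finset.mem_insert, Finset.mem_singleton] at hmem
      have hbad : ∀ a b : ℕ, a.Prime → b.Prime → a ≠ b → a ∣ Nat.card QG → b ∣ Nat.card QG → False := by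
        intro a b ha hb hab hA hB
        rw [hQc] at hA hB
        exact hab (((Nat.prime_dvd_prime_iff_eq ha hq).1 (ha.dvd_of_dvd_pow hA)).trans
          ((Nat.prime_dvd_prime_iff_eq hb hq).1 (hb.dvd_of_dvd_pow hB)).symm)
      rcases hmem with e | e | e | e
      · exact hne1 e
      · exact hbad 2 3 Nat.prime_two Nat.prime_three (by norm_num) (e ▸ by norm_num) (e ▸ by norm_num)
      · exact hbad 3 5 Nat.prime_three Nat.prime_five (by norm_num) (e ▸ by norm_num) (e ▸ by norm_num)
      · exact hbad 2 3 Nat.prime_two Nat.prime_three (by norm_num) (e ▸ by norm_num) (e ▸ by norm_num)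
    have h5 : Nat.card N = 5 := by
      have e2 := h23 2 Nat.prime_two (by norm_num) (by norm_num)
      have e3 := h23 3 Nat.prime_three (by norm_num) (by norm_num)
      have hne : Nat.card N ≠ 1 := fun e => hbot (card_eq_one.1 e)
      have : Nat.card N ∈ (Nat.divisors 7920).filter fun k => ¬ 2 ∣ k ∧ ¬ 3 ∣ k ∧ ¬ 11 ∣ k :=
        Finset.mem_filter.2 ⟨Nat.mem_divisors.2 ⟨hcardN, by norm_num⟩, e2, e3, h11⟩
      rw [show ((Nat.divisors 7920).filter fun k => ¬ 2 ∣ k ∧ ¬ 3 ∣ k ∧ ¬ 11 ∣ k) = ({1, 5} : Finset ℕ) by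
        decide +kernel] at this
      simp only [Finset.mem_insert, Finset.mem_singleton] at this
      omega
    obtain ⟨P, hNP⟩ := (IsPGroup.of_card (n := 1) (by rw [h5, pow_one]) : IsPGroup 5 N).exists_le_sylow
    have hPN : (P : Subgroup G) = N := (eq_of_le_of_card_ge hNP (by rw [h5, hP5])).symm
    haveI : (P : Subgroup G).Normal := hPN ▸ hN
    haveI := P.unique_of_normal inferInstance
    have := cnt_prime hP5
    rw [Nat.card_unique] at this
    exact (h 5).1 this
  haveI : Nontrivial G := Finite.one_lt_card_iff_nontrivial.1 (by rw [hG]; norm_num)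
  refine ⟨fun N hN => ?_⟩
  by_contra hne
  push Not at hne
  by_cases h11 : 11 ∣ Nat.card N
  swap
  · exact noPrime N hN hne.1 h11
  haveI := hN
  have hin : ∀ g : G, orderOf g = 11 → g ∈ N := by
    intro g hg
    obtain ⟨x, hx⟩ := exists_prime_orderOf_dvd_card' 11 h11
    rw [← Subgroup.orderOf_coe] at hx
    obtain ⟨P, hgP⟩ := (IsPGroup.of_card (n := 1) (by rw [Nat.card_zpowers, hg, pow_one]) :
        IsPGroup 11 (zpowers g)).exists_le_sylow
    obtain ⟨P', hxP⟩ := (IsPGroup.of_card (n := 1) (by rw [Nat.card_zpowers, hx, pow_one]) :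
        IsPGroup 11 (zpowers (x : G))).exists_le_sylow
    have hxN : (P' : Subgroup G) ≤ N := by
      rw [← eq_of_le_of_card_ge hxP (by rw [Nat.card_zpowers, hx, hP])]
      exact zpowers_le.2 x.2
    obtain ⟨c, rfl⟩ := MulAction.exists_smul_eq G P' P
    have := hgP (mem_zpowers g)
    rw [Sylow.smul_def, Sylow.pointwise_smul_def] at this
    obtain ⟨y, hy, rfl⟩ := this
    exact hN.conj_mem y (hxN hy) c
  have hcN : cnt N 11 = 1440 := by
    rw [← h1440]
    exact Nat.card_congr
      { toFun := fun g => ⟨(g.1 : G), by rw [Subgroup.orderOf_coe]; exact g.2⟩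
        invFun := fun g => ⟨⟨g.1, hin _ g.2⟩, by rw [← Subgroup.orderOf_coe]; exact g.2⟩
        left_inv := fun g => rfl
        right_inv := fun g => rfl }
  have hPN : ∀ P : Sylow 11 N, Nat.card (P : Subgroup N) = 11 := fun P => by
    obtain ⟨j, hj⟩ := IsPGroup.iff_card.1 P.2
    have h1 : Nat.card (P : Subgroup N) ∣ 7920 :=
      (card_subgroup_dvd_card _).trans (hG ▸ card_subgroup_dvd_card N)
    rw [hj] at h1
    have hj2 : j ≤ 1 := by
      by_contra hc
      have := (pow_dvd_pow 11 (by omega : 2 ≤ j)).trans h1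
      norm_num at this
    have hj0 : j ≠ 0 := fun h0 => by
      have := P.dvd_card_of_dvd_card h11
      rw [hj, h0] at this
      norm_num at this
    rw [hj, show j = 1 by omega, pow_one]
  have hn144 : Nat.card (Sylow 11 N) = 144 := by
    have := cnt_prime hPN
    omega
  obtain ⟨P⟩ : Nonempty (Sylow 11 N) := inferInstance
  have hidx := P.card_dvd_index
  have hmul := (P : Subgroup N).card_mul_index
  rw [hPN] at hmul
  rw [hn144] at hidx
  have hNd : Nat.card N ∣ 7920 := hG ▸ card_subgroup_dvd_card N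
  have hNlt : Nat.card N ≠ 7920 := fun e => hne.2 (eq_top_of_card_eq N (e.trans hG.symm))
  have hN1584 : Nat.card N = 1584 := by
    have : Nat.card N ∈ (Nat.divisors 7920).filter fun k => 144 * 11 ∣ k :=
      Finset.mem_filter.2 ⟨Nat.mem_divisors.2 ⟨hNd, by norm_num⟩, by
        rw [← hmul, mul_comm]; exact Nat.mul_dvd_mul_left 11 hidx⟩
    rw [show ((Nat.divisors 7920).filter fun k => 144 * 11 ∣ k) = ({1584, 7920} : Finset ℕ) by
      decide +kernel] at this
    simp only [Finset.mem_insert, Finset.mem_singleton] at this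
    omega
  have hnorm : normalizer ((P : Subgroup N) : Set N) ≤ centralizer ((P : Subgroup N) : Set N) := by
    have h2 := (normalizer ((P : Subgroup N) : Set N)).card_mul_index
    have h3 : (normalizer ((P : Subgroup N) : Set N)).index = 144 := P.card_eq_index_normalizer.symm.trans hn144
    rw [h3, hN1584] at h2
    have he : (P : Subgroup N) = normalizer ((P : Subgroup N) : Set N) :=
      eq_of_le_of_card_ge le_normalizer (by rw [hPN]; omega)
    rw [← he]
    haveI : IsCyclic (P : Subgroup N) := isCyclic_of_prime_card (hPN P)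
    exact fun x hx => mem_centralizer_iff.2 fun y hy => setLike_mul_comm (S := Subgroup N) hy hx
  have hker := MonoidHom.ker_transferSylow_isComplement' P hnorm
  set K := (MonoidHom.transferSylow P hnorm).ker
  have hK : Nat.card K = 144 := by
    have := hker.card_mul_card
    rw [hPN, hN1584] at this
    omega
  have hKiff : ∀ x : N, x ∈ K ↔ x ^ 144 = 1 := by
    intro x
    refine ⟨fun hx => ?_, fun hx => ?_⟩
    · exact orderOf_dvd_iff_pow_eq_one.1 (hK ▸ Subgroup.orderOf_dvd_natCard K hx)
    · rw [MonoidHom.mem_ker, ← orderOf_eq_one_iff]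
      refine Nat.eq_one_of_dvd_coprimes (a := 144) (b := 11) (by norm_num) ?_ ?_
      · exact (orderOf_map_dvd _ x).trans (orderOf_dvd_iff_pow_eq_one.2 hx)
      · have := orderOf_dvd_natCard (MonoidHom.transferSylow P hnorm x)
        rwa [hPN] at this
  refine noPrime (K.map N.subtype) ⟨?_⟩ ?_ ?_
  · rintro _ ⟨x, hx, rfl⟩ g
    refine ⟨⟨g * x * g⁻¹, hN.conj_mem x x.2 g⟩, (hKiff _).2 (Subtype.ext ?_), rfl⟩
    rw [SubmonoidClass.coe_pow, conj_pow, ← SubmonoidClass.coe_pow, (hKiff x).1 hx]
    simp
  · intro e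
    have : Nat.card (K.map N.subtype) = Nat.card K := card_map_of_injective N.subtype_injective
    rw [e, card_bot, hK] at this
    omega
  · rw [card_map_of_injective (f := N.subtype) N.subtype_injective, hK]
    norm_num

end CfsgLib.M11Nse
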