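/-
Degrees of sharply multiply transitive groups (Jordan), by counting involutions.
-/
import Mathlib

set_option autoImplicit false
set_option linter.unusedSectionVars false

namespace CfsgLib.SharpTrans

open Finset

variable {α : Type*} [Fintype α] [DecidableEq α]

/-- Sharp `k`-transitivity. -/
def Sharp (G : Subgroup (Equiv.Perm α)) (k : ℕ) : Prop :=
  ∀ x y : Fin k ↪ α, ∃! g : Equiv.Perm α, g ∈ G ∧ ∀ i, g (x i) = y i

theorem sharp_of (G : Subgroup (Equiv.Perm α)) (k : ℕ) [MulAction.IsMultiplyPretransitive G α k]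
    (hs : ∀ x : Fin k ↪ α, MulAction.stabilizer G x = ⊥) : Sharp G k := by
  intro x y
  obtain ⟨g, hg⟩ := MulAction.exists_smul_eq G x y
  refine ⟨g, ⟨g.2, fun i => congrArg (fun e : Fin k ↪ α => e i) hg⟩, ?_⟩
  rintro g' ⟨hg', he⟩
  have h1 : (⟨g', hg'⟩ : G) • x = y := Function.Embedding.ext he
  have hmem : (⟨g', hg'⟩ : G)⁻¹ * g ∈ MulAction.stabilizer G x :=
    MulAction.mem_stabilizer_iff.mpr ((mul_smul _ _ _).trans
      ((congrArg (((⟨g', hg'⟩ : G)⁻¹) • ·) (hg.trans h1.symm)).trans (inv_smul_smul _ _)))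
  rw [hs x, Subgroup.mem_bot, inv_mul_eq_one] at hmem
  exact congrArg Subtype.val hmem

theorem sharp_restrict {G : Subgroup (Equiv.Perm α)} {k : ℕ} (hG : Sharp G (k + 1)) (a : α) :
    Sharp (G.comap (Equiv.Perm.ofSubtype (p := fun b => b ≠ a))) k := by
  intro x y
  let up : (Fin k ↪ {b // b ≠ a}) → (Fin (k + 1) ↪ α) := fun x =>
    ⟨Fin.cons a (fun i => (x i : α)), Fin.cons_injective_iff.mpr
      ⟨fun ⟨i, hi⟩ => (x i).2 hi, Subtype.val_injective.comp x.injective⟩⟩
  obtain ⟨g, ⟨hg, he⟩, hu⟩ := hG (up x) (up y)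
  have hga : g a = a := he 0
  have hiff : ∀ b, g b ≠ a ↔ b ≠ a := fun b => by
    conv_lhs => rw [← hga]
    exact g.injective.ne_iff
  have hof : Equiv.Perm.ofSubtype (p := fun b => b ≠ a) (g.subtypePerm (p := fun b => b ≠ a) hiff) = g :=
    Equiv.Perm.ofSubtype_subtypePerm _ fun b hb (e : b = a) => hb (by rw [e, hga])
  refine ⟨g.subtypePerm hiff, ⟨Subgroup.mem_comap.mpr (by rw [hof]; exact hg),
    fun i => Subtype.ext (he i.succ)⟩, ?_⟩
  rintro σ ⟨hσ, hσe⟩
  apply Equiv.Perm.ofSubtype_injective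
  rw [hof]
  refine hu _ ⟨hσ, fun i => ?_⟩
  refine Fin.cases ?_ (fun j => ?_) i
  · exact Equiv.Perm.ofSubtype_apply_of_not_mem σ (fun h => h rfl)
  · show Equiv.Perm.ofSubtype σ (x j : α) = (y j : α)
    rw [Equiv.Perm.ofSubtype_apply_coe, hσe]

variable {G : Subgroup (Equiv.Perm α)} {k : ℕ}

/-- Tuples on which `t` induces the pattern `p`. -/
def Fib (p : Fin k → Fin k) (t : Equiv.Perm α) := {x : Fin k ↪ α // ∀ i, t (x i) = x (p i)}

noncomputable instance (p : Fin k → Fin k) (t : Equiv.Perm α) : Fintype (Fib p t) :=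
  inferInstanceAs (Fintype {x : Fin k ↪ α // ∀ i, t (x i) = x (p i)})

/-- The involutions of a group. -/
def Invols (G : Subgroup (Equiv.Perm α)) := {t : Equiv.Perm α // t ∈ G ∧ t * t = 1 ∧ t ≠ 1}

noncomputable instance : Fintype (Invols G) := by
  classical exact inferInstanceAs (Fintype {t : Equiv.Perm α // t ∈ G ∧ t * t = 1 ∧ t ≠ 1})

theorem eq_of_agree (hG : Sharp G k) {g g' : Equiv.Perm α} (hg : g ∈ G) (hg' : g' ∈ G) (x : Fin k ↪ α)
    (h : ∀ i, g (x i) = g' (x i)) : g = g' :=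
  (hG x (x.trans g'.toEmbedding)).unique ⟨hg, h⟩ ⟨hg', fun _ => rfl⟩

theorem exists_invol (hG : Sharp G k) (p : Fin k → Fin k) (hp : ∀ i, p (p i) = i) (hp' : ∃ i, p i ≠ i)
    (x : Fin k ↪ α) : ∃ t : Invols G, ∀ i, t.1 (x i) = x (p i) := by
  obtain ⟨g, ⟨hg, he⟩, -⟩ := hG x ⟨fun i => x (p i), x.injective.comp (Function.LeftInverse.injective hp)⟩
  refine ⟨⟨g, hg, eq_of_agree hG (mul_mem hg hg) (one_mem G) x fun i => ?_, ?_⟩, he⟩
  · show g (g (x i)) = x i
    rw [he i, Function.Embedding.coeFn_mk, he (p i), Function.Embedding.coeFn_mk, hp]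
  · rintro rfl
    obtain ⟨i, hi⟩ := hp'
    exact hi (x.injective (he i)).symm

theorem sum_fib (hG : Sharp G k) (p : Fin k → Fin k) (hp : ∀ i, p (p i) = i) (hp' : ∃ i, p i ≠ i) :
    ∑ t : Invols G, Fintype.card (Fib p t.1) = Fintype.card (Fin k ↪ α) := by
  rw [← Fintype.card_sigma]
  refine Fintype.card_congr (Equiv.ofBijective (fun q => q.2.1) ⟨?_, fun x => ?_⟩)
  · rintro ⟨s, x, hs⟩ ⟨t, y, ht⟩ (h : x = y)
    subst h
    obtain rfl : s = t := Subtype.ext (eq_of_agree hG s.2.1 t.2.1 x fun i => (hs i).trans (ht i).symm)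
    rfl
  · obtain ⟨t, ht⟩ := exists_invol hG p hp hp' x
    exact ⟨⟨t, x, ht⟩, rfl⟩

/-- When all involutions contain the pattern `p`, any two patterns occur equally often. -/
theorem card_fib_eq (hG : Sharp G k) (p q : Fin k → Fin k) (hp : ∀ i, p (p i) = i) (hp' : ∃ i, p i ≠ i)
    (hq : ∀ i, q (q i) = i) (hq' : ∃ i, q i ≠ i) (hall : ∀ t : Invols G, Nonempty (Fib p t.1))
    (t : Invols G) : Fintype.card (Fib p t.1) = Fintype.card (Fib q t.1) := by
  have hconj : ∀ (r : Fin k → Fin k) (s : Invols G), Fintype.card (Fib r s.1) = Fintype.card (Fib r t.1) := by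
    intro r s
    obtain ⟨⟨x, hx⟩⟩ := hall s
    obtain ⟨⟨y, hy⟩⟩ := hall t
    obtain ⟨g, ⟨hg, he⟩, -⟩ := hG x y
    have hst : g * s.1 = t.1 * g := eq_of_agree hG (mul_mem hg s.2.1) (mul_mem t.2.1 hg) x fun i => by
      show g (s.1 (x i)) = t.1 (g (x i))
      rw [hx, he, he, hy]
    have hst' : ∀ z, g (s.1 z) = t.1 (g z) := fun z => Equiv.congr_fun hst z
    refine Fintype.card_congr ⟨fun z => ⟨z.1.trans g.toEmbedding, fun i => ?_⟩,
      fun z => ⟨z.1.trans g.symm.toEmbedding, fun i => ?_⟩, fun z => ?_, fun z => ?_⟩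
    · show t.1 (g (z.1 i)) = g (z.1 (r i))
      rw [← hst', z.2]
    · show s.1 (g.symm (z.1 i)) = g.symm (z.1 (r i))
      rw [← z.2 i, Equiv.eq_symm_apply, hst', Equiv.apply_symm_apply]
    · exact Subtype.ext (Function.Embedding.ext fun i => g.symm_apply_apply _)
    · exact Subtype.ext (Function.Embedding.ext fun i => g.apply_symm_apply _)
  have h1 := sum_fib hG p hp hp'
  have h2 := sum_fib hG q hq hq'
  rw [Finset.sum_congr rfl fun s _ => hconj p s, sum_const, smul_eq_mul] at h1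
  rw [Finset.sum_congr rfl fun s _ => hconj q s, sum_const, smul_eq_mul] at h2
  exact Nat.eq_of_mul_eq_mul_left (card_pos.mpr ⟨t, mem_univ t⟩) (h1.trans h2.symm)

/-! ### Counting the patterns -/

/-- Moved points. -/
def Mv (t : Equiv.Perm α) : Finset α := univ.filter fun a => t a ≠ a

/-- Fixed points. -/
def Fx (t : Equiv.Perm α) : Finset α := univ.filter fun a => t a = a

theorem mv_add_fx (t : Equiv.Perm α) : (Mv t).card + (Fx t).card = Fintype.card α := by
  rw [Mv, Fx, add_comm]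
  exact card_filter_add_card_filter_not _

theorem mem_mv {t : Equiv.Perm α} {a : α} : a ∈ Mv t ↔ t a ≠ a := by simp [Mv]

theorem mem_fx {t : Equiv.Perm α} {a : α} : a ∈ Fx t ↔ t a = a := by simp [Fx]

theorem apply_mem_mv {t : Equiv.Perm α} {a : α} (ha : a ∈ Mv t) : t a ∈ Mv t :=
  mem_mv.mpr fun h => mem_mv.mp ha (t.injective h)

theorem card_minus_one {t : Equiv.Perm α} {a : α} (ha : a ∈ Mv t) :
    (Mv t \ {a, t a}).card = (Mv t).card - 2 := by
  rw [card_sdiff_of_subset (insert_subset ha (singleton_subset_iff.mpr (apply_mem_mv ha))),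
    card_pair (mem_mv.mp ha).symm]

theorem card_minus_two {t : Equiv.Perm α} (ht : t * t = 1) {a c : α} (ha : a ∈ Mv t)
    (hc : c ∈ Mv t \ {a, t a}) : (Mv t \ {a, t a, c, t c}).card = (Mv t).card - 4 := by
  have hinv : ∀ z, t (t z) = z := fun z => Equiv.congr_fun ht z
  rw [mem_sdiff] at hc
  simp only [mem_insert, mem_singleton, not_or] at hc
  have h4 : ({a, t a, c, t c} : Finset α).card = 4 := by
    rw [card_insert_of_notMem, card_insert_of_notMem, card_pair (mem_mv.mp hc.1).symm]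
    · simp only [mem_insert, mem_singleton, not_or]
      exact ⟨Ne.symm hc.2.2, fun e => hc.2.1 (t.injective e).symm⟩
    · simp only [mem_insert, mem_singleton, not_or]
      exact ⟨(mem_mv.mp ha).symm, Ne.symm hc.2.1, fun e => hc.2.2 (by rw [e, hinv])⟩
  rw [card_sdiff_of_subset, h4]
  simp only [insert_subset_iff, singleton_subset_iff]
  exact ⟨ha, apply_mem_mv ha, hc.1, apply_mem_mv hc.1⟩

theorem fib_four_double (t : Equiv.Perm α) (ht : t * t = 1) :
    Fintype.card (Fib (k := 4) ![1, 0, 3, 2] t) = (Mv t).card * ((Mv t).card - 2) := by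
  have hinv : ∀ z, t (t z) = z := fun z => Equiv.congr_fun ht z
  have e : Fib (k := 4) ![1, 0, 3, 2] t ≃ Σ a : Mv t, (Mv t \ {(a : α), t a} : Finset α) := by
    refine Equiv.ofBijective (fun x => ⟨⟨x.1 0, mem_mv.mpr fun h => ?_⟩, ⟨x.1 2, ?_⟩⟩) ⟨?_, ?_⟩
    · exact absurd (x.1.injective (((x.2 0).symm.trans h) : x.1 1 = x.1 0)) (by decide)
    · simp only [mem_sdiff, mem_insert, mem_singleton, not_or, mem_mv]
      refine ⟨fun h => absurd (x.1.injective ((x.2 2).symm.trans h : x.1 3 = x.1 2)) (by decide),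
        fun h => absurd (x.1.injective h) (by decide), fun h => ?_⟩
      exact absurd (x.1.injective (h.trans (x.2 0) : x.1 2 = x.1 1)) (by decide)
    · rintro ⟨x, hx⟩ ⟨y, hy⟩ h
      simp only [Sigma.mk.injEq, Subtype.mk.injEq] at h
      obtain ⟨h0, h2⟩ := h
      have h2' : x 2 = y 2 := by
        have := (Subtype.heq_iff_coe_eq (by intro z; rw [h0])).mp h2
        exact this
      refine Subtype.ext (Function.Embedding.ext fun i => ?_)
      fin_cases i
      exacts [h0, ((hx 0).symm.trans ((congrArg t h0).trans (hy 0))), h2',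
        ((hx 2).symm.trans ((congrArg t h2').trans (hy 2)))]
    · rintro ⟨⟨a, ha⟩, ⟨c, hc⟩⟩
      rw [mem_sdiff] at hc
      simp only [mem_insert, mem_singleton, not_or, mem_mv] at hc ha
      refine ⟨⟨⟨![a, t a, c, t c], ?_⟩, ?_⟩, rfl⟩
      · intro i j h
        have := hinv a; have := hinv c
        fin_cases i <;> fin_cases j <;> first | rfl | (simp at h ⊢ <;> grind) | grind
      · intro i
        fin_cases i <;> first | rfl | exact hinv _
  rw [Fintype.card_congr e, Fintype.card_sigma, Finset.sum_congr rfl fun a _ => ?_, sum_const, card_univ,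
    Fintype.card_coe, smul_eq_mul]
  rw [Fintype.card_coe, card_minus_one a.2]

theorem fib_four_single (t : Equiv.Perm α) (ht : t * t = 1) :
    Fintype.card (Fib (k := 4) ![1, 0, 2, 3] t) = (Mv t).card * (Fx t).card.descFactorial 2 := by
  have hinv : ∀ z, t (t z) = z := fun z => Equiv.congr_fun ht z
  have e : Fib (k := 4) ![1, 0, 2, 3] t ≃ Mv t × (Fin 2 ↪ Fx t) := by
    refine Equiv.ofBijective (fun x => (⟨x.1 0, mem_mv.mpr fun h => ?_⟩,
      ⟨fun i => ⟨x.1 (![2, 3] i), mem_fx.mpr ?_⟩, fun i j h => ?_⟩)) ⟨?_, ?_⟩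
    · exact absurd (x.1.injective (((x.2 0).symm.trans h) : x.1 1 = x.1 0)) (by decide)
    · fin_cases i
      exacts [x.2 2, x.2 3]
    · exact (show ∀ i j : Fin 2, ![(2 : Fin 4), 3] i = ![2, 3] j → i = j by decide) i j
        (x.1.injective (congrArg Subtype.val h))
    · rintro ⟨x, hx⟩ ⟨y, hy⟩ h
      simp only [Prod.mk.injEq, Subtype.mk.injEq] at h
      obtain ⟨h0, h2⟩ := h
      have hs : ∀ i, x (![2, 3] i) = y (![2, 3] i) := fun i => congrArg Subtype.val (DFunLike.congr_fun h2 i)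
      refine Subtype.ext (Function.Embedding.ext fun i => ?_)
      fin_cases i
      exacts [h0, ((hx 0).symm.trans ((congrArg t h0).trans (hy 0))), hs 0, hs 1]
    · rintro ⟨⟨a, ha⟩, z⟩
      rw [mem_mv] at ha
      have hz : ∀ i, t (z i : α) = z i := fun i => mem_fx.mp (z i).2
      have hz01 : (z 0 : α) ≠ z 1 := fun h => absurd (z.injective (Subtype.ext h)) (by decide)
      refine ⟨⟨⟨![a, t a, z 0, z 1], ?_⟩, ?_⟩, ?_⟩
      · intro i j h
        have := hz 0; have := hz 1
        fin_cases i <;> fin_cases j <;> first | rfl | (simp at h ⊢ <;> grind) | grind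
      · intro i
        fin_cases i <;> first | rfl | exact hinv _ | exact hz _
      · refine Prod.ext (Subtype.ext rfl) (Function.Embedding.ext fun i => Subtype.ext ?_)
        fin_cases i <;> rfl
  rw [Fintype.card_congr e, Fintype.card_prod, Fintype.card_embedding_eq, Fintype.card_fin,
    Fintype.card_coe, Fintype.card_coe]

theorem fx_lt (hG : Sharp G k) (t : Invols G) : (Fx t.1).card < k := by
  by_contra h
  obtain ⟨x⟩ : Nonempty (Fin k ↪ Fx t.1) :=
    Function.Embedding.nonempty_of_card_le (by rw [Fintype.card_fin, Fintype.card_coe]; omega)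
  exact t.2.2.2 (eq_of_agree hG t.2.1 (one_mem G) (x.trans (Function.Embedding.subtype _))
    fun i => mem_fx.mp (x i).2)

theorem four (hG : Sharp G 4) (hn : 7 ≤ Fintype.card α) : Fintype.card α = 11 := by
  have hall : ∀ t : Invols G, Nonempty (Fib (k := 4) ![1, 0, 3, 2] t.1) := fun t => by
    rw [← Fintype.card_pos_iff, fib_four_double t.1 t.2.2.1]
    have := fx_lt hG t
    have := mv_add_fx t.1
    exact Nat.mul_pos (by omega) (by omega)
  obtain ⟨x⟩ : Nonempty (Fin 4 ↪ α) := Function.Embedding.nonempty_of_card_le (by rw [Fintype.card_fin]; omega)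
  obtain ⟨t, ht⟩ := exists_invol hG ![1, 0, 2, 3] (by decide) ⟨0, by decide⟩ x
  have h2 : 2 ≤ (Fx t.1).card := by
    rw [← card_pair (show x 2 ≠ x 3 from x.injective.ne (by decide))]
    exact card_le_card (insert_subset (mem_fx.mpr (ht 2)) (singleton_subset_iff.mpr (mem_fx.mpr (ht 3))))
  have heq := card_fib_eq hG ![1, 0, 3, 2] ![1, 0, 2, 3] (by decide) ⟨0, by decide⟩ (by decide) ⟨0, by decide⟩ hall t
  rw [fib_four_double t.1 t.2.2.1, fib_four_single t.1 t.2.2.1] at heq
  have h3 := fx_lt hG t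
  have hsum := mv_add_fx t.1
  have heq' := Nat.eq_of_mul_eq_mul_left (by omega) heq
  rcases (by omega : (Fx t.1).card = 2 ∨ (Fx t.1).card = 3) with h | h <;>
    rw [h] at heq' hsum <;> norm_num [Nat.descFactorial] at heq' <;> omega

theorem fib_six_triple (t : Equiv.Perm α) (ht : t * t = 1) :
    Fintype.card (Fib (k := 6) ![1, 0, 3, 2, 5, 4] t) =
      (Mv t).card * (((Mv t).card - 2) * ((Mv t).card - 4)) := by
  have hinv : ∀ z, t (t z) = z := fun z => Equiv.congr_fun ht z
  let S := {q : α × α × α // q.1 ∈ Mv t ∧ q.2.1 ∈ Mv t \ {q.1, t q.1} ∧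
    q.2.2 ∈ Mv t \ {q.1, t q.1, q.2.1, t q.2.1}}
  have e : Fib (k := 6) ![1, 0, 3, 2, 5, 4] t ≃ S := by
    refine Equiv.ofBijective (fun x => ⟨(x.1 0, x.1 2, x.1 4), ?_⟩) ⟨?_, ?_⟩
    · have e0 : t (x.1 0) = x.1 1 := x.2 0
      have e2 : t (x.1 2) = x.1 3 := x.2 2
      have e4 : t (x.1 4) = x.1 5 := x.2 4
      simp only [mem_sdiff, mem_insert, mem_singleton, not_or, mem_mv, e0, e2, e4]
      refine ⟨?_, ⟨?_, ?_, ?_⟩, ?_, ?_, ?_, ?_, ?_⟩ <;> exact x.1.injective.ne (by decide)
    · rintro ⟨x, hx⟩ ⟨y, hy⟩ h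
      have h' := congrArg (fun q : S => q.1) h
      have h0 : x 0 = y 0 := congrArg (fun q : α × α × α => q.1) h'
      have h2 : x 2 = y 2 := congrArg (fun q : α × α × α => q.2.1) h'
      have h4 : x 4 = y 4 := congrArg (fun q : α × α × α => q.2.2) h'
      refine Subtype.ext (Function.Embedding.ext fun i => ?_)
      fin_cases i
      exacts [h0, (hx 0).symm.trans ((congrArg t h0).trans (hy 0)), h2,
        (hx 2).symm.trans ((congrArg t h2).trans (hy 2)), h4, (hx 4).symm.trans ((congrArg t h4).trans (hy 4))]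
    · rintro ⟨⟨a, c, e⟩, hq⟩
      simp only [mem_sdiff, mem_insert, mem_singleton, not_or, mem_mv] at hq
      refine ⟨⟨⟨![a, t a, c, t c, e, t e], ?_⟩, ?_⟩, rfl⟩
      · intro i j h
        have := hinv a; have := hinv c; have := hinv e
        fin_cases i <;> fin_cases j <;> first | rfl | (simp at h ⊢ <;> grind) | grind
      · intro i
        fin_cases i <;> first | rfl | exact hinv _
  let T := Σ a : Mv t, Σ c : (Mv t \ {(a : α), t a} : Finset α), (Mv t \ {(a : α), t a, (c : α), t c} : Finset α)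
  have e' : S ≃ T :=
    { toFun := fun q => ⟨⟨q.1.1, q.2.1⟩, ⟨q.1.2.1, q.2.2.1⟩, ⟨q.1.2.2, q.2.2.2⟩⟩
      invFun := fun r => ⟨(r.1.1, r.2.1.1, r.2.2.1), r.1.2, r.2.1.2, r.2.2.2⟩
      left_inv := fun _ => rfl
      right_inv := fun _ => rfl }
  rw [Fintype.card_congr (e.trans e')]
  simp only [T, Fintype.card_sigma, Fintype.card_coe]
  rw [sum_congr rfl fun a _ => ?_, sum_const, card_univ, Fintype.card_coe, smul_eq_mul]
  rw [sum_congr rfl fun c _ => card_minus_two ht a.2 c.2, sum_const, card_univ, Fintype.card_coe, smul_eq_mul,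
    card_minus_one a.2]

theorem fib_six_single (t : Equiv.Perm α) (ht : t * t = 1) :
    Fintype.card (Fib (k := 6) ![1, 0, 2, 3, 4, 5] t) = (Mv t).card * (Fx t).card.descFactorial 4 := by
  have hinv : ∀ z, t (t z) = z := fun z => Equiv.congr_fun ht z
  have e : Fib (k := 6) ![1, 0, 2, 3, 4, 5] t ≃ Mv t × (Fin 4 ↪ Fx t) := by
    refine Equiv.ofBijective (fun x => (⟨x.1 0, mem_mv.mpr fun h => ?_⟩,
      ⟨fun i => ⟨x.1 (![2, 3, 4, 5] i), mem_fx.mpr ?_⟩, fun i j h => ?_⟩)) ⟨?_, ?_⟩
    · exact absurd (x.1.injective (((x.2 0).symm.trans h) : x.1 1 = x.1 0)) (by decide)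
    · fin_cases i
      exacts [x.2 2, x.2 3, x.2 4, x.2 5]
    · exact (show ∀ i j : Fin 4, ![(2 : Fin 6), 3, 4, 5] i = ![2, 3, 4, 5] j → i = j by decide) i j
        (x.1.injective (congrArg Subtype.val h))
    · rintro ⟨x, hx⟩ ⟨y, hy⟩ h
      simp only [Prod.mk.injEq, Subtype.mk.injEq] at h
      obtain ⟨h0, h2⟩ := h
      have hs : ∀ i, x (![2, 3, 4, 5] i) = y (![2, 3, 4, 5] i) :=
        fun i => congrArg Subtype.val (DFunLike.congr_fun h2 i)
      refine Subtype.ext (Function.Embedding.ext fun i => ?_)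
      fin_cases i
      exacts [h0, ((hx 0).symm.trans ((congrArg t h0).trans (hy 0))), hs 0, hs 1, hs 2, hs 3]
    · rintro ⟨⟨a, ha⟩, z⟩
      rw [mem_mv] at ha
      have hz : ∀ i, t (z i : α) = z i := fun i => mem_fx.mp (z i).2
      have hzi : Function.Injective fun i => (z i : α) := Subtype.val_injective.comp z.injective
      refine ⟨⟨⟨Fin.cons a (Fin.cons (t a) fun i => (z i : α)), ?_⟩, ?_⟩, ?_⟩
      · rw [Fin.cons_injective_iff, Fin.cons_injective_iff]
        refine ⟨?_, ?_, hzi⟩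
        · rintro ⟨j, hj⟩
          revert hj
          refine Fin.cases ?_ (fun i => ?_) j
          · exact fun h => ha h
          · exact fun h => ha (by rw [← h]; exact hz i)
        · rintro ⟨i, hi⟩
          apply ha
          have := congrArg t hi
          rw [hz i, hinv] at this
          exact hi.symm.trans this
      · intro i
        fin_cases i
        exacts [rfl, hinv a, hz 0, hz 1, hz 2, hz 3]
      · refine Prod.ext (Subtype.ext rfl) (Function.Embedding.ext fun i => Subtype.ext ?_)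
        fin_cases i <;> rfl
  rw [Fintype.card_congr e, Fintype.card_prod, Fintype.card_embedding_eq, Fintype.card_fin,
    Fintype.card_coe, Fintype.card_coe]

theorem not_thirteen (hG : Sharp G 6) : Fintype.card α ≠ 13 := by
  intro hn
  have hall : ∀ t : Invols G, Nonempty (Fib (k := 6) ![1, 0, 3, 2, 5, 4] t.1) := fun t => by
    rw [← Fintype.card_pos_iff, fib_six_triple t.1 t.2.2.1]
    have := fx_lt hG t
    have := mv_add_fx t.1
    exact Nat.mul_pos (by omega) (Nat.mul_pos (by omega) (by omega))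
  obtain ⟨x⟩ : Nonempty (Fin 6 ↪ α) := Function.Embedding.nonempty_of_card_le (by rw [Fintype.card_fin]; omega)
  obtain ⟨t, ht⟩ := exists_invol hG ![1, 0, 2, 3, 4, 5] (by decide) ⟨0, by decide⟩ x
  have h4 : 4 ≤ (Fx t.1).card := by
    have hsub : (({2, 3, 4, 5} : Finset (Fin 6)).map x) ⊆ Fx t.1 := by
      intro z hz
      obtain ⟨i, hi, rfl⟩ := mem_map.mp hz
      simp only [mem_insert, mem_singleton] at hi
      rcases hi with rfl | rfl | rfl | rfl <;> exact mem_fx.mpr (ht _)
    exact le_trans (by rw [card_map]; decide) (card_le_card hsub)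
  have heq := card_fib_eq hG ![1, 0, 3, 2, 5, 4] ![1, 0, 2, 3, 4, 5] (by decide) ⟨0, by decide⟩ (by decide)
    ⟨0, by decide⟩ hall t
  rw [fib_six_triple t.1 t.2.2.1, fib_six_single t.1 t.2.2.1] at heq
  have h5 := fx_lt hG t
  have hsum := mv_add_fx t.1
  rcases (by omega : (Fx t.1).card = 4 ∨ (Fx t.1).card = 5) with h | h
  · rw [h, show (Mv t.1).card = 9 by omega] at heq; norm_num [Nat.descFactorial] at heq
  · rw [h, show (Mv t.1).card = 8 by omega] at heq; norm_num [Nat.descFactorial] at heq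

theorem degree_four {β : Type*} [Fintype β] [DecidableEq β] {H : Subgroup (Equiv.Perm β)}
    (hH : Sharp H 4) (h4 : 4 ≤ Fintype.card β) :
    Fintype.card β = 4 ∨ Fintype.card β = 5 ∨ Fintype.card β = 6 ∨ Fintype.card β = 11 := by
  rcases Nat.lt_or_ge (Fintype.card β) 7 with h | h
  · omega
  · exact Or.inr (Or.inr (Or.inr (four hH h)))

theorem degree_five {β : Type*} [Fintype β] [DecidableEq β] {H : Subgroup (Equiv.Perm β)}
    (hH : Sharp H 5) (h5 : 5 ≤ Fintype.card β) :
    Fintype.card β = 5 ∨ Fintype.card β = 6 ∨ Fintype.card β = 7 ∨ Fintype.card β = 12 := by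
  obtain ⟨a⟩ : Nonempty β := Fintype.card_pos_iff.mp (by omega)
  have h := degree_four (sharp_restrict hH a)
  rw [Fintype.card_subtype_compl, Fintype.card_subtype_eq] at h
  omega

theorem degree_large : ∀ (k : ℕ), 6 ≤ k → ∀ (β : Type u_1) [Fintype β] [DecidableEq β]
    (H : Subgroup (Equiv.Perm β)), Sharp H k → k ≤ Fintype.card β →
      Fintype.card β = k ∨ Fintype.card β = k + 1 ∨ Fintype.card β = k + 2 := by
  intro k hk
  induction k, hk using Nat.le_induction with
  | base =>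
    intro β _ _ H hH hn
    obtain ⟨a⟩ : Nonempty β := Fintype.card_pos_iff.mp (by omega)
    have h := degree_five (sharp_restrict hH a)
    have h13 := not_thirteen hH
    rw [Fintype.card_subtype_compl, Fintype.card_subtype_eq] at h
    omega
  | succ m hm ih =>
    intro β _ _ H hH hn
    obtain ⟨a⟩ : Nonempty β := Fintype.card_pos_iff.mp (by omega)
    have h := ih {b : β // b ≠ a} _ (sharp_restrict hH a)
    rw [Fintype.card_subtype_compl, Fintype.card_subtype_eq] at h
    omega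

end CfsgLib.SharpTrans
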