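import Cfsg.Agent.SmallSimple.Order7920Invol

/-!
# Elements of order three and the Sylow 3-normalisers in a simple group of order 7920
-/

set_option autoImplicit false
set_option linter.unusedSectionVars false
set_option maxHeartbeats 1000000
set_option linter.style.haveILetI false

namespace CfsgLib.Order7920Classes

open Finset CfsgLib.Char CfsgLib.ColumnData
open scoped ComplexConjugate

section General

theorem univ_three : (univ : Finset (ZMod 3)) = {0, 1, 2} := by decide

theorem sum_three {M : Type*} [AddCommMonoid M] (f : ZMod 3 → M) : ∑ b, f b = f 0 + (f 1 + f 2) := by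
  rw [univ_three, sum_insert (by decide +revert), sum_pair (by decide +revert)]

variable {G : Type*} [Group G] [Finite G]

/-- The values at an element of order three. -/
theorem value_three {u : G} (hu : orderOf u = 3) {χ : G → ℂ} (hχ : Cfsg.IsCharacter G χ) {d : ℕ}
    (hd : χ 1 = d) : ∃ r s : ℤ, χ u + conj (χ u) = r ∧ 3 ∣ 2 * (d : ℤ) - r ∧
      4 * (χ u * conj (χ u)) = ((r * r + 3 * (s * s) : ℤ) : ℂ) ∧ (conj (χ u) = χ u → 2 ∣ r) := by
  haveI : Fact (Nat.Prime 3) := ⟨Nat.prime_three⟩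
  obtain ⟨c, hc⟩ := exists_count hu hχ
  set w := ZMod.stdAddChar (1 : ZMod 3)
  set w' := ZMod.stdAddChar (2 : ZMod 3)
  have hsum : w + w' = -1 := by
    have h : ∑ j : ZMod 3, ZMod.stdAddChar j = 0 := by
      simpa using sum_stdAddChar (p := 3) (1 : ZMod 3)
    rw [sum_three, AddChar.map_zero_eq_one] at h
    linear_combination h
  have hmul : w * w' = 1 := by
    rw [← AddChar.map_add_eq_mul, show (1 : ZMod 3) + 2 = 0 from rfl, AddChar.map_zero_eq_one]
  have hconj : conj w = w' := by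
    rw [← AddChar.map_neg_eq_conj, show -(1 : ZMod 3) = 2 from rfl]
  have hconj' : conj w' = w := by rw [← hconj, Complex.conj_conj]
  have hd' : (d : ℤ) = c 0 + (c 1 + c 2) := by
    have h : (d : ℂ) = ((∑ b, c b : ℕ) : ℂ) := hd ▸ sum_count hu hc
    rw [Nat.cast_inj, sum_three] at h
    exact_mod_cast h
  have hval : χ u = c 0 + ((c 1 : ℂ) * w + c 2 * w') := by
    have h := hc 1
    rw [ZMod.val_one, pow_one] at h
    rw [h]
    simp only [mul_one]
    rw [sum_three, AddChar.map_zero_eq_one, mul_one]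
  have hre : χ u + conj (χ u) = ((2 * (c 0 : ℤ) - c 1 - c 2 : ℤ) : ℂ) := by
    rw [hval]
    simp only [map_add, map_mul, map_natCast, hconj, hconj']
    push_cast
    linear_combination ((c 1 : ℂ) + c 2) * hsum
  have habs : 4 * (χ u * conj (χ u)) = ((((2 * (c 0 : ℤ) - c 1 - c 2) * (2 * (c 0 : ℤ) - c 1 - c 2)) +
      3 * (((c 1 : ℤ) - c 2) * ((c 1 : ℤ) - c 2)) : ℤ) : ℂ) := by
    rw [hval]
    simp only [map_add, map_mul, map_natCast, hconj, hconj']
    push_cast
    linear_combination (4 * (c 0 : ℂ) * ((c 1 : ℂ) + c 2) + 4 * (c 1 : ℂ) * c 2 * (w + w' - 1)) * hsum +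
      4 * (((c 1 : ℂ) - c 2) ^ 2) * hmul
  refine ⟨_, _, hre, ⟨(c 1 + c 2 : ℤ), by omega⟩, habs, fun hreal => ?_⟩
  have hs : ((((c 1 : ℤ) - c 2) * ((c 1 : ℤ) - c 2) : ℤ) : ℂ) = 0 := by
    rw [hreal] at hre habs
    push_cast at hre habs ⊢
    linear_combination (-(1 : ℂ) / 3) * habs +
      ((1 : ℂ) / 3) * (2 * χ u + (2 * (c 0 : ℂ) - c 1 - c 2)) * hre
  have hs' : (c 1 : ℤ) - c 2 = 0 := mul_self_eq_zero.1 (by exact_mod_cast hs)
  omega

/-- A character alone of its degree is real. -/
theorem Nine.real {x y : G} {ℓ : Fin 9 → G → ℂ} (N : Nine x y ℓ) {i : Fin 9} (hi1 : deg i ≠ 1)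
    (hi : ∀ j, deg j = deg i → j = i) (g : G) : conj (ℓ i g) = ℓ i g := by
  classical
  set ψ : G → ℂ := fun g => conj (ℓ i g) with hψdef
  have hψ : ψ ∈ irrFinset G := mem_irrFinset.2 (IsIrrCharacter.conj (N.irr i))
  have h1 : ψ ≠ fun _ => (1 : ℂ) := fun h => by
    have h' := congrFun h 1
    rw [hψdef] at h'
    simp only [N.one, Complex.conj_natCast, Nat.cast_eq_one] at h'
    exact hi1 h'
  have h := N.sum (fun χ => if χ = ψ then 1 else 0)
  rw [Finset.sum_ite_eq' (irrFinset G) ψ (fun _ => (1 : ℂ)), if_pos hψ, if_neg h1.symm, zero_add] at h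
  obtain ⟨j, -, hj⟩ := Finset.exists_ne_zero_of_sum_ne_zero (h ▸ one_ne_zero : ∑ j, _ ≠ _)
  have hj' : ℓ j = ψ := by
    by_contra hne
    exact hj (if_neg hne)
  have hji : j = i := hi j (by
    have h' := congrFun hj' 1
    rw [hψdef] at h'
    simp only [N.one, Complex.conj_natCast, Nat.cast_inj] at h'
    exact h')
  subst hji
  exact (congrFun hj' g).symm

theorem add_mul_self_le (a b : ℤ) : (a + b) * (a + b) ≤ 2 * (a * a) + 2 * (b * b) := by
  nlinarith [mul_self_nonneg (a - b)]

set_option maxHeartbeats 4000000 in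
theorem three_of_eqs {r s : Fin 9 → ℤ} {c n₁ n₂ : ℕ} (hcs : c = 36 ∨ c = 72 ∨ c = 144)
    (hmod : ∀ i, 3 ∣ 2 * (deg i : ℤ) - r i) (h4 : 2 ∣ r 4) (h5 : 2 ∣ r 5)
    (e1 : 2 + ∑ i, r i * (deg i : ℤ) = 0) (e5 : 2 + ∑ i, r i * atFive i = 0)
    (e11 : 4 + ∑ i, r i * atEleven i = 0)
    (e2 : 2 + (-r 0 + 2 * r 1 - 2 * r 2 - 2 * r 3 - 3 * r 4 + 3 * r 5 + 4 * r 6) = 0)
    (enorm : 4 + ∑ i, (r i * r i + 3 * (s i * s i)) = 4 * (c : ℤ))
    (eN₁ : 32 * (n₁ : ℤ) =
      110 + r 0 + 22 * (r 1 + r 2 + r 3) + 11 * r 4 + 45 * r 5 + 20 * r 6)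
    (eN₂ : 2 * (c : ℤ) * n₂ = 15 * (22 + 3 * r 5 - r 6)) : False := by
  simp only [Fin.sum_univ_succ, Fin.sum_univ_zero, deg, atFive, atEleven] at e1 e5 e11 enorm
  simp at e1 e5 e11 enorm
  have hm4 := hmod 4
  have hm5 := hmod 5
  simp [deg] at hm4 hm5
  obtain ⟨i, hi⟩ : ∃ i, r 4 = 6 * i := ⟨r 4 / 6, by omega⟩
  obtain ⟨j, hj⟩ : ∃ j, r 5 = 6 * j + 4 := ⟨r 5 / 6, by omega⟩
  obtain ⟨k, hk⟩ : ∃ k, r 7 + r 8 = 4 * k := ⟨(r 7 + r 8) / 4, by omega⟩
  have h0 : r 0 = -(6 * i) - (6 * j + 4) - 4 * k - 2 := by omega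
  have h1 : r 1 = 6 * i - 2 * (6 * j + 4) - 6 * k - 2 := by omega
  have h23 : r 2 + r 3 = 6 * i - 2 * k + 2 - (6 * i - 2 * (6 * j + 4) - 6 * k - 2) := by omega
  have h6 : r 6 = 6 * j + 4 + 4 * k + 2 := by omega
  have hN₁ : 0 ≤ 24 + 4 * (6 * i) + 8 * (6 * j + 4) + 4 * k := by omega
  have hN₂ : (c : ℤ) * n₂ = 15 * (10 + (6 * j + 4) - 2 * k) := by
    have : 2 * ((c : ℤ) * n₂) = 2 * (15 * (10 + (6 * j + 4) - 2 * k)) := by
      rw [← mul_assoc, eN₂, hj, h6]; ring
    linarith
  have hN₂0 : 0 ≤ 10 + (6 * j + 4) - 2 * k := by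
    have : (0 : ℤ) ≤ (c : ℤ) * n₂ := mul_nonneg (Int.natCast_nonneg _) (Int.natCast_nonneg _)
    linarith
  have hc144 : (c : ℤ) ≤ 144 := by rcases hcs with rfl | rfl | rfl <;> norm_num
  have sq0 := mul_self_nonneg (r 0)
  have sq1 := mul_self_nonneg (r 1)
  have sq2 := mul_self_nonneg (r 2)
  have sq3 := mul_self_nonneg (r 3)
  have sq4 := mul_self_nonneg (r 4)
  have sq5 := mul_self_nonneg (r 5)
  have sq6 := mul_self_nonneg (r 6)
  have sq7 := mul_self_nonneg (r 7)
  have sq8 := mul_self_nonneg (r 8)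
  have hs : ∀ i, 0 ≤ s i * s i := fun i => mul_self_nonneg _
  have t0 := hs 0
  have t1 := hs 1
  have t2 := hs 2
  have t3 := hs 3
  have t4 := hs 4
  have t5 := hs 5
  have t6 := hs 6
  have t7 := hs 7
  have t8 := hs 8
  have b4 := bounds_of_mul_self_le (z := r 4) (n := 24) (by push_cast; linarith)
  have b5 := bounds_of_mul_self_le (z := r 5) (n := 24) (by push_cast; linarith)
  have b7 := bounds_of_mul_self_le (z := r 7) (n := 24) (by push_cast; linarith)
  have b8 := bounds_of_mul_self_le (z := r 8) (n := 24) (by push_cast; linarith)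
  push_cast at b4 b5 b7 b8
  have d23 := add_mul_self_le (r 2) (r 3)
  have d78 := add_mul_self_le (r 7) (r 8)
  rw [h23] at d23
  rw [hk] at d78
  rw [h0] at enorm sq0
  rw [h1] at enorm sq1
  rw [h6] at enorm sq6
  rw [hi] at enorm sq4
  rw [hj] at enorm sq5
  refine three_column (c := (c : ℤ)) (i := i) (j := j) (k := k) (by omega) ?_ ?_ ?_ hN₁ hN₂0 ⟨_, hN₂.symm⟩ ?_
  · constructor <;> linarith
  · constructor <;> linarith
  · constructor <;> linarith
  · linarith

end General

variable {G : Type*} [Group G] [Finite G] [IsSimpleGroup G] (hG : Nat.card G = 7920)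
include hG

/-- No element of order three has a centraliser of order 36, 72 or 144. -/
theorem three_centralizer_ne {u : G} (hu : orderOf u = 3) :
    ¬ (Nat.card (Subgroup.centralizer ({u} : Set G)) = 36 ∨
      Nat.card (Subgroup.centralizer ({u} : Set G)) = 72 ∨
      Nat.card (Subgroup.centralizer ({u} : Set G)) = 144) := by
  classical
  haveI := Fintype.ofFinite G
  haveI : Fact (Nat.Prime 11) := ⟨by norm_num⟩
  haveI : Fact (Nat.Prime 5) := ⟨by norm_num⟩
  haveI : Fact (Nat.Prime 2) := ⟨Nat.prime_two⟩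
  intro hcs
  obtain ⟨x, hx⟩ := exists_prime_orderOf_dvd_card' 11 (show 11 ∣ Nat.card G by rw [hG]; norm_num)
  obtain ⟨y, hy⟩ := exists_prime_orderOf_dvd_card' 5 (show 5 ∣ Nat.card G by rw [hG]; norm_num)
  obtain ⟨t, ht⟩ := exists_prime_orderOf_dvd_card' 2 (show 2 ∣ Nat.card G by rw [hG]; norm_num)
  obtain ⟨hct, ℓ, N, hT⟩ := exists_invol hG hx hy ht
  choose r s hr hmod habs hreal using fun i => value_three hu (IsIrrCharacter.isCharacter (N.irr i)) (N.one i)
  set c := Nat.card (Subgroup.centralizer ({u} : Set G)) with hcdef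
  have hu1 : orderOf u ≠ orderOf (1 : G) := by rw [hu, orderOf_one]; norm_num
  have huy : orderOf u ≠ orderOf y := by rw [hu, hy]; norm_num
  have hut : orderOf u ≠ orderOf t := by rw [hu, ht]; norm_num
  have hux : orderOf u ≠ orderOf x := by rw [hu, hx]; norm_num
  -- the relation with a column of integers
  have hcol : ∀ g : G, orderOf u ≠ orderOf g → ∀ m : Fin 9 → ℤ, (∀ i, ℓ i g = m i) →
      2 + ∑ i, r i * m i = 0 := by
    intro g hg m hm
    have h := N.col_ne hg
    simp only [hm, map_intCast] at h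
    have h' := congrArg (starRingEnd ℂ) h
    simp only [map_add, map_sum, map_mul, map_intCast, map_one, map_zero] at h'
    have hsum : ∑ i, ℓ i u * (m i : ℂ) + ∑ i, conj (ℓ i u) * (m i : ℂ) =
        ∑ i, (r i : ℂ) * (m i : ℂ) := by
      rw [← Finset.sum_add_distrib]
      refine Finset.sum_congr rfl fun i _ => ?_
      rw [← hr i]
      ring
    have : ((2 + ∑ i, r i * m i : ℤ) : ℂ) = 0 := by
      push_cast
      linear_combination h + h' - hsum
    exact_mod_cast this
  have e1 := hcol 1 hu1 (fun i => (deg i : ℤ)) fun i => by rw [N.one, Int.cast_natCast]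
  have e5 := hcol y huy atFive N.five
  have e2 := hcol t hut _ hT
  have e11 : 4 + ∑ i, r i * atEleven i = 0 := by
    have h := N.col_ne hux
    have h0 := N.col_ne (show orderOf u ≠ orderOf x⁻¹ by rwa [orderOf_inv])
    simp only [fun i => IsIrrCharacter.apply_inv (N.irr i) x, Complex.conj_conj] at h0
    have h' := congrArg (starRingEnd ℂ) h
    have h0' := congrArg (starRingEnd ℂ) h0
    simp only [map_add, map_sum, map_mul, Complex.conj_conj, map_one, map_zero] at h' h0'
    have hsum : (∑ i, ℓ i u * conj (ℓ i x) + ∑ i, ℓ i u * ℓ i x) +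
        (∑ i, conj (ℓ i u) * ℓ i x + ∑ i, conj (ℓ i u) * conj (ℓ i x)) =
        ∑ i, (r i : ℂ) * (atEleven i : ℂ) := by
      simp only [← Finset.sum_add_distrib]
      refine Finset.sum_congr rfl fun i _ => ?_
      rw [← hr i, ← N.eleven i]
      ring
    have : ((4 + ∑ i, r i * atEleven i : ℤ) : ℂ) = 0 := by
      push_cast
      linear_combination h + h0 + h' + h0' - hsum
    exact_mod_cast this
  have enorm : 4 + ∑ i, (r i * r i + 3 * (s i * s i)) = 4 * (c : ℤ) := by
    have h := N.col_self u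
    rw [← hcdef] at h
    have : ((4 + ∑ i, (r i * r i + 3 * (s i * s i)) : ℤ) : ℂ) = ((4 * (c : ℤ) : ℤ) : ℂ) := by
      rw [Int.cast_add, Int.cast_sum, ← Finset.sum_congr rfl (fun i _ => habs i), ← Finset.mul_sum]
      push_cast
      linear_combination 4 * h
    exact_mod_cast this
  -- the class sizes
  have hkt : Nat.card {z : G // IsConj t z} = 165 := by
    have h := card_conj_class_mul_card_centralizer t
    rw [hct, hG] at h
    omega
  have hku : Nat.card {z : G // IsConj u z} * c = 7920 := by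
    rw [hcdef, card_conj_class_mul_card_centralizer, hG]
  -- counting products
  set n₁ := Nat.card {p : G × G // IsConj t p.1 ∧ IsConj t p.2 ∧ p.1 * p.2 = u}
  set n₂ := Nat.card {p : G × G // IsConj t p.1 ∧ IsConj u p.2 ∧ p.1 * p.2 = y}
  have eN₁ : 32 * (n₁ : ℤ) =
      110 + r 0 + 22 * (r 1 + r 2 + r 3) + 11 * r 4 + 45 * r 5 + 20 * r 6 := by
    have h : (n₁ : ℂ) = _ := card_class_products t t u
    rw [hkt, hG, N.sum] at h
    simp only [hT, N.one, map_one, one_mul, div_one] at h
    have h' := congrArg (starRingEnd ℂ) h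
    simp only [map_add, map_sum, map_div₀, map_mul, map_intCast, map_natCast, Complex.conj_conj,
      map_one] at h'
    have hr' : ∀ i, (r i : ℂ) = ℓ i u + conj (ℓ i u) := fun i => (hr i).symm
    simp only [Fin.sum_univ_succ, Fin.sum_univ_zero, deg] at h h'
    simp at h h'
    have : ((32 * (n₁ : ℤ) : ℤ) : ℂ) =
        ((110 + r 0 + 22 * (r 1 + r 2 + r 3) + 11 * r 4 + 45 * r 5 + 20 * r 6 : ℤ) : ℂ) := by
      push_cast
      simp only [hr']
      linear_combination 16 * h + 16 * h'
    exact_mod_cast this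
  have eN₂ : 2 * (c : ℤ) * n₂ = 15 * (22 + 3 * r 5 - r 6) := by
    have h : (n₂ : ℂ) = _ := card_class_products t u y
    have hc0 : (c : ℂ) ≠ 0 := Nat.cast_ne_zero.2 Nat.card_pos.ne'
    have hku' : (Nat.card {z : G // IsConj u z} : ℂ) = 7920 / c := by
      rw [eq_div_iff hc0]
      exact_mod_cast hku
    rw [hkt, hku', hG, N.sum] at h
    simp only [hT, N.one, N.five, map_intCast, map_one, one_mul, div_one] at h
    have hr' : ∀ i, (r i : ℂ) = ℓ i u + conj (ℓ i u) := fun i => (hr i).symm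
    simp only [Fin.sum_univ_succ, Fin.sum_univ_zero, deg, atFive] at h
    simp at h
    have h2 : (c : ℂ) * n₂ = 15 * (11 + 3 * ℓ 5 u - ℓ 6 u) := by
      rw [h]
      field_simp
      ring
    have h2' := congrArg (starRingEnd ℂ) h2
    simp only [map_add, map_sub, map_mul, map_natCast, map_ofNat] at h2'
    have : ((2 * (c : ℤ) * n₂ : ℤ) : ℂ) = ((15 * (22 + 3 * r 5 - r 6) : ℤ) : ℂ) := by
      push_cast
      simp only [hr']
      linear_combination h2 + h2'
    exact_mod_cast this
  refine three_of_eqs hcs hmod (hreal 4 (N.real (by decide) (by decide) u))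
    (hreal 5 (N.real (by decide) (by decide) u)) e1 e5 e11 ?_ enorm eN₁ eN₂
  simp [Fin.sum_univ_succ] at e2
  linarith

/-- Centralisers of elements of order three have order at most 18 once they contain a Sylow subgroup. -/
theorem three_centralizer {u : G} (hu : orderOf u = 3)
    (h9 : 9 ∣ Nat.card (Subgroup.centralizer ({u} : Set G))) :
    Nat.card (Subgroup.centralizer ({u} : Set G)) ≤ 18 := by
  have hne := three_centralizer_ne hG hu
  have hd := centralizer_dvd hG Nat.prime_three hu (by norm_num) (by norm_num)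
  obtain ⟨m, hm⟩ := h9
  rw [hm] at hd hne ⊢
  have hm16 : m ∈ Nat.divisors 16 :=
    Nat.mem_divisors.2 ⟨(Nat.mul_dvd_mul_iff_left (by norm_num : 0 < 9)).1 hd, by norm_num⟩
  rw [show Nat.divisors 16 = {1, 2, 4, 8, 16} from by decide] at hm16
  simp only [Finset.mem_insert, Finset.mem_singleton] at hm16
  omega

theorem card_sylow_three (P : Sylow 3 G) : Nat.card (P : Subgroup G) = 9 := by
  haveI : Fact (Nat.Prime 3) := ⟨Nat.prime_three⟩
  exact (CfsgLib.SmallSimple.card_sylow_eq P (k := 2) (m := 880) (by rw [hG]; norm_num) (by norm_num)).trans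
    (by norm_num)

/-- Two Sylow 3-subgroups sharing a nontrivial element coincide. -/
theorem sylow_three_inter (P Q : Sylow 3 G) (h : (P : Subgroup G) ⊓ Q ≠ ⊥) : P = Q := by
  haveI : Fact (Nat.Prime 3) := ⟨Nat.prime_three⟩
  have hdvd : 3 ∣ Nat.card ((P : Subgroup G) ⊓ (Q : Subgroup G) : Subgroup G) := by
    obtain ⟨k, hk⟩ := IsPGroup.iff_card.1 (P.isPGroup'.to_le inf_le_left)
    rw [hk]
    refine dvd_pow_self 3 fun hk0 => h (Subgroup.card_eq_one.1 ?_)
    rw [hk, hk0, pow_zero]
  obtain ⟨v, hv, hu⟩ := CfsgLib.Order7920.exists_orderOf_mem hdvd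
  have hle : ∀ R : Sylow 3 G, v ∈ (R : Subgroup G) → (R : Subgroup G) ≤ Subgroup.centralizer {v} := by
    intro R hvR g hg
    have hcomm := (IsPGroup.isMulCommutative_of_card_eq_prime_sq (p := 3)
      ((card_sylow_three hG R).trans (by norm_num))).is_comm.comm ⟨g, hg⟩ ⟨v, hvR⟩
    exact Subgroup.mem_centralizer_singleton_iff.2 (congrArg Subtype.val hcomm)
  have hP := hle P hv.1
  have hQ := hle Q hv.2
  have hC := three_centralizer hG hu (card_sylow_three hG P ▸ Subgroup.card_dvd_of_le hP)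
  set C := Subgroup.centralizer ({v} : Set G)
  have h1 : (Q : Subgroup G).relIndex C * 9 = Nat.card C := by
    rw [← card_sylow_three hG Q, mul_comm]
    have := Subgroup.relIndex_mul_relIndex ⊥ (Q : Subgroup G) C bot_le hQ
    simpa [Subgroup.relIndex_bot_left] using this
  have h2 : (Q : Subgroup G).relIndex (P : Subgroup G) ≤ (Q : Subgroup G).relIndex C :=
    Subgroup.relIndex_le_of_le_right hP (fun h0 => by
      have := Nat.card_pos (α := C)
      omega)
  have h3 : (Q : Subgroup G).relIndex (P : Subgroup G) ∣ 9 :=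
    card_sylow_three hG P ▸ Subgroup.relIndex_dvd_card _ _
  have h4 : (Q : Subgroup G).relIndex (P : Subgroup G) ≤ 2 := by omega
  have h5 : (Q : Subgroup G).relIndex (P : Subgroup G) = 1 := by
    set z := (Q : Subgroup G).relIndex (P : Subgroup G)
    interval_cases z <;> omega
  exact Sylow.ext (Subgroup.eq_of_le_of_card_ge (Subgroup.relIndex_eq_one.1 h5)
    (by rw [card_sylow_three hG P, card_sylow_three hG Q]))

/-- No element of order eleven normalises a Sylow 3-subgroup. -/
theorem eleven_not_dvd_normalizer (P : Sylow 3 G) :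
    ¬ 11 ∣ Nat.card (Subgroup.normalizer ((P : Subgroup G) : Set G)) := by
  classical
  intro h
  haveI : Fact (Nat.Prime 11) := ⟨by norm_num⟩
  haveI : Fact (Nat.Prime 3) := ⟨Nat.prime_three⟩
  obtain ⟨x, hxN, hx⟩ := CfsgLib.Order7920.exists_orderOf_mem h
  haveI := Fintype.ofFinite (P : Subgroup G)
  obtain ⟨v, hv, hvo⟩ := CfsgLib.Order7920.exists_orderOf_mem (p := 3) (H := (P : Subgroup G))
    (by rw [card_sylow_three hG P]; norm_num)
  have hmem : ∀ n : ℕ, x ^ n * v * (x ^ n)⁻¹ ∈ (P : Subgroup G) := fun n =>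
    (Subgroup.mem_normalizer_iff.1 (pow_mem hxN n) v).1 hv
  obtain ⟨a, ha, b, hb, hab, hfab⟩ := Finset.exists_ne_map_eq_of_card_lt_of_maps_to
    (s := Finset.range 11) (t := (Finset.univ : Finset (P : Subgroup G)))
    (by rw [Finset.card_univ, ← Nat.card_eq_fintype_card, card_sylow_three hG P, Finset.card_range]; norm_num)
    (f := fun n => (⟨x ^ n * v * (x ^ n)⁻¹, hmem n⟩ : (P : Subgroup G))) (fun _ _ => Finset.mem_univ _)
  rw [Finset.mem_range] at ha hb
  have hxab : ∀ {a b : ℕ}, a < b → b < 11 → x ^ a * v * (x ^ a)⁻¹ = x ^ b * v * (x ^ b)⁻¹ → False := by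
    intro a b hlt hb11 he
    obtain ⟨e, rfl⟩ := Nat.exists_eq_add_of_lt hlt
    rw [add_assoc, pow_add] at he
    have h' : x ^ (e + 1) * v = v * x ^ (e + 1) := by
      have h'' : v = x ^ (e + 1) * v * (x ^ (e + 1))⁻¹ := by
        have := congrArg (fun z => (x ^ a)⁻¹ * z * x ^ a) he
        simpa [mul_assoc] using this
      conv_rhs => rw [h'']
      group
    have hz : x ∈ Subgroup.centralizer ({v} : Set G) := by
      have hmemC : x ^ (e + 1) ∈ Subgroup.centralizer ({v} : Set G) :=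
        Subgroup.mem_centralizer_singleton_iff.2 h'
      have hcop : Nat.Coprime (e + 1) (orderOf x) := by
        rw [hx, Nat.coprime_comm, Nat.Prime.coprime_iff_not_dvd (by norm_num)]
        intro hd
        have := Nat.le_of_dvd (by omega) hd
        omega
      obtain ⟨k, hk⟩ := exists_pow_eq_self_of_coprime hcop
      rw [← hk]
      exact pow_mem hmemC k
    have hv' : v ∈ Subgroup.centralizer ({x} : Set G) :=
      Subgroup.mem_centralizer_singleton_iff.2 (Subgroup.mem_centralizer_singleton_iff.1 hz).symm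
    have hd := hvo ▸ CfsgLib.Order7920.orderOf_mem_dvd hv'
    rw [(CfsgLib.Order7920.eleven hG hx).1] at hd
    norm_num at hd
  rcases Nat.lt_or_gt_of_ne hab with hlt | hlt
  · exact hxab hlt hb (congrArg Subtype.val hfab)
  · exact hxab hlt ha (congrArg Subtype.val hfab).symm

/-- Sylow 3-normalisers have order 144. -/
theorem card_normalizer_three (P : Sylow 3 G) :
    Nat.card (Subgroup.normalizer ((P : Subgroup G) : Set G)) = 144 := by
  classical
  haveI : Fact (Nat.Prime 3) := ⟨Nat.prime_three⟩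
  have hP := card_sylow_three hG P
  -- the other Sylow subgroups fall into regular orbits
  let X : SubMulAction (P : Subgroup G) (Sylow 3 G) :=
    { carrier := {Q | Q ≠ P}
      smul_mem' := fun g Q hQ hgQ => hQ (by
        have h1 : (g : G) • Q = P := hgQ
        have h2 : (g : G) • P = P := Sylow.smul_eq_iff_mem_normalizer.2 (Subgroup.le_normalizer g.2)
        exact MulAction.injective (g : G) (h1.trans h2.symm)) }
  have hfree : ∀ Q : X, MulAction.stabilizer (P : Subgroup G) Q = ⊥ := by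
    intro Q
    refine (Subgroup.eq_bot_iff_forall _).2 fun g hg => ?_
    have hgQ : (g : G) • (Q : Sylow 3 G) = Q := congrArg Subtype.val hg
    have hgQ' : (g : G) ∈ (P : Subgroup G) ⊓ ((Q : Sylow 3 G) : Subgroup G) := by
      refine ⟨g.2, ?_⟩
      have hpow : (g : G) ^ 3 ^ 2 = 1 := by
        rw [← Subgroup.coe_pow, show 3 ^ 2 = Nat.card (P : Subgroup G) by rw [hP]; norm_num, pow_card_eq_one',
          Subgroup.coe_one]
      exact CfsgLib.SmallSimple.mem_sylow_of_smul_eq hpow _ hgQ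
    by_contra hg1
    refine Q.2 (sylow_three_inter hG P (Q : Sylow 3 G) ?_).symm
    intro hbot
    rw [hbot, Subgroup.mem_bot] at hgQ'
    exact hg1 (Subtype.ext hgQ')
  have hX := Nat.card_congr (MulAction.selfEquivOrbitsQuotientProd hfree)
  rw [Nat.card_prod, hP] at hX
  have hcount : Nat.card (Sylow 3 G) = Nat.card X + 1 := by
    haveI := Fintype.ofFinite (Sylow 3 G)
    have hpos : 0 < Fintype.card (Sylow 3 G) := Fintype.card_pos
    have hX' : Nat.card X = Nat.card {Q : Sylow 3 G // Q ≠ P} := rfl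
    rw [hX', Nat.card_eq_fintype_card, Nat.card_eq_fintype_card, Fintype.card_subtype_compl,
      Fintype.card_subtype_eq]
    omega
  have hidx := (Subgroup.normalizer ((P : Subgroup G) : Set G)).card_mul_index
  rw [hG] at hidx
  have hk : (Subgroup.normalizer ((P : Subgroup G) : Set G)).index % 9 = 1 := by
    have h : Nat.card (Sylow 3 G) = (Subgroup.normalizer ((P : Subgroup G) : Set G)).index :=
      P.card_eq_index_normalizer
    rw [← h, hcount, hX]
    omega
  obtain ⟨m, hm⟩ : 9 ∣ Nat.card (Subgroup.normalizer ((P : Subgroup G) : Set G)) :=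
    hP ▸ Subgroup.card_dvd_of_le Subgroup.le_normalizer
  set k := (Subgroup.normalizer ((P : Subgroup G) : Set G)).index
  rw [hm] at hidx ⊢
  have h11 : ¬ 11 ∣ m := fun h => eleven_not_dvd_normalizer hG P (by rw [hm]; exact h.mul_left 9)
  have hkm : k * m = 880 := by linarith
  have hk11 : 11 ∣ k := ((Nat.Prime.dvd_mul (by norm_num)).1 (hkm ▸ (by norm_num : 11 ∣ 880))).resolve_right h11
  have hkd : k ∈ Nat.divisors 880 := Nat.mem_divisors.2 ⟨⟨m, hkm.symm⟩, by norm_num⟩
  have hk55 : k = 55 := (show ∀ k ∈ Nat.divisors 880, k % 9 = 1 → 11 ∣ k → k = 55 by decide +kernel) k hkd hk hk11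
  rw [hk55] at hkm
  omega

end CfsgLib.Order7920Classes
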