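import Mathlib.Tactic

/-!
# The finite checks behind two further columns for a simple group of order 7920
-/

set_option autoImplicit false

namespace CfsgLib.Order7920Classes

/-- The integers `-o, ..., n - o - 1`. -/
def range' (n o : ℕ) : List ℤ := (List.range n).map fun k : ℕ => (k : ℤ) - (o : ℤ)

theorem mem_range' {n o : ℕ} {z : ℤ} (h1 : -(o : ℤ) ≤ z) (h2 : z < (n : ℤ) - o) : z ∈ range' n o :=
  by
  refine List.mem_map.2 ⟨(z + o).toNat, List.mem_range.2 ?_, ?_⟩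
  · omega
  · omega

/-- The column of an involution. -/
def invCheck : Bool :=
  (range' 12 6).all fun i => (range' 11 5).all fun g => (range' 11 5).all fun h =>
    !decide ((360 + 8 * (2 * i + 1) * (2 * i + 1) - 45 * (g * g + h * h)) % 144 = 0 ∧
        0 ≤ 360 + 8 * (2 * i + 1) * (2 * i + 1) - 45 * (g * g + h * h)) ||
    (let a : ℤ := 2 * i + 1
     let P : ℤ := (360 + 8 * a * a - 45 * (g * g + h * h)) / 144
     (range' 12 6).all fun j =>
      let b : ℤ := 2 * j + 1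
      let v44 : ℤ := b + 2 * (g + h) + 1
      let v55 : ℤ := -1 - a - b - 2 * (g + h)
      let c : ℤ := 1 + v55 * v55 + 4 * P + a * a + b * b + v44 * v44 + 4 * (g * g + h * h)
      !decide ((a - (g + h) + 1) % 2 = 0 ∧ 144 % c = 0) ||
        (range' 11 5).all fun p => (range' 11 5).all fun q =>
          let s : ℤ := (a - (g + h) + 1) / 2 - p - q
          !decide (p * p + q * q + s * s = P) ||
            decide (c = 48 ∧ a = -3 ∧ b = 3 ∧ g = 0 ∧ h = 0 ∧ ((p = 1 ∧ q = -1 ∧ s = -1) ∨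
              (p = -1 ∧ q = 1 ∧ s = -1) ∨ (p = -1 ∧ q = -1 ∧ s = 1))))

theorem invCheck_true : invCheck = true := by decide +kernel

theorem inv_column {i j g h p q s : ℤ} {c : ℤ} (hi : -6 ≤ i ∧ i < 6) (hj : -6 ≤ j ∧ j < 6)
    (hg : -5 ≤ g ∧ g < 6) (hh : -5 ≤ h ∧ h < 6) (hp : -5 ≤ p ∧ p < 6) (hq : -5 ≤ q ∧ q < 6)
    (hT : 2 * (p + q + s) = 2 * i + 1 - (g + h) + 1)
    (hX : 144 * (p * p + q * q + s * s) + 45 * (g * g + h * h) = 360 + 8 * (2 * i + 1) * (2 * i + 1))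
    (hc : c = 1 + (-1 - (2 * i + 1) - (2 * j + 1) - 2 * (g + h)) * (-1 - (2 * i + 1) - (2 * j + 1) - 2 * (g + h))
      + 4 * (p * p + q * q + s * s) + (2 * i + 1) * (2 * i + 1) + (2 * j + 1) * (2 * j + 1)
      + (2 * j + 1 + 2 * (g + h) + 1) * (2 * j + 1 + 2 * (g + h) + 1) + 4 * (g * g + h * h))
    (hdvd : c ∣ 144) :
    c = 48 ∧ 2 * i + 1 = -3 ∧ 2 * j + 1 = 3 ∧ g = 0 ∧ h = 0 ∧ ((p = 1 ∧ q = -1 ∧ s = -1) ∨
      (p = -1 ∧ q = 1 ∧ s = -1) ∨ (p = -1 ∧ q = -1 ∧ s = 1)) := by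
  have hall := invCheck_true
  simp only [invCheck, List.all_eq_true, Bool.or_eq_true, Bool.not_eq_true', decide_eq_false_iff_not,
    decide_eq_true_eq] at hall
  have hS : 0 ≤ p * p + q * q + s * s := by nlinarith [mul_self_nonneg p, mul_self_nonneg q, mul_self_nonneg s]
  have hP : (360 + 8 * (2 * i + 1) * (2 * i + 1) - 45 * (g * g + h * h)) / 144 =
      p * p + q * q + s * s := by omega
  have h1 := ((hall i (mem_range' (by omega) (by omega)) g (mem_range' (by omega) (by omega)) h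
    (mem_range' (by omega) (by omega))).resolve_left (not_not.2 ⟨by omega, by omega⟩)) j
    (mem_range' (by omega) (by omega))
  rw [hP, ← hc] at h1
  have h2 := (h1.resolve_left (not_not.2 ⟨by omega, Int.emod_eq_zero_of_dvd hdvd⟩)) p
    (mem_range' (by omega) (by omega)) q (mem_range' (by omega) (by omega))
  have hs : (2 * i + 1 - (g + h) + 1) / 2 - p - q = s := by omega
  rw [hs] at h2
  exact h2.resolve_left (not_not.2 rfl)

/-- The column of an element of order three. -/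
def threeCheck : Bool :=
  [36, 72, 144].all fun c : ℤ => (range' 7 3).all fun i => (range' 8 4).all fun j => (range' 23 11).all fun k =>
    let a : ℤ := 6 * i
    let b : ℤ := 6 * j + 4
    !decide (0 ≤ 24 + 4 * a + 8 * b + 4 * k ∧ 0 ≤ 10 + b - 2 * k ∧ (15 * (10 + b - 2 * k)) % c = 0) ||
      !decide (2 * (-a - b - 4 * k - 2) * (-a - b - 4 * k - 2) +
        2 * (a - 2 * b - 6 * k - 2) * (a - 2 * b - 6 * k - 2) +
        (a - 2 * k + 2 - (a - 2 * b - 6 * k - 2)) * (a - 2 * k + 2 - (a - 2 * b - 6 * k - 2)) +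
        2 * a * a + 2 * b * b + 2 * (b + 4 * k + 2) * (b + 4 * k + 2) + 16 * k * k ≤ 8 * (c - 1))

theorem threeCheck_true : threeCheck = true := by decide +kernel

theorem three_column {c i j k : ℤ} (hc : c = 36 ∨ c = 72 ∨ c = 144) (hi : -3 ≤ i ∧ i < 4)
    (hj : -4 ≤ j ∧ j < 4) (hk : -11 ≤ k ∧ k < 12)
    (hN₁ : 0 ≤ 24 + 4 * (6 * i) + 8 * (6 * j + 4) + 4 * k)
    (hN₂ : 0 ≤ 10 + (6 * j + 4) - 2 * k) (hN₂' : c ∣ 15 * (10 + (6 * j + 4) - 2 * k))
    (hnorm : 2 * (-(6 * i) - (6 * j + 4) - 4 * k - 2) * (-(6 * i) - (6 * j + 4) - 4 * k - 2) +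
        2 * (6 * i - 2 * (6 * j + 4) - 6 * k - 2) * (6 * i - 2 * (6 * j + 4) - 6 * k - 2) +
        (6 * i - 2 * k + 2 - (6 * i - 2 * (6 * j + 4) - 6 * k - 2)) *
          (6 * i - 2 * k + 2 - (6 * i - 2 * (6 * j + 4) - 6 * k - 2)) +
        2 * (6 * i) * (6 * i) + 2 * (6 * j + 4) * (6 * j + 4) +
        2 * (6 * j + 4 + 4 * k + 2) * (6 * j + 4 + 4 * k + 2) + 16 * k * k ≤ 8 * (c - 1)) :
    False := by
  have hall := threeCheck_true
  simp only [threeCheck, List.all_eq_true, Bool.or_eq_true, Bool.not_eq_true', decide_eq_false_iff_not] at hall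
  have h1 := hall c (by rcases hc with rfl | rfl | rfl <;> simp) i (mem_range' (by omega) (by omega)) j
    (mem_range' (by omega) (by omega)) k (mem_range' (by omega) (by omega))
  rcases h1 with h1 | h1
  · exact h1 ⟨hN₁, hN₂, Int.emod_eq_zero_of_dvd hN₂'⟩
  · exact h1 hnorm

end CfsgLib.Order7920Classes
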