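import Cfsg.Agent.SmallSimple.Degrees7920

/-!
# The nine nontrivial irreducible characters of a simple group of order 7920
-/

set_option autoImplicit false
set_option linter.unusedSectionVars false
set_option maxHeartbeats 1000000
set_option linter.style.haveILetI false

namespace CfsgLib.Order7920Classes

open Finset CfsgLib.Char CfsgLib.ColumnData CfsgLib.Degrees7920
open scoped ComplexConjugate

/-- The degrees. -/
def deg : Fin 9 → ℕ := ![55, 10, 10, 10, 45, 11, 44, 16, 16]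

/-- The values at an element of order five. -/
def atFive : Fin 9 → ℤ := ![0, 0, 0, 0, 0, 1, -1, 1, 1]

/-- Twice the real parts at an element of order eleven. -/
def atEleven : Fin 9 → ℤ := ![0, -2, -2, -2, 2, 0, 0, -1, -1]

/-- A listing of the nontrivial irreducible characters together with their known columns. -/
structure Nine {G : Type*} [Group G] [Finite G] (x y : G) (ℓ : Fin 9 → G → ℂ) : Prop where
  irr : ∀ i, Cfsg.IsIrrCharacter G (ℓ i)
  sum : ∀ F : (G → ℂ) → ℂ, ∑ χ ∈ irrFinset G, F χ = F (fun _ => 1) + ∑ i, F (ℓ i)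
  one : ∀ i, ℓ i 1 = deg i
  five : ∀ i, ℓ i y = atFive i
  eleven : ∀ i, ℓ i x + conj (ℓ i x) = atEleven i

/-- Lifting a listing of the image of a multiset. -/
theorem exists_list {α β : Type*} (f : α → β) : ∀ (L : List β) (s : Multiset α), s.map f = ↑L →
    ∃ l : List α, (↑l : Multiset α) = s ∧ l.map f = L := by
  classical
  intro L
  induction L with
  | nil => exact fun s h => ⟨[], (Multiset.map_eq_zero.1 h).symm, rfl⟩
  | cons b L ih =>
    intro s h
    obtain ⟨a, ha, hab, hrest⟩ := (Multiset.map_eq_cons f s ↑L b).2 h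
    obtain ⟨l, hl, hlL⟩ := ih _ hrest
    exact ⟨a :: l, by rw [← Multiset.cons_coe, hl, Multiset.cons_erase ha],
      by rw [List.map_cons, hab, hlL]⟩

variable {G : Type*} [Group G] [Finite G] [IsSimpleGroup G] (hG : Nat.card G = 7920)
include hG

/-- The rows of the three known columns. -/
theorem exists_nine {x y : G} (hx : orderOf x = 11) (hy : orderOf y = 5) :
    ∃ ℓ : Fin 9 → G → ℂ, Nine x y ℓ := by
  classical
  have hone : (fun _ => (1 : ℂ)) ∈ irrFinset G := mem_irrFinset.2 isIrrCharacter_one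
  set S : Finset (G → ℂ) := (irrFinset G).erase (fun _ => 1) with hS
  choose! d c₁ c₂ e hd hdvd hc hc' he he' hw hr hn using fun χ (hχ : χ ∈ S) =>
    exists_data hG hx hy (mem_irrFinset.1 (mem_of_mem_erase hχ)) (mem_erase.1 hχ).1
  set r : (G → ℂ) → ℤ := fun χ => 2 * ((d χ : ℤ) - 5 * (c₁ χ + c₂ χ)) - c₁ χ - c₂ χ with hr_def
  set n : (G → ℂ) → ℕ := fun χ =>
    (r χ * r χ + 11 * ((c₁ χ : ℤ) - c₂ χ) * ((c₁ χ : ℤ) - c₂ χ)).toNat with hn_def
  set w : (G → ℂ) → ℤ := fun χ => (d χ : ℤ) - 5 * e χ with hw_def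
  have hn' : ∀ χ, (n χ : ℤ) = r χ * r χ + 11 * ((c₁ χ : ℤ) - c₂ χ) * ((c₁ χ : ℤ) - c₂ χ) := fun χ => by
    rw [hn_def]
    refine Int.toNat_of_nonneg ?_
    nlinarith [mul_self_nonneg (r χ), mul_self_nonneg ((c₁ χ : ℤ) - c₂ χ)]
  have hC1 : Nat.card (Subgroup.centralizer ({(1 : G)} : Set G)) = 7920 := by
    rw [show Subgroup.centralizer ({(1 : G)} : Set G) = ⊤ from
      (Subgroup.eq_top_iff' _).2 fun g => Subgroup.mem_centralizer_singleton_iff.2 (by simp),
      Subgroup.card_top, hG]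
  have hne : ∀ a b : G, orderOf a ≠ orderOf b → ¬ IsConj a b := fun a b hab hc => hab (by
    obtain ⟨u, hu⟩ := hc
    exact hu.orderOf_eq _)
  have hcol : ∀ a b : G, ∑ χ ∈ S, χ a * conj (χ b) =
      (if IsConj a b then (Nat.card (Subgroup.centralizer ({a} : Set G)) : ℂ) else 0) - 1 := fun a b => by
    rw [hS, sum_erase_eq_sub hone, sum_irr_mul_conj]
    simp
  have h11 : orderOf x ≠ orderOf (1 : G) := by rw [hx, orderOf_one]; norm_num
  have h51 : orderOf y ≠ orderOf (1 : G) := by rw [hy, orderOf_one]; norm_num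
  have hxy : orderOf x ≠ orderOf y := by rw [hx, hy]; norm_num
  have t1 : ∑ χ ∈ S, d χ * d χ = 7919 := by
    have h : ((∑ χ ∈ S, d χ * d χ : ℕ) : ℂ) = ((7919 : ℕ) : ℂ) := by
      push_cast
      rw [show (∑ χ ∈ S, (d χ : ℂ) * d χ) = ∑ χ ∈ S, χ 1 * conj (χ 1) from
        sum_congr rfl fun χ hχ => by rw [hd χ hχ, Complex.conj_natCast],
        hcol, if_pos (IsConj.refl _), hC1]
      norm_num
    exact_mod_cast h
  have t2 : ∑ χ ∈ S, n χ = 40 := by
    have h : ((∑ χ ∈ S, (n χ : ℤ) : ℤ) : ℂ) = ((40 : ℤ) : ℂ) := by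
      rw [Int.cast_sum, show (∑ χ ∈ S, ((n χ : ℤ) : ℂ)) = ∑ χ ∈ S, 4 * (χ x * conj (χ x)) from
        sum_congr rfl fun χ hχ => by rw [hn', hn χ hχ],
        ← mul_sum, hcol, if_pos (IsConj.refl _), (CfsgLib.Order7920.eleven hG hx).1]
      norm_num
    exact_mod_cast h
  have t3 : ∑ χ ∈ S, (w χ).natAbs ^ 2 = 4 := by
    have h : ((∑ χ ∈ S, w χ * w χ : ℤ) : ℂ) = ((4 : ℤ) : ℂ) := by
      push_cast
      rw [show (∑ χ ∈ S, (w χ : ℂ) * w χ) = ∑ χ ∈ S, χ y * conj (χ y) from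
        sum_congr rfl fun χ hχ => by rw [hw χ hχ, map_intCast],
        hcol, if_pos (IsConj.refl _), (CfsgLib.Order7920.five hG hy).1]
      norm_num
    have h' : ∑ χ ∈ S, w χ * w χ = 4 := by exact_mod_cast h
    zify
    simp only [sq]
    simpa [abs_mul_abs_self] using h'
  have t4 : ∑ χ ∈ S, (d χ : ℤ) * r χ = -2 := by
    have h : ((∑ χ ∈ S, (d χ : ℤ) * r χ : ℤ) : ℂ) = ((-2 : ℤ) : ℂ) := by
      rw [Int.cast_sum, show (∑ χ ∈ S, (((d χ : ℤ) * r χ : ℤ) : ℂ)) =
          ∑ χ ∈ S, χ x * conj (χ 1) + ∑ χ ∈ S, χ 1 * conj (χ x) from by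
        rw [← sum_add_distrib]
        refine sum_congr rfl fun χ hχ => ?_
        rw [hd χ hχ, Complex.conj_natCast, Int.cast_mul, Int.cast_natCast, ← hr χ hχ]
        ring,
        hcol, hcol, if_neg (hne _ _ h11), if_neg (hne _ _ h11.symm)]
      norm_num
    exact_mod_cast h
  have t5 : ∑ χ ∈ S, (d χ : ℤ) * w χ = -1 := by
    have h : ((∑ χ ∈ S, (d χ : ℤ) * w χ : ℤ) : ℂ) = ((-1 : ℤ) : ℂ) := by
      rw [Int.cast_sum, show (∑ χ ∈ S, (((d χ : ℤ) * w χ : ℤ) : ℂ)) = ∑ χ ∈ S, χ y * conj (χ 1) from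
        sum_congr rfl fun χ hχ => by
          rw [hd χ hχ, hw χ hχ, Complex.conj_natCast, Int.cast_mul, Int.cast_natCast, mul_comm],
        hcol, if_neg (hne _ _ h51)]
      norm_num
    exact_mod_cast h
  have t6 : ∑ χ ∈ S, r χ * w χ = -2 := by
    have h : ((∑ χ ∈ S, r χ * w χ : ℤ) : ℂ) = ((-2 : ℤ) : ℂ) := by
      rw [Int.cast_sum, show (∑ χ ∈ S, ((r χ * w χ : ℤ) : ℂ)) =
          ∑ χ ∈ S, χ x * conj (χ y) + ∑ χ ∈ S, χ y * conj (χ x) from by
        rw [← sum_add_distrib]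
        refine sum_congr rfl fun χ hχ => ?_
        rw [hw χ hχ, map_intCast, Int.cast_mul, ← hr χ hχ]
        ring,
        hcol, hcol, if_neg (hne _ _ hxy), if_neg (hne _ _ hxy.symm)]
      norm_num
    exact_mod_cast h
  have hmem : ∀ t ∈ S.val.map (fun χ => ((d χ, n χ, r χ, w χ) : Row)), t ∈ table := by
    intro t ht
    obtain ⟨χ, hχ, rfl⟩ := Multiset.mem_map.1 ht
    have hd2 : d χ * d χ ≤ 7919 :=
      t1 ▸ single_le_sum (f := fun χ => d χ * d χ) (fun _ _ => Nat.zero_le _) hχ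
    have hn2 : n χ ≤ 40 := t2 ▸ single_le_sum (f := n) (fun _ _ => Nat.zero_le _) hχ
    have hw2 : (w χ).natAbs ^ 2 ≤ 4 :=
      t3 ▸ single_le_sum (f := fun χ => (w χ).natAbs ^ 2) (fun _ _ => Nat.zero_le _) hχ
    refine mem_table (by nlinarith) (hdvd χ hχ) (hc χ hχ) (hc' χ hχ) (he χ hχ) (he' χ hχ) rfl (hn' χ) hn2
      rfl ?_
    have : ((w χ).natAbs : ℤ) ^ 2 ≤ 4 := by exact_mod_cast hw2
    rw [Int.natAbs_sq, sq] at this
    exact this
  have key := search_sound table (by decide) 7919 40 4 (-2) (-1) (-2) [] search_table _ hmem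
    (by rw [Multiset.map_map]; exact t1) (by rw [Multiset.map_map]; exact t2)
    (by rw [Multiset.map_map]; exact t3) (by rw [Multiset.map_map]; exact t4)
    (by rw [Multiset.map_map]; exact t5) (by rw [Multiset.map_map]; exact t6)
  rw [Multiset.coe_nil, add_zero] at key
  obtain ⟨l, hl, hlt⟩ := exists_list _ _ _ key
  have hlen : l.length = 9 := by
    have h := congrArg List.length hlt
    rw [List.length_map] at h
    exact h.trans rfl
  have hmemS : ∀ χ ∈ l, χ ∈ S := fun χ hχ => by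
    rw [← Finset.mem_val, ← hl]
    exact hχ
  let ℓ : Fin 9 → G → ℂ := fun i => l[i.val]'(by rw [hlen]; exact i.isLt)
  have hℓ : ∀ i : Fin 9, ℓ i ∈ S := fun i => hmemS _ (List.getElem_mem _)
  have hrow : ∀ i : Fin 9, ((d (ℓ i), n (ℓ i), r (ℓ i), w (ℓ i)) : Row) =
      target[i.val]'(i.isLt) := fun i => by
    simp only [← hlt, List.getElem_map]
    rfl
  have hD : ∀ i : Fin 9, d (ℓ i) = deg i ∧ w (ℓ i) = atFive i ∧ r (ℓ i) = atEleven i := fun i => by
    have h := hrow i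
    refine ⟨(congrArg (fun t : Row => t.1) h).trans ?_, (congrArg (fun t : Row => t.2.2.2) h).trans ?_,
      (congrArg (fun t : Row => t.2.2.1) h).trans ?_⟩ <;> (fin_cases i <;> rfl)
  refine ⟨ℓ, ⟨fun i => mem_irrFinset.1 (mem_of_mem_erase (hℓ i)), fun F => ?_, fun i => ?_, fun i => ?_,
    fun i => ?_⟩⟩
  · rw [← Finset.add_sum_erase _ _ hone, ← hS, Finset.sum_eq_multiset_sum, ← hl]
    congr 1
    rw [Multiset.map_coe, Multiset.sum_coe, ← List.sum_ofFn]
    congr 1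
    refine List.ext_getElem (by simp [hlen]) fun k h1 h2 => ?_
    rw [List.getElem_map, List.getElem_ofFn]
  · rw [hd _ (hℓ i), (hD i).1]
  · rw [← (hD i).2.1]
    exact hw _ (hℓ i)
  · rw [← (hD i).2.2]
    exact hr _ (hℓ i)

end CfsgLib.Order7920Classes
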