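import Cfsg.Agent.Char.ClassProducts
import Cfsg.Agent.SmallSimple.Order7920Rows
import Cfsg.Agent.SmallSimple.Order7920ClassesTable

/-!
# The column of an involution in a simple group of order 7920
-/

set_option autoImplicit false
set_option linter.unusedSectionVars false
set_option maxHeartbeats 1000000
set_option linter.style.haveILetI false

namespace CfsgLib.Order7920Classes

open Finset CfsgLib.Char CfsgLib.ColumnData
open scoped ComplexConjugate

section General

variable {G : Type*} [Group G] [Finite G]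

theorem not_isConj_of_orderOf {a b : G} (h : orderOf a ≠ orderOf b) : ¬ IsConj a b := fun hc => h (by
  obtain ⟨u, hu⟩ := hc
  exact hu.orderOf_eq _)

open Classical in
theorem Nine.col {x y : G} {ℓ : Fin 9 → G → ℂ} (N : Nine x y ℓ) (a b : G) :
    1 + ∑ i, ℓ i a * conj (ℓ i b) =
      if IsConj a b then (Nat.card (Subgroup.centralizer ({a} : Set G)) : ℂ) else 0 := by
  rw [← sum_irr_mul_conj, N.sum]
  simp

theorem Nine.col_ne {x y : G} {ℓ : Fin 9 → G → ℂ} (N : Nine x y ℓ) {a b : G}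
    (h : orderOf a ≠ orderOf b) : 1 + ∑ i, ℓ i a * conj (ℓ i b) = 0 := by
  classical
  rw [N.col, if_neg (not_isConj_of_orderOf h)]

theorem Nine.col_self {x y : G} {ℓ : Fin 9 → G → ℂ} (N : Nine x y ℓ) (a : G) :
    1 + ∑ i, ℓ i a * conj (ℓ i a) = Nat.card (Subgroup.centralizer ({a} : Set G)) := by
  classical
  rw [N.col, if_pos (IsConj.refl a)]

theorem univ_two : (univ : Finset (ZMod 2)) = {0, 1} := by decide

theorem zero_ne_one_two : (0 : ZMod 2) ≠ 1 := by decide

/-- The values at an involution. -/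
theorem value_two {t : G} (ht : orderOf t = 2) {χ : G → ℂ} (hχ : Cfsg.IsCharacter G χ) {d : ℕ}
    (hd : χ 1 = d) : ∃ m : ℤ, χ t = m ∧ 2 ∣ (d : ℤ) - m := by
  haveI : Fact (Nat.Prime 2) := ⟨Nat.prime_two⟩
  obtain ⟨c, hc⟩ := exists_count ht hχ
  have h1 : (ZMod.stdAddChar (1 : ZMod 2) : ℂ) = -1 := by
    have h : ∑ j : ZMod 2, ZMod.stdAddChar j = 0 := by
      simpa using sum_stdAddChar (p := 2) (1 : ZMod 2)
    rw [univ_two, sum_pair zero_ne_one_two,
      AddChar.map_zero_eq_one] at h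
    linear_combination h
  have h2 : ∀ φ : ZMod 2 → ℂ, ∑ b, (c b : ℂ) * φ b = c 0 * φ 0 + c 1 * φ 1 := fun φ => by
    rw [univ_two, sum_pair zero_ne_one_two]
  have hd' : (d : ℤ) = c 0 + c 1 := by
    have h : (d : ℂ) = ((∑ b, c b : ℕ) : ℂ) := hd ▸ sum_count ht hc
    rw [Nat.cast_inj, univ_two, sum_pair zero_ne_one_two] at h
    exact_mod_cast h
  refine ⟨(c 0 : ℤ) - c 1, ?_, ⟨c 1, by omega⟩⟩
  have h := hc 1
  rw [ZMod.val_one, pow_one] at h
  rw [h]
  simp only [mul_one]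
  rw [h2, AddChar.map_zero_eq_one, h1]
  push_cast
  ring

theorem bounds_of_mul_self_le {z : ℤ} {n : ℕ} (h : z * z < (n : ℤ) * n) : -(n : ℤ) < z ∧ z < n := by
  constructor <;> by_contra hn <;> nlinarith

set_option maxHeartbeats 4000000 in
theorem invol_of_eqs {v : Fin 9 → ℤ} {c : ℕ} (hcdvd : c ∣ 144) (hpar : ∀ i, 2 ∣ (deg i : ℤ) - v i)
    (e1 : 1 + ∑ i, v i * (deg i : ℤ) = 0) (e5 : 1 + ∑ i, v i * atFive i = 0)
    (e11 : 2 + ∑ i, v i * atEleven i = 0) (enorm : 1 + ∑ i, v i * v i = (c : ℤ))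
    (ezero : 1440 - 144 * (v 1 * v 1 + v 2 * v 2 + v 3 * v 3) + 32 * (v 4 * v 4) -
      45 * (v 7 * v 7 + v 8 * v 8) = 0) :
    c = 48 ∧ ∃ σ : Equiv.Perm (Fin 9), (∀ k, deg (σ k) = deg k) ∧
      (∀ k, atFive (σ k) = atFive k) ∧ (∀ k, atEleven (σ k) = atEleven k) ∧
      ∀ k, v (σ k) = (![-1, 2, -2, -2, -3, 3, 4, 0, 0] : Fin 9 → ℤ) k := by
  simp only [Fin.sum_univ_succ, Fin.sum_univ_zero, deg, atFive, atEleven] at e1 e5 e11 enorm
  simp at e1 e5 e11 enorm
  have p0 := hpar 0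
  have p1 := hpar 1
  have p2 := hpar 2
  have p3 := hpar 3
  have p4 := hpar 4
  have p5 := hpar 5
  have p6 := hpar 6
  have p7 := hpar 7
  have p8 := hpar 8
  simp [deg] at p0 p1 p2 p3 p4 p5 p6 p7 p8
  obtain ⟨p, hp⟩ : 2 ∣ v 1 := by omega
  obtain ⟨q, hq⟩ : 2 ∣ v 2 := by omega
  obtain ⟨s, hs⟩ : 2 ∣ v 3 := by omega
  obtain ⟨g, hg⟩ : 2 ∣ v 7 := by omega
  obtain ⟨h, hh⟩ : 2 ∣ v 8 := by omega
  obtain ⟨i, hi⟩ : ∃ i, v 4 = 2 * i + 1 := ⟨v 4 / 2, by omega⟩
  obtain ⟨j, hj⟩ : ∃ j, v 5 = 2 * j + 1 := ⟨v 5 / 2, by omega⟩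
  have hv0 : v 0 = -1 - (2 * i + 1) - (2 * j + 1) - 2 * (g + h) := by omega
  have hv6 : v 6 = 2 * j + 1 + 2 * (g + h) + 1 := by omega
  have hc144 : (c : ℤ) ≤ 144 := by exact_mod_cast Nat.le_of_dvd (by norm_num) hcdvd
  rw [hv0, hp, hq, hs, hi, hj, hv6, hg, hh] at enorm
  rw [hp, hq, hs, hi, hg, hh] at ezero
  set z0 := -1 - (2 * i + 1) - (2 * j + 1) - 2 * (g + h)
  set z6 := 2 * j + 1 + 2 * (g + h) + 1
  have s0 := mul_self_nonneg z0
  have s6 := mul_self_nonneg z6
  have sp := mul_self_nonneg p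
  have sq' := mul_self_nonneg q
  have ss := mul_self_nonneg s
  have si := mul_self_nonneg (2 * i + 1)
  have sj := mul_self_nonneg (2 * j + 1)
  have sg := mul_self_nonneg g
  have sh := mul_self_nonneg h
  have bp := bounds_of_mul_self_le (z := p) (n := 6) (by push_cast; linarith)
  have bq := bounds_of_mul_self_le (z := q) (n := 6) (by push_cast; linarith)
  have bi := bounds_of_mul_self_le (z := 2 * i + 1) (n := 12) (by push_cast; linarith)
  have bj := bounds_of_mul_self_le (z := 2 * j + 1) (n := 12) (by push_cast; linarith)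
  have bg := bounds_of_mul_self_le (z := g) (n := 6) (by push_cast; linarith)
  have bh := bounds_of_mul_self_le (z := h) (n := 6) (by push_cast; linarith)
  push_cast at bp bq bi bj bg bh
  obtain ⟨hc48, ha, hb, hg0, hh0, hperm⟩ := inv_column (i := i) (j := j) (g := g) (h := h) (p := p)
    (q := q) (s := s) (c := (c : ℤ)) (by omega) (by omega) (by omega) (by omega) (by omega) (by omega)
    (by linarith) (by linarith) (by linarith) (by exact_mod_cast hcdvd)
  refine ⟨by exact_mod_cast hc48, ?_⟩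
  have v0 : v 0 = -1 := by rw [hv0]; simp only [z0]; linarith
  have v4 : v 4 = -3 := by linarith
  have v5 : v 5 = 3 := by linarith
  have v6 : v 6 = 4 := by rw [hv6]; simp only [z6]; linarith
  have v7 : v 7 = 0 := by linarith
  have v8 : v 8 = 0 := by linarith
  have hperm' : (v 1 = 2 ∧ v 2 = -2 ∧ v 3 = -2) ∨ (v 1 = -2 ∧ v 2 = 2 ∧ v 3 = -2) ∨
      (v 1 = -2 ∧ v 2 = -2 ∧ v 3 = 2) := by
    rcases hperm with ⟨a, b, e⟩ | ⟨a, b, e⟩ | ⟨a, b, e⟩ <;> simp [hp, hq, hs, a, b, e]
  rcases hperm' with ⟨h1, h2, h3⟩ | ⟨h1, h2, h3⟩ | ⟨h1, h2, h3⟩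
  · refine ⟨1, fun _ => rfl, fun _ => rfl, fun _ => rfl, fun k => ?_⟩
    fin_cases k <;> simp [v0, h1, h2, h3, v4, v5, v6, v7, v8]
  · refine ⟨Equiv.swap 1 2, by decide, by decide, by decide, fun k => ?_⟩
    fin_cases k <;> simp [Equiv.swap_apply_def, v0, h1, h2, h3, v4, v5, v6, v7, v8]
  · refine ⟨Equiv.swap 1 3, by decide, by decide, by decide, fun k => ?_⟩
    fin_cases k <;> simp [Equiv.swap_apply_def, v0, h1, h2, h3, v4, v5, v6, v7, v8]

end General

variable {G : Type*} [Group G] [Finite G] [IsSimpleGroup G] (hG : Nat.card G = 7920)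
include hG

/-- Centralisers of elements of order prime to `55` are `{2,3}`-groups. -/
theorem centralizer_dvd {g : G} {q : ℕ} (hq : q.Prime) (hg : orderOf g = q) (h5 : q ≠ 5) (h11 : q ≠ 11) :
    Nat.card (Subgroup.centralizer ({g} : Set G)) ∣ 144 := by
  have hd : Nat.card (Subgroup.centralizer ({g} : Set G)) ∣ 144 * 55 := by
    rw [show (144 : ℕ) * 55 = Nat.card G by rw [hG]]
    exact Subgroup.card_subgroup_dvd_card _
  have key : ∀ p : ℕ, p.Prime → (p = 5 ∨ p = 11) → ¬ p ∣ Nat.card (Subgroup.centralizer ({g} : Set G)) := by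
    intro p hp hp' hdvd
    haveI := Fact.mk hp
    obtain ⟨v, hv⟩ := exists_prime_orderOf_dvd_card' p hdvd
    rw [← Subgroup.orderOf_coe] at hv
    have hgv : g ∈ Subgroup.centralizer ({(v : G)} : Set G) :=
      Subgroup.mem_centralizer_singleton_iff.2 (Subgroup.mem_centralizer_singleton_iff.1 v.2).symm
    have hdvd' := hg ▸ CfsgLib.Order7920.orderOf_mem_dvd hgv
    rcases hp' with rfl | rfl
    · rw [(CfsgLib.Order7920.five hG hv).1] at hdvd'
      exact h5 ((Nat.prime_dvd_prime_iff_eq hq hp).1 hdvd')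
    · rw [(CfsgLib.Order7920.eleven hG hv).1] at hdvd'
      exact h11 ((Nat.prime_dvd_prime_iff_eq hq hp).1 hdvd')
  refine (Nat.Coprime.dvd_of_dvd_mul_right ?_ hd)
  rw [show (55 : ℕ) = 5 * 11 by norm_num]
  exact Nat.Coprime.mul_right ((Nat.Prime.coprime_iff_not_dvd (by norm_num)).2 (key 5 (by norm_num) (Or.inl rfl))).symm
    ((Nat.Prime.coprime_iff_not_dvd (by norm_num)).2 (key 11 (by norm_num) (Or.inr rfl))).symm

/-- No involution inverts an element of order eleven. -/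
theorem no_products_eleven {x t : G} (hx : orderOf x = 11) (ht : orderOf t = 2) :
    IsEmpty {p : G × G // IsConj t p.1 ∧ IsConj t p.2 ∧ p.1 * p.2 = x} := by
  have hord : ∀ a : G, IsConj t a → orderOf a = 2 := fun a ha => by
    obtain ⟨u, hu⟩ := ha
    rw [← hu.orderOf_eq, ht]
  refine ⟨fun ⟨⟨a, b⟩, ha, hb, hab⟩ => ?_⟩
  simp only at ha hb hab
  have ha2 : a * a = 1 := by rw [← sq, ← hord a ha, pow_orderOf_eq_one]
  have hb2 : b * b = 1 := by rw [← sq, ← hord b hb, pow_orderOf_eq_one]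
  have hconj : a * x * a⁻¹ = x⁻¹ := by
    rw [← hab, inv_eq_of_mul_eq_one_right ha2, mul_inv_rev, inv_eq_of_mul_eq_one_right ha2,
      inv_eq_of_mul_eq_one_right hb2, ← mul_assoc, ha2, one_mul]
  have hmem := CfsgLib.Order7920.mem_normalizer_zpowers (hconj ▸ inv_mem (Subgroup.mem_zpowers x))
  have hd := hord a ha ▸ CfsgLib.Order7920.orderOf_mem_dvd hmem
  rw [(CfsgLib.Order7920.eleven hG hx).2] at hd
  omega

/-- The column of an involution. -/
theorem exists_invol {x y t : G} (hx : orderOf x = 11) (hy : orderOf y = 5) (ht : orderOf t = 2) :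
    Nat.card (Subgroup.centralizer ({t} : Set G)) = 48 ∧
      ∃ ℓ : Fin 9 → G → ℂ, Nine x y ℓ ∧
        ∀ i, ℓ i t = ((![-1, 2, -2, -2, -3, 3, 4, 0, 0] : Fin 9 → ℤ) i : ℂ) := by
  classical
  haveI := Fintype.ofFinite G
  obtain ⟨ℓ, N⟩ := exists_nine hG hx hy
  choose v hv hpar using fun i => value_two ht (IsIrrCharacter.isCharacter (N.irr i)) (N.one i)
  have htx : orderOf t ≠ orderOf x := by rw [ht, hx]; norm_num
  have hty : orderOf t ≠ orderOf y := by rw [ht, hy]; norm_num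
  have ht1 : orderOf t ≠ orderOf (1 : G) := by rw [ht, orderOf_one]; norm_num
  set c := Nat.card (Subgroup.centralizer ({t} : Set G)) with hcdef
  have hcdvd : c ∣ 144 := centralizer_dvd hG Nat.prime_two ht (by norm_num) (by norm_num)
  -- orthogonality with the three known columns
  have e1 : 1 + ∑ i, v i * (deg i : ℤ) = 0 := by
    have h := N.col_ne ht1
    simp only [hv, N.one, Complex.conj_natCast] at h
    exact_mod_cast h
  have e5 : 1 + ∑ i, v i * atFive i = 0 := by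
    have h := N.col_ne hty
    simp only [hv, N.five, map_intCast] at h
    exact_mod_cast h
  have e11 : 2 + ∑ i, v i * atEleven i = 0 := by
    have h := N.col_ne htx
    have h' := N.col_ne htx.symm
    simp only [hv, map_intCast] at h h'
    have hsum : ∑ i, (v i : ℂ) * conj (ℓ i x) + ∑ i, ℓ i x * (v i : ℂ) =
        ∑ i, ((v i * atEleven i : ℤ) : ℂ) := by
      rw [← Finset.sum_add_distrib]
      refine Finset.sum_congr rfl fun i _ => ?_
      rw [Int.cast_mul, ← N.eleven i]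
      ring
    have : ((2 + ∑ i, v i * atEleven i : ℤ) : ℂ) = 0 := by
      push_cast
      push_cast at hsum
      linear_combination h + h' - hsum
    exact_mod_cast this
  have enorm : 1 + ∑ i, v i * v i = (c : ℤ) := by
    have h := N.col_self t
    simp only [hv, map_intCast, ← hcdef] at h
    exact_mod_cast h
  -- no product of two conjugates has order eleven
  have hzero : (2 : ℂ) + ∑ i, (((v i * v i * atEleven i : ℤ)) : ℂ) / (deg i : ℂ) = 0 := by
    haveI := no_products_eleven hG hx ht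
    have h := card_class_products t t x
    rw [Nat.card_of_isEmpty, Nat.cast_zero] at h
    haveI : Nonempty {z : G // IsConj t z} := ⟨⟨t, IsConj.refl t⟩⟩
    have hz : ∑ χ ∈ irrFinset G, χ t * χ t * conj (χ x) / χ 1 = 0 := by
      refine (mul_eq_zero.1 h.symm).resolve_left (div_ne_zero (mul_ne_zero ?_ ?_) ?_) <;>
        exact Nat.cast_ne_zero.2 Nat.card_pos.ne'
    rw [N.sum] at hz
    simp only [hv, N.one, map_one, one_mul, div_one] at hz
    have hz' := congrArg (starRingEnd ℂ) hz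
    simp only [map_add, map_sum, map_div₀, map_mul, map_intCast, Complex.conj_conj, Complex.conj_natCast,
      map_one, map_zero] at hz'
    have hsum : ∑ i, (v i : ℂ) * v i * conj (ℓ i x) / (deg i : ℂ) + ∑ i, (v i : ℂ) * v i * ℓ i x / (deg i : ℂ)
        = ∑ i, (((v i * v i * atEleven i : ℤ)) : ℂ) / (deg i : ℂ) := by
      rw [← Finset.sum_add_distrib]
      refine Finset.sum_congr rfl fun i _ => ?_
      rw [Int.cast_mul, ← N.eleven i]
      push_cast
      ring
    linear_combination hz + hz' - hsum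
  have ezero : 1440 - 144 * (v 1 * v 1 + v 2 * v 2 + v 3 * v 3) + 32 * (v 4 * v 4) -
      45 * (v 7 * v 7 + v 8 * v 8) = 0 := by
    simp only [Fin.sum_univ_succ, Fin.sum_univ_zero, deg, atEleven] at hzero
    simp at hzero
    have : ((1440 - 144 * (v 1 * v 1 + v 2 * v 2 + v 3 * v 3) + 32 * (v 4 * v 4) -
        45 * (v 7 * v 7 + v 8 * v 8) : ℤ) : ℂ) = 0 := by
      push_cast
      linear_combination 720 * hzero
    exact_mod_cast this
  obtain ⟨hc48, σ, hσD, hσF, hσE, hσ⟩ := invol_of_eqs hcdvd hpar e1 e5 e11 enorm ezero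
  refine ⟨hc48, ?_⟩
  refine ⟨ℓ ∘ σ, ⟨fun k => N.irr _, fun F => ?_, fun k => ?_, fun k => ?_, fun k => ?_⟩, fun k => ?_⟩
  · rw [N.sum]
    congr 1
    exact (Equiv.sum_comp σ (fun k => F (ℓ k))).symm
  · rw [Function.comp_apply, N.one, hσD]
  · rw [Function.comp_apply, N.five, hσF]
  · rw [Function.comp_apply, N.eleven, hσE]
  · rw [Function.comp_apply, hv, hσ]

end CfsgLib.Order7920Classes
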