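import Cfsg.Agent.ThreePrimes.SelfCentralizing
import Mathlib.GroupTheory.Transfer

/-!
The number of Sylow subgroups of prime order which are their own centralizers.
-/

set_option autoImplicit false
set_option linter.style.haveILetI false
set_option linter.deprecated false
set_option linter.unusedSectionVars false

namespace CfsgLib.SelfCentralSylow

open Subgroup

variable {G : Type*} [Group G] [Finite G]

theorem sylow_count [IsSimpleGroup G] (hG : ¬ IsCyclic G) {p q r a b : ℕ} (hp : p.Prime)
    (hq : q.Prime) [hr : Fact r.Prime] (hpq : p ≠ q) (hpr : p ≠ r) (hqr : q ≠ r)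
    (hcard : Nat.card G = p ^ a * q ^ b * r) :
    ∃ e : ℕ, e ∣ r - 1 ∧ e ≠ 1 ∧ ∃ n : ℕ, n % r = 1 ∧ n * e = p ^ a * q ^ b := by
  classical
  letI := Fintype.ofFinite G
  obtain ⟨P⟩ : Nonempty (Sylow r G) := inferInstance
  have hP : Nat.card P = r := by
    rw [P.card_eq_multiplicity, hcard, Nat.factorization_mul, Nat.factorization_mul,
      Nat.Prime.factorization_pow hp, Nat.Prime.factorization_pow hq,
      Nat.Prime.factorization hr.out]
    · simp [hpr, hqr]
    · exact pow_ne_zero _ hp.ne_zero
    · exact pow_ne_zero _ hq.ne_zero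
    · exact mul_ne_zero (pow_ne_zero _ hp.ne_zero) (pow_ne_zero _ hq.ne_zero)
    · exact hr.out.ne_zero
  have hC : centralizer ((P : Subgroup G) : Set G) = (P : Subgroup G) :=
    CfsgLib.ThreePrimes.centralizer_eq_self hp hq hr.out hpq hpr hqr hcard _ hP
  set N := normalizer ((P : Subgroup G) : Set G) with hN
  haveI : IsCyclic (P : Subgroup G) := isCyclic_of_prime_card hP
  set e := (P : Subgroup G).relIndex N with he
  have he1 : e ∣ r - 1 := by
    have h : e = Nat.card (P : Subgroup G).normalizerMonoidHom.range := by
      rw [← Subgroup.index_ker, Subgroup.normalizerMonoidHom_ker, he, Subgroup.relIndex, hC]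
    rw [h]
    refine (Subgroup.card_subgroup_dvd_card _).trans ?_
    rw [IsCyclic.card_mulAut, hP, Nat.totient_prime hr.out]
  have hne : e ≠ 1 := fun h1 => by
    have hle : normalizer ((P : Subgroup G) : Set G) ≤ centralizer ((P : Subgroup G) : Set G) := by
      rw [hC]; exact Subgroup.relIndex_eq_one.1 h1
    have hc := MonoidHom.ker_transferSylow_isComplement' P hle
    rcases Subgroup.Normal.eq_bot_or_eq_top
      (inferInstance : (MonoidHom.transferSylow P hle).ker.Normal) with h | h
    · rw [h, Subgroup.isComplement'_bot_left] at hc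
      refine hG ?_
      have h2 : Nat.card G = r := by rw [← hP, hc, Subgroup.card_top]
      exact isCyclic_of_prime_card h2
    · rw [h, Subgroup.isComplement'_top_left] at hc
      rw [hc, Subgroup.card_bot] at hP
      exact hr.out.one_lt.ne hP
  refine ⟨e, he1, hne, Nat.card (Sylow r G),
    (show Nat.card (Sylow r G) % r = 1 % r from card_sylow_modEq_one r G).trans
      (Nat.mod_eq_of_lt hr.out.one_lt), ?_⟩
  have h1 : N.index * Nat.card N = Nat.card G := Subgroup.index_mul_card N
  have h2 : e * Nat.card (P : Subgroup G) = Nat.card N := by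
    rw [he, ← Subgroup.relIndex_bot_left, ← Subgroup.relIndex_bot_left (H := N), mul_comm]
    exact Subgroup.relIndex_mul_relIndex _ _ _ bot_le le_normalizer
  have hi : N.index = Nat.card (Sylow r G) := (P.card_eq_index_normalizer).symm
  rw [hi] at h1
  rw [← h2, hP, ← mul_assoc, hcard] at h1
  exact Nat.eq_of_mul_eq_mul_right hr.out.pos h1

end CfsgLib.SelfCentralSylow
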