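import Cfsg.Agent.SmallSimple.Order459648Sylow
import Cfsg.Agent.SmallSimple.InvolValues
import Cfsg.Agent.SmallSimple.ColumnData
import Cfsg.Agent.PClosed.SimplePrimeBound

/-!
# There is no simple group of order 459648
-/

set_option autoImplicit false
set_option linter.style.haveILetI false

namespace CfsgLib.Order459648

open Cfsg Finset CfsgLib.Block CfsgLib.Block.Chr CfsgLib.Cyclic CfsgLib.BrauerPairs
  CfsgLib.Char
open scoped ComplexConjugate commutatorElement

/-- The possible signed degrees. -/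
def vals : Finset ℤ := {-18, -56, 96, -189}

theorem signed_degree {d : ℕ} {s : ℤ} (hd : d ∣ 459648) (h2 : 2 ≤ d) (hsq : d ^ 2 ≤ 459648)
    (hs : s = 1 ∨ s = -1) (hcong : (d : ℤ) ≡ s [ZMOD 19]) : s * d ∈ vals := by
  have hlt : d < 678 := by
    by_contra h
    have : 678 ^ 2 ≤ d ^ 2 := Nat.pow_le_pow_left (by omega) 2
    norm_num at this
    omega
  obtain ⟨k, hk⟩ := Int.modEq_iff_dvd.1 hcong.symm
  have hd' : (d : ℤ) = 19 * k + s := by omega
  have hdz : (d : ℤ) ∣ 459648 := by exact_mod_cast hd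
  have h2z : (2 : ℤ) ≤ d := by exact_mod_cast h2
  have hltz : (d : ℤ) < 678 := by exact_mod_cast hlt
  rw [hd'] at hdz h2z hltz ⊢
  rcases hs with rfl | rfl <;>
  · have hk0 : 0 ≤ k := by omega
    have hk1 : k ≤ 36 := by omega
    interval_cases k <;> norm_num [vals] at *

/-- The admissible multiplicities of the signed degrees. -/
def okCounts (e a b c : ℕ) : Bool :=
  let g : ℤ := (e : ℤ) - 1 - a - b - c
  let f : ℤ := 1 - 18 * a - 56 * b + 96 * c - 189 * g
  g < 0 || 459648 % f.natAbs != 0 || f == 0 ||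
    decide ((459648 : ℤ) < 1 + 324 * a + 3136 * b + 9216 * c + 35721 * g + (18 / (e : ℤ)) * (f * f))
    || (e == 6 && (1 ≤ a || (b == 2 && c == 2)))

theorem okCounts_all : ([2, 3, 6] : List ℕ).all (fun e => (List.range 6).all fun a =>
    (List.range 6).all fun b => (List.range 6).all fun c => okCounts e a b c) = true := by
  decide +kernel

theorem arith {e a b c g : ℕ} (he : e = 2 ∨ e = 3 ∨ e = 6) (hsum : a + b + c + g + 1 = e) {f : ℤ}
    (hf : f = 1 - 18 * (a : ℤ) - 56 * b + 96 * c - 189 * g) (hf0 : f ≠ 0)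
    (hdvd : f.natAbs ∣ 459648)
    (hsq : 1 + 324 * (a : ℤ) + 3136 * b + 9216 * c + 35721 * g + (18 / (e : ℤ)) * (f * f) ≤ 459648) :
    e = 6 ∧ (1 ≤ a ∨ (b = 2 ∧ c = 2 ∧ g = 1)) := by
  have hlt : a < 6 ∧ b < 6 ∧ c < 6 := by omega
  have h := okCounts_all
  simp only [List.all_eq_true, List.mem_range] at h
  have h' := h e (by rcases he with rfl | rfl | rfl <;> simp) a hlt.1 b hlt.2.1 c hlt.2.2
  have hg : (e : ℤ) - 1 - a - b - c = (g : ℤ) := by omega
  simp only [okCounts, hg, ← hf, Bool.or_eq_true, Bool.and_eq_true, bne_iff_ne, beq_iff_eq,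
    decide_eq_true_eq] at h'
  rcases h' with (((h' | h') | h') | h') | ⟨h6, h'⟩
  · omega
  · exact absurd (Nat.mod_eq_zero_of_dvd hdvd) (by simpa using h')
  · exact absurd h' hf0
  · omega
  · refine ⟨h6, ?_⟩
    rcases h' with h' | ⟨hb, hc⟩
    · exact Or.inl h'
    · omega

universe u

variable {G : Type u} [Group G] [Finite G]

/-- The centralizer of an involution centralizing a Sylow 19-subgroup is small once its index is
divisible by `189`. -/
theorem card_centralizer_le (hG : Nat.card G = 459648) (P : Sylow 19 G)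
    (hP : Nat.card (P : Subgroup G) = 19)
    (hN : Nat.card (Subgroup.normalizer ((P : Subgroup G) : Set G)) = 456) {t : G}
    (ht : t ∈ Subgroup.centralizer ((P : Subgroup G) : Set G))
    (hidx : 189 ∣ (Subgroup.centralizer ({t} : Set G)).index) :
    Nat.card (Subgroup.centralizer ({t} : Set G)) ≤ 456 := by
  haveI : Fact (Nat.Prime 19) := ⟨by norm_num⟩
  set H := Subgroup.centralizer ({t} : Set G) with hH
  obtain ⟨k, hk⟩ := hidx
  have hmul := H.card_mul_index
  rw [hG, hk] at hmul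
  have hdvd : Nat.card H ∣ 2432 := ⟨k, Nat.eq_of_mul_eq_mul_right (by norm_num : 0 < 189)
    (by linarith)⟩
  have hPH : (P : Subgroup G) ≤ H := fun x hx => by
    rw [hH, Subgroup.mem_centralizer_singleton_iff]
    exact Subgroup.mem_centralizer_iff.1 ht x hx
  set P' : Sylow 19 H := P.subtype hPH with hP'
  have hP'card : Nat.card (P' : Subgroup H) = 19 := by
    rw [hP', Sylow.coe_subtype, Nat.card_congr (Subgroup.subgroupOfEquivOfLe hPH).toEquiv, hP]
  have hn : Nat.card (Sylow 19 H) = 1 := by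
    have h1 : Nat.card (Sylow 19 H) ∣ 128 := by
      refine P'.card_dvd_index.trans ?_
      obtain ⟨m, hm⟩ := hdvd
      refine ⟨m, ?_⟩
      rw [← (P' : Subgroup H).card_mul_index, hP'card, mul_assoc] at hm
      omega
    have h2 : Nat.card (Sylow 19 H) % 19 = 1 := card_sylow_modEq_one 19 H
    obtain ⟨i, hi, heq⟩ := (Nat.dvd_prime_pow Nat.prime_two).1 (show _ ∣ 2 ^ 7 from h1)
    rw [heq] at h2 ⊢
    interval_cases i <;> omega
  haveI : Subsingleton (Sylow 19 H) := (Nat.card_eq_one_iff_unique.1 hn).1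
  have hnorm : ((P : Subgroup G).subgroupOf H).Normal := by
    have h := Sylow.normal_of_subsingleton P'
    rwa [hP', Sylow.coe_subtype] at h
  have hle := (Subgroup.normal_subgroupOf_iff_le_normalizer hPH).1 hnorm
  rw [← hN]
  exact Subgroup.card_le_of_le hle

/-- The second orthogonality relation bounds a partial sum of squares. -/
theorem sum_sq_le_centralizer (t : G) (S : Finset (IrrCharacter G)) (m : IrrCharacter G → ℤ)
    (hm : ∀ χ ∈ S, (χ : G → ℂ) t = m χ) :
    ∑ χ ∈ S, m χ ^ 2 ≤ (Nat.card (Subgroup.centralizer ({t} : Set G)) : ℤ) := by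
  classical
  have h := congrArg Complex.re (sum_irr_mul_conj t t)
  rw [if_pos (IsConj.refl t), Complex.re_sum, Complex.natCast_re] at h
  simp only [Complex.mul_conj, Complex.ofReal_re] at h
  have h1 : ∑ χ ∈ S, ((m χ ^ 2 : ℤ) : ℝ) ≤ ∑ φ ∈ irrFinset G, Complex.normSq (φ t) := by
    calc ∑ χ ∈ S, ((m χ ^ 2 : ℤ) : ℝ) = ∑ χ ∈ S, Complex.normSq ((χ : G → ℂ) t) :=
          Finset.sum_congr rfl fun χ hχ => by
            rw [hm χ hχ, ← Complex.ofReal_intCast, Complex.normSq_ofReal]; push_cast; ring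
      _ = ∑ φ ∈ S.map (Function.Embedding.subtype _), Complex.normSq (φ t) := by
            rw [Finset.sum_map]; rfl
      _ ≤ _ := Finset.sum_le_sum_of_subset_of_nonneg (fun φ hφ => by
            obtain ⟨χ, -, rfl⟩ := Finset.mem_map.1 hφ
            exact mem_irrFinset.2 χ.2) fun φ _ _ => Complex.normSq_nonneg _
  rw [h] at h1
  exact_mod_cast h1

theorem not_simple [IsSimpleGroup G] : Nat.card G ≠ 459648 := by
  classical
  intro hG
  haveI := Fintype.ofFinite G
  haveI : Fact (Nat.Prime 19) := ⟨by norm_num⟩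
  obtain ⟨P, e, hP, he, hN, he236, hinv⟩ := sylow_data hG
  have hna : ¬ IsMulCommutative G :=
    SmallSimple.not_comm_of_sylow P (by rw [hP]; norm_num) (by rw [hP, hG]; norm_num)
  have hperf : commutator G = ⊤ := by
    rcases IsSimpleGroup.eq_bot_or_eq_top_of_normal (commutator G) inferInstance with h | h
    · exfalso
      refine hna ⟨⟨fun a b => ?_⟩⟩
      have h2 : ⁅a, b⁆ ∈ commutator G := by
        rw [commutator_def]
        exact Subgroup.commutator_mem_commutator (Subgroup.mem_top a) (Subgroup.mem_top b)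
      rwa [h, Subgroup.mem_bot, commutatorElement_eq_one_iff_mul_comm] at h2
    · exact h
  have hp : Nat.Prime 19 := Fact.out
  obtain ⟨M, hM⟩ := exists_isPModular hp
  haveI := hM.2.1.isPrime
  haveI := CfsgLib.Block.charP_residue hM
  letI := CfsgLib.Block.Chr.irrFintype (G := G)
  haveI : Fintype (principalBlock M G) := Fintype.ofFinite _
  obtain ⟨X, εX, ε, hX, hY, hXv, hε, hYc, hYeq, hYrel⟩ := principal_prime_order hM P hP he
  set one : principalBlock M G := ⟨trivIrr G, trivIrr_mem_principal⟩ with hone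
  have hn1 : ¬ (19 : ℕ) ∣ orderOf (1 : G) := by rw [orderOf_one]; norm_num
  have hd1 : ∀ θ : principalBlock M G, ((θ : IrrCharacter G) : G → ℂ) 1 = (deg θ.1 : ℂ) :=
    fun θ => by rw [(irr_one θ.1).1]; push_cast; rfl
  have h1deg : ∀ θ : principalBlock M G, deg θ.1 = 1 → θ = one := fun θ h => by
    refine Subtype.ext (Subtype.ext ?_)
    refine PClosedBound.eq_one_of_apply_one hperf θ.1.2 ?_
    rw [hd1, h, Int.cast_one]
  have hdone : deg one.1 = 1 := by
    have h := hd1 one
    rw [show ((one : IrrCharacter G) : G → ℂ) 1 = 1 from rfl] at h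
    exact_mod_cast h.symm
  have hY3 : 3 ≤ (Xᶜ).card := by rcases he236 with h | h | h <;> rw [h] at hY <;> omega
  have honeX : one ∈ X := by
    by_contra h
    have hall : ∀ θ, θ ∉ X → θ = one := fun θ hθ => h1deg θ (by
      have h2 := hYeq θ one hθ h 1 hn1
      rw [hd1, hd1, hdone] at h2
      exact_mod_cast h2)
    have h2 : (Xᶜ).card ≤ 1 := Finset.card_le_one.2 fun a ha b hb =>
      (hall a (Finset.mem_compl.1 ha)).trans (hall b (Finset.mem_compl.1 hb)).symm
    omega
  obtain ⟨x, hxP, hx1⟩ : ∃ x ∈ (P : Subgroup G), x ≠ 1 := by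
    haveI : Nontrivial (P : Subgroup G) :=
      Finite.one_lt_card_iff_nontrivial.1 (by rw [hP]; norm_num)
    obtain ⟨⟨x, hx⟩, hx1⟩ := exists_ne (1 : (P : Subgroup G))
    exact ⟨x, hx, fun h => hx1 (Subtype.ext h)⟩
  have hεone : εX one = 1 := by
    have h := (hXv one honeX).2.2 x hxP hx1 1 (Subgroup.one_mem _) hn1
    rw [show ((one : IrrCharacter G) : G → ℂ) (x * 1) = 1 from rfl] at h
    exact_mod_cast h.symm
  obtain ⟨θ, hθ⟩ : ∃ θ, θ ∉ X := by
    obtain ⟨θ, hθ⟩ := Finset.card_pos.1 (show 0 < (Xᶜ).card by omega)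
    exact ⟨θ, Finset.mem_compl.1 hθ⟩
  -- degrees
  have hT : ε * deg θ.1 = ∑ χ ∈ X, εX χ * deg χ.1 := by
    have h := hYrel θ hθ 1 hn1
    simp only [hd1] at h
    exact_mod_cast h
  have hall : ∑ χ : principalBlock M G, deg χ.1 ^ 2 ≤ 459648 := by
    have h := sum_sq_le_centralizer (1 : G)
      ((Finset.univ : Finset (principalBlock M G)).map (Function.Embedding.subtype _))
      (fun χ => deg χ) (fun χ _ => by rw [(irr_one χ).1]; push_cast; rfl)
    rw [Finset.sum_map] at h
    refine h.trans ?_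
    rw [show (459648 : ℤ) = ((459648 : ℕ) : ℤ) from rfl, Int.ofNat_le, ← hG]
    exact Subgroup.card_le_card_group _
  rw [← Finset.sum_add_sum_compl X, ← Finset.add_sum_erase X _ honeX, hdone,
    Finset.sum_congr rfl (s₁ := Xᶜ) fun θ' hθ' => show deg θ'.1 ^ 2 = deg θ.1 ^ 2 by
      have h2 := hYeq θ' θ (Finset.mem_compl.1 hθ') hθ 1 hn1
      rw [hd1, hd1] at h2
      rw [show deg θ'.1 = deg θ.1 by exact_mod_cast h2],
    Finset.sum_const, nsmul_eq_mul] at hall
  set X' := X.erase one with hX'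
  have hT' : ε * deg θ.1 = 1 + ∑ χ ∈ X', εX χ * deg χ.1 := by
    rw [hT, ← Finset.add_sum_erase X _ honeX, hεone, hdone, one_mul]
  have hdpos : ∀ χ : principalBlock M G, 0 < deg χ.1 := fun χ => by
    change (0 : ℤ) < (charDegree ((χ : IrrCharacter G) : G → ℂ) : ℤ)
    exact_mod_cast (irr_one χ.1).2
  have hXv' : ∀ χ ∈ X', εX χ * deg χ.1 ∈ vals := fun χ hχ => by
    obtain ⟨hs, hcong, -⟩ := hXv χ (Finset.mem_of_mem_erase hχ)
    refine signed_degree (hG ▸ charDegree_dvd_card χ.1) ?_ ?_ hs hcong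
    · have := hdpos χ
      have h3 : deg χ.1 ≠ 1 := fun h => Finset.ne_of_mem_erase hχ (h1deg χ h)
      unfold deg at this h3
      omega
    · have h3 : deg χ.1 ^ 2 ≤ ∑ y ∈ X', deg y.1 ^ 2 :=
        Finset.single_le_sum (f := fun y : principalBlock M G => deg y.1 ^ 2)
          (fun y _ => sq_nonneg (deg y.1)) hχ
      have h4 : ((charDegree ((χ : IrrCharacter G) : G → ℂ) ^ 2 : ℕ) : ℤ) ≤ 459648 := by
        push_cast
        change deg χ.1 ^ 2 ≤ _
        linarith [mul_nonneg (Int.natCast_nonneg (Xᶜ).card) (sq_nonneg (deg θ.1)), hall, h3]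
      exact_mod_cast h4
  set cnt : ℤ → ℕ := fun v => (X'.filter fun χ => εX χ * deg χ.1 = v).card with hcnt
  have hcount : ∀ F : ℤ → ℤ, ∑ χ ∈ X', F (εX χ * deg χ.1) =
      (cnt (-18) : ℤ) * F (-18) + cnt (-56) * F (-56) + cnt 96 * F 96 + cnt (-189) * F (-189) := by
    intro F
    rw [← Finset.sum_fiberwise_of_maps_to hXv', Finset.sum_congr rfl fun v _ =>
      show ∑ χ ∈ X'.filter (fun χ => εX χ * deg χ.1 = v), F (εX χ * deg χ.1) = (cnt v : ℤ) * F v by
        rw [Finset.sum_congr rfl fun χ hχ => by rw [(Finset.mem_filter.1 hχ).2],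
          Finset.sum_const, nsmul_eq_mul]]
    simp [vals]
    ring
  have hsum := hcount fun _ => 1
  rw [Finset.sum_const, nsmul_eq_mul, hX', Finset.card_erase_of_mem honeX, hX] at hsum
  have hlin := hcount fun v => v
  have hsq : ∑ χ ∈ X', deg χ.1 ^ 2 = (cnt (-18) : ℤ) * 324 + cnt (-56) * 3136 + cnt 96 * 9216
      + cnt (-189) * 35721 := by
    have h := hcount fun v => v ^ 2
    norm_num at h
    rw [← h]
    refine Finset.sum_congr rfl fun χ hχ => ?_
    rcases (hXv χ (Finset.mem_of_mem_erase hχ)).1 with hs | hs <;> rw [hs] <;> ring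
  set f : ℤ := ε * deg θ.1 with hf
  have hfabs : f.natAbs = charDegree ((θ : IrrCharacter G) : G → ℂ) := by
    rcases hε with hs | hs <;> rw [hf, hs] <;> simp [deg]
  have hYcard : ((Xᶜ).card : ℤ) = 18 / (e : ℤ) := by
    rcases he236 with h | h | h <;> rw [h] at hY ⊢ <;> norm_num <;> omega
  rw [hsq, hYcard] at hall
  obtain ⟨he6, hcases⟩ := arith (a := cnt (-18)) (b := cnt (-56)) (c := cnt 96)
    (g := cnt (-189)) he236 (by
      simp only [mul_one] at hsum
      rcases he236 with h | h | h <;> omega) (f := f) (by rw [hT', hlin]; ring)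
    (by
      intro h0
      have := (irr_one θ.1).2
      rw [← hfabs, h0] at this
      simp at this)
    (by rw [hfabs, ← hG]; exact charDegree_dvd_card θ.1)
    (by rw [show f * f = deg θ.1 ^ 2 by rcases hε with hs | hs <;> rw [hf, hs] <;> ring]; linarith)
  -- the involution
  obtain ⟨t, htC, ht⟩ := hinv he6
  have htt : t * t = 1 := by rw [← sq, ← ht, pow_orderOf_eq_one]
  have ht1 : t ≠ 1 := fun h => by rw [h, orderOf_one] at ht; omega
  have htreg : ¬ (19 : ℕ) ∣ orderOf t := by rw [ht]; norm_num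
  have hxt : (x * t) ^ 19 = t := by
    have hc : Commute x t := Subgroup.mem_centralizer_iff.1 htC x hxP
    have hx19 : x ^ 19 = 1 := by
      have := pow_card_eq_one' (x := (⟨x, hxP⟩ : (P : Subgroup G)))
      rw [hP] at this
      exact congrArg Subtype.val this
    rw [hc.mul_pow, hx19, one_mul, show (19 : ℕ) = 2 * 9 + 1 from rfl, pow_succ, pow_mul, sq, htt,
      one_pow, one_mul]
  choose m hm using fun χ : principalBlock M G =>
    InvolValues.invol_mod_four hperf (isCharacter_irr χ.1) htt (irr_one χ.1).1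
  have hmne : ∀ χ, χ ≠ one → m χ ≠ deg χ.1 := fun χ hχ h => by
    refine ColumnData.faithful χ.1.2 (fun h2 => hχ ?_) ?_ ht1 ?_
    · exact Subtype.ext (Subtype.ext h2)
    · intro h2
      refine hχ (h1deg χ ?_)
      rw [hd1] at h2
      exact_mod_cast h2
    · rw [(hm χ).1, hd1, h]
  have hmX : ∀ χ ∈ X, (19 : ℤ) ∣ m χ - εX χ := fun χ hχ =>
    InvolValues.int_value_congr hp (isCharacter_irr χ.1) hxt
      ((hXv χ hχ).2.2 x hxP hx1 t htC htreg) (hm χ).1
  have hfilter : ∀ v : ℤ, v < 0 → ∀ χ ∈ X'.filter (fun χ => εX χ * deg χ.1 = v),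
      χ ∈ X ∧ χ ≠ one ∧ εX χ = -1 ∧ deg χ.1 = -v := fun v hv χ hχ => by
    obtain ⟨hχ', hval⟩ := Finset.mem_filter.1 hχ
    have := hdpos χ
    refine ⟨Finset.mem_of_mem_erase hχ', Finset.ne_of_mem_erase hχ', ?_⟩
    rcases (hXv χ (Finset.mem_of_mem_erase hχ')).1 with hs | hs <;> rw [hs] at hval ⊢ <;> omega
  rcases hcases with ha | ⟨hb, hc, hg⟩
  · obtain ⟨χ, hχ⟩ := Finset.card_pos.1 (show 0 < cnt (-18) by omega)
    obtain ⟨hχX, hne, hs, hd⟩ := hfilter (-18) (by norm_num) χ hχ
    obtain ⟨-, h4, hlo, hhi⟩ := hm χ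
    have h19 := hmX χ hχX
    have h5 := hmne χ hne
    unfold deg at hd h5
    rw [hs] at h19
    omega
  · have hf108 : f = -108 := by
      rw [hT', hlin, hb, hc, hg]
      have : cnt (-18) = 0 := by simp only [mul_one] at hsum; omega
      rw [this]; norm_num
    have hε' : ε = -1 ∧ deg θ.1 = 108 := by
      have := hdpos θ
      rcases hε with hs | hs <;> rw [hf, hs] at hf108 <;> omega
    have hmθ : ε * m θ = ∑ χ ∈ X, εX χ * m χ := by
      have h := hYrel θ hθ t htreg
      simp only [fun χ => (hm χ).1] at h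
      exact_mod_cast h
    have hθ19 : (19 : ℤ) ∣ ε * m θ - 6 := by
      rw [hmθ, show (6 : ℤ) = ∑ _χ ∈ X, (1 : ℤ) by simp [hX, he6], ← Finset.sum_sub_distrib]
      refine Finset.dvd_sum fun χ hχ => ?_
      have h := (hmX χ hχ).mul_left (εX χ)
      rcases (hXv χ hχ).1 with hs | hs <;> rw [hs] at h ⊢ <;> omega
    have hθne : θ ≠ one := fun h => hθ (h ▸ honeX)
    have hθval : m θ = 32 ∨ m θ = -44 := by
      obtain ⟨-, h4, hlo, hhi⟩ := hm θ
      have h5 := hmne θ hθne
      obtain ⟨hs, hd⟩ := hε'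
      unfold deg at hd h5
      rw [hs] at hθ19
      omega
    obtain ⟨χ₁, h₁, χ₂, h₂, h12⟩ := Finset.one_lt_card.1 (show 1 < cnt (-56) by omega)
    have hval : ∀ χ ∈ X'.filter (fun χ => εX χ * deg χ.1 = -56), m χ = -20 ∧ deg χ.1 = 56 :=
      fun χ hχ => by
        obtain ⟨hχX, hne, hs, hd⟩ := hfilter (-56) (by norm_num) χ hχ
        obtain ⟨-, h4, hlo, hhi⟩ := hm χ
        have h19 := hmX χ hχX
        have h5 := hmne χ hne
        unfold deg at hd h5 ⊢
        rw [hs] at h19
        refine ⟨by omega, by omega⟩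
    set h := (Subgroup.centralizer ({t} : Set G)).index with hh
    have hint : ∀ χ : principalBlock M G, ∃ n : ℤ, (h : ℤ) * m χ = n * deg χ.1 := fun χ => by
      have h1 := IsIrrCharacter.isIntegral_class_mul_div χ.1.2 t
      rw [← hh, (hm χ).1, hd1] at h1
      obtain ⟨n, -, hn⟩ := exists_int_of_isIntegral_rat
        ((((h : ℤ) * m χ : ℤ) : ℚ) / (deg χ.1 : ℚ)) h1 (by push_cast; rfl)
      refine ⟨n, ?_⟩
      rw [div_eq_iff (Int.cast_ne_zero.2 (hdpos χ).ne')] at hn
      exact_mod_cast hn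
    have hidx : 189 ∣ h := by
      obtain ⟨n₁, hn₁⟩ := hint χ₁
      obtain ⟨n₂, hn₂⟩ := hint θ
      rw [(hval χ₁ h₁).1, (hval χ₁ h₁).2] at hn₁
      rw [hε'.2] at hn₂
      rcases hθval with hv | hv <;> rw [hv] at hn₂ <;> omega
    have hle := card_centralizer_le hG P hP hN htC hidx
    have hsum2 := sum_sq_le_centralizer t
      (({χ₁, χ₂} : Finset (principalBlock M G)).map (Function.Embedding.subtype _))
      (fun φ => if hφ : φ ∈ principalBlock M G then m ⟨φ, hφ⟩ else 0) (fun φ hφ => by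
        obtain ⟨χ, -, rfl⟩ := Finset.mem_map.1 hφ
        rw [Function.Embedding.coe_subtype, dif_pos χ.2]
        exact (hm χ).1)
    rw [Finset.sum_map, Finset.sum_pair h12] at hsum2
    simp only [Function.Embedding.coe_subtype, dif_pos χ₁.2, dif_pos χ₂.2, Subtype.coe_eta,
      (hval χ₁ h₁).1, (hval χ₂ h₂).1] at hsum2
    omega

end CfsgLib.Order459648
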