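import Cfsg.Agent.SmallSimple.Basic
import Cfsg.Agent.Dickson.MaxPSL

/-!
In `PSL₂(13)` every proper nontrivial subgroup has a maximal normalizer.
-/

set_option autoImplicit false
set_option linter.style.haveILetI false
set_option linter.unusedSectionVars false

namespace CfsgLib.PSLThirteen

open Subgroup

section Abstract

variable {G : Type*} [Group G] [Finite G] [IsSimpleGroup G] (hG : Nat.card G = 1092)
  (hmax : ∀ M : Subgroup G, IsCoatom M → Nat.card M = 78 ∨ Nat.card M = 14 ∨ Nat.card M = 12)

include hG hmax

omit hmax in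
theorem sylow_card (r : ℕ) [Fact r.Prime] (k m : ℕ) (h : 1092 = r ^ k * m) (hm : ¬ r ∣ m)
    (P : Sylow r G) : Nat.card (P : Subgroup G) = r ^ k :=
  SmallSimple.card_sylow_eq P (hG.trans h) hm

omit hG in
theorem dvd_max {X : Subgroup G} (hX : X ≠ ⊤) :
    Nat.card X ∣ 78 ∨ Nat.card X ∣ 14 ∨ Nat.card X ∣ 12 := by
  obtain h | ⟨M, hM, hle⟩ := IsCoatomic.eq_top_or_exists_le_coatom X
  · exact absurd h hX
  · have h := card_dvd_of_le hle
    rcases hmax M hM with hc | hc | hc <;> rw [hc] at h
    · exact Or.inl h
    · exact Or.inr (Or.inl h)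
    · exact Or.inr (Or.inr h)

omit hG in
theorem coatom_of_card {X : Subgroup G} (hX : X ≠ ⊤)
    (h : Nat.card X = 78 ∨ Nat.card X = 14 ∨ Nat.card X = 12) : IsCoatom X := by
  obtain h' | ⟨M, hM, hle⟩ := IsCoatomic.eq_top_or_exists_le_coatom X
  · exact absurd h' hX
  · have hd := card_dvd_of_le hle
    have hc := hmax M hM
    have he : Nat.card M ≤ Nat.card X := by
      rcases h with h | h | h <;> rcases hc with hc | hc | hc <;> rw [h, hc] at hd <;> omega
    exact eq_of_le_of_card_ge hle he ▸ hM

omit hG hmax in
theorem normalizer_ne_top {X : Subgroup G} (h1 : X ≠ ⊥) (h2 : X ≠ ⊤) :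
    normalizer (X : Set G) ≠ ⊤ := fun h =>
  ((normalizer_eq_top_iff.mp h).eq_bot_or_eq_top).elim h1 h2

/-- The possible orders of proper subgroups. -/
theorem card_cases {X : Subgroup G} (hX : X ≠ ⊤) : Nat.card X ∈
    [1, 2, 3, 4, 6, 7, 12, 13, 14, 26, 39, 78] := by
  have hle : Nat.card X ≤ 78 := by
    rcases dvd_max hmax hX with h | h | h <;> have := Nat.le_of_dvd (by norm_num) h <;> omega
  have h := dvd_max hmax hX
  interval_cases hn : Nat.card X <;> simp_all +decide

theorem normalizer_card_seven (P : Sylow 7 G) [Fact (Nat.Prime 7)] :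
    Nat.card (normalizer ((P : Subgroup G) : Set G)) = 14 := by
  have hP := sylow_card hG 7 1 156 (by norm_num) (by norm_num) P
  have hm := SmallSimple.card_sylow_mul P
  have hmod := card_sylow_modEq_one 7 G
  have hne := SmallSimple.card_sylow_ne_one P (by rw [hP]; norm_num) (by rw [hP, hG]; norm_num)
  have hN := card_cases hG hmax (normalizer_ne_top (X := (P : Subgroup G))
    (fun h => by rw [h, card_bot] at hP; norm_num at hP)
    (fun h => by rw [h, card_top, hG] at hP; norm_num at hP))
  have hd : 7 ∣ Nat.card (normalizer ((P : Subgroup G) : Set G)) := by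
    have := card_dvd_of_le (le_normalizer (H := (P : Subgroup G)))
    rwa [hP] at this
  rw [hG] at hm
  simp only [List.mem_cons, List.not_mem_nil, or_false] at hN
  unfold Nat.ModEq at hmod
  rcases hN with h | h | h | h | h | h | h | h | h | h | h | h <;> rw [h] at hd hm ⊢ <;> omega

theorem normalizer_card_three (P : Sylow 3 G) :
    Nat.card (normalizer ((P : Subgroup G) : Set G)) = 12 := by
  have hP := sylow_card hG 3 1 364 (by norm_num) (by norm_num) P
  have hm := SmallSimple.card_sylow_mul P
  have hmod := card_sylow_modEq_one 3 G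
  have hN := card_cases hG hmax (normalizer_ne_top (X := (P : Subgroup G))
    (fun h => by rw [h, card_bot] at hP; norm_num at hP)
    (fun h => by rw [h, card_top, hG] at hP; norm_num at hP))
  have hd : 3 ∣ Nat.card (normalizer ((P : Subgroup G) : Set G)) := by
    have := card_dvd_of_le (le_normalizer (H := (P : Subgroup G)))
    rwa [hP] at this
  have hB := SmallSimple.not_le_centralizer P (by rw [hP]; norm_num) (by rw [hP, hG]; norm_num)
  rw [hG] at hm
  unfold Nat.ModEq at hmod
  simp only [List.mem_cons, List.not_mem_nil, or_false] at hN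
  rw [pow_one] at hP
  rcases hN with h | h | h | h | h | h | h | h | h | h | h | h <;> rw [h] at hd hm ⊢ <;>
    try omega
  · -- order three
    refine absurd ?_ hB
    have he := eq_of_le_of_card_ge (le_normalizer (H := (P : Subgroup G))) (by rw [h, hP])
    haveI : IsMulCommutative (P : Subgroup G) := by
      haveI := isCyclic_of_prime_card hP
      infer_instance
    rw [← he]
    exact le_centralizer _
  · -- order thirty-nine
    refine absurd ?_ hB
    intro g hg
    set N := normalizer ((P : Subgroup G) : Set G) with hNdef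
    have hgen : ∀ x : G, x ∈ (P : Subgroup G) → g * x * g⁻¹ = x := by
      intro x hx
      have h39 : g ^ 39 = 1 := by
        have := pow_card_eq_one' (x := (⟨g, hg⟩ : N))
        rw [h] at this
        simpa using congrArg Subtype.val this
      -- the automiser of a group of order three has exponent two
      let f : G → G := fun z => g * z * g⁻¹
      have hfP : ∀ z ∈ (P : Subgroup G), f z ∈ (P : Subgroup G) := fun z hz =>
        (mem_normalizer_iff.mp hg z).mp hz
      have hsq : ∀ z ∈ (P : Subgroup G), f (f z) = z := by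
        intro z hz
        by_cases hz1 : z = 1
        · simp [f, hz1]
        have hz3 : ∀ w ∈ (P : Subgroup G), w ^ 3 = 1 := fun w hw => by
          have := pow_card_eq_one' (x := (⟨w, hw⟩ : (P : Subgroup G)))
          rw [hP] at this
          simpa using congrArg Subtype.val this
        have hzp : zpowers z = (P : Subgroup G) := eq_of_le_of_card_ge (zpowers_le.mpr hz) (by
          rw [hP, Nat.card_zpowers, orderOf_eq_prime (hz3 z hz) hz1])
        have hf1 : f z ∈ zpowers z := hzp ▸ hfP z hz
        rw [mem_zpowers_iff] at hf1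
        obtain ⟨i, hi⟩ := hf1
        have hfz : ∀ j : ℤ, f (z ^ j) = (f z) ^ j := fun j => by simp [f, conj_zpow]
        have h2 : f (f z) = z ^ (i * i) := by
          conv_lhs => rw [← hi]
          rw [hfz, ← hi, ← zpow_mul]
        have hi3 : ¬ (3 : ℤ) ∣ i := by
          rintro ⟨c, rfl⟩
          have : f z = 1 := by
            rw [← hi, zpow_mul, show z ^ (3 : ℤ) = 1 by exact_mod_cast hz3 z hz, one_zpow]
          exact hz1 (by simpa [f] using this)
        obtain ⟨c, hc⟩ : (3 : ℤ) ∣ i * i - 1 := by
          have h1 : i % 3 = 1 ∨ i % 3 = 2 := by omega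
          rcases h1 with h1 | h1 <;>
            exact Int.dvd_of_emod_eq_zero (by rw [Int.sub_emod, Int.mul_emod, h1]; norm_num)
        rw [h2, show i * i = 1 + 3 * c by omega, zpow_add, zpow_mul, zpow_one,
          show z ^ (3 : ℤ) = 1 by exact_mod_cast hz3 z hz, one_zpow, mul_one]
      have hit : ∀ n : ℕ, g ^ (2 * n) * x * (g ^ (2 * n))⁻¹ = x := by
        intro n
        induction n with
        | zero => simp
        | succ n ih =>
          have := hsq x hx
          simp only [f] at this
          rw [show 2 * (n + 1) = 2 * n + 2 by ring, pow_add]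
          calc g ^ (2 * n) * g ^ 2 * x * (g ^ (2 * n) * g ^ 2)⁻¹
              = g ^ (2 * n) * (g * (g * x * g⁻¹) * g⁻¹) * (g ^ (2 * n))⁻¹ := by
                rw [pow_two]; group
            _ = x := by rw [this, ih]
      have := hit 20
      rwa [show 2 * 20 = 39 + 1 by norm_num, pow_add, h39, one_mul, pow_one] at this
    refine mem_centralizer_iff.mpr fun x hx => ?_
    calc x * g = (g * x * g⁻¹) * g := by rw [hgen x hx]
      _ = g * x := by group

theorem normalizer_card_two (P : Sylow 2 G) :
    Nat.card (normalizer ((P : Subgroup G) : Set G)) = 12 := by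
  have hP := sylow_card hG 2 2 273 (by norm_num) (by norm_num) P
  norm_num at hP
  have hm := SmallSimple.card_sylow_mul P
  have hN := card_cases hG hmax (normalizer_ne_top (X := (P : Subgroup G))
    (fun h => by rw [h, card_bot] at hP; norm_num at hP)
    (fun h => by rw [h, card_top, hG] at hP; norm_num at hP))
  have hd : 4 ∣ Nat.card (normalizer ((P : Subgroup G) : Set G)) := by
    have := card_dvd_of_le (le_normalizer (H := (P : Subgroup G)))
    rwa [hP] at this
  simp only [List.mem_cons, List.not_mem_nil, or_false] at hN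
  rcases hN with h | h | h | h | h | h | h | h | h | h | h | h <;> rw [h] at hd ⊢ <;> try omega
  refine absurd ?_ (SmallSimple.not_le_centralizer P (by rw [hP]; norm_num) (by rw [hP, hG]; norm_num))
  have he := eq_of_le_of_card_ge (le_normalizer (H := (P : Subgroup G))) (by rw [h, hP])
  haveI : IsMulCommutative (P : Subgroup G) :=
    IsPGroup.isMulCommutative_of_card_eq_prime_sq (p := 2) (by rw [hP]; norm_num)
  rw [← he]
  exact le_centralizer _

theorem card_centralizer_involution {t : G} (ht : orderOf t = 2) :
    Nat.card (centralizer ({t} : Set G)) = 12 := by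
  have hzt : IsPGroup 2 (zpowers t) := IsPGroup.of_card (n := 1) (by rw [Nat.card_zpowers, ht, pow_one])
  obtain ⟨S, hS⟩ := hzt.exists_le_sylow
  have hScard := sylow_card hG 2 2 273 (by norm_num) (by norm_num) S
  norm_num at hScard
  haveI : IsMulCommutative (S : Subgroup G) :=
    IsPGroup.isMulCommutative_of_card_eq_prime_sq (p := 2) (by rw [hScard]; norm_num)
  have hab : ∀ a ∈ (S : Subgroup G), ∀ b ∈ (S : Subgroup G), a * b = b * a := fun a ha b hb =>
    setLike_mul_comm ha hb
  have htS : t ∈ (S : Subgroup G) := hS (mem_zpowers t)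
  have hSC : ∀ u ∈ (S : Subgroup G), (S : Subgroup G) ≤ centralizer ({u} : Set G) := fun u hu s hs =>
    mem_centralizer_singleton_iff.mpr (hab s hs u hu)
  have ht1 : t ≠ 1 := fun h => by rw [h, orderOf_one] at ht; omega
  set N := normalizer ((S : Subgroup G) : Set G) with hNdef
  have hNc : Nat.card N = 12 := normalizer_card_two hG hmax S
  have proper : ∀ u : G, u ≠ 1 → centralizer ({u} : Set G) ≠ ⊤ := fun u hu h => by
    have hmem : u ∈ center G := Subgroup.mem_center_iff.mpr fun g =>
      mem_centralizer_singleton_iff.mp (h ▸ mem_top g)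
    rcases (inferInstance : (center G).Normal).eq_bot_or_eq_top with hz | hz
    · exact hu (mem_bot.mp (hz ▸ hmem))
    · refine (SmallSimple.not_comm_of_sylow S (by rw [hScard]; norm_num)
        (by rw [hScard, hG]; norm_num)) ⟨⟨fun a b => ?_⟩⟩
      exact ((Subgroup.mem_center_iff.mp (hz ▸ mem_top a)) b).symm
  -- some involution of `S` has centralizer of order divisible by three
  obtain ⟨y, hy⟩ := exists_prime_orderOf_dvd_card' (G := N) 3 (by rw [hNc]; norm_num)
  have three : 3 ∣ Nat.card (centralizer ({t} : Set G)) := by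
    obtain ⟨Q⟩ : Nonempty (Sylow 3 G) := inferInstance
    have hQ := normalizer_card_three hG hmax Q
    have hQc := sylow_card hG 3 1 364 (by norm_num) (by norm_num) Q
    rw [pow_one] at hQc
    -- a four-subgroup of the normaliser of `Q` has an involution centralizing `Q`
    obtain ⟨T, hTcard⟩ : ∃ T : Subgroup ↥(normalizer ((Q : Subgroup G) : Set G)), Nat.card T = 2 ^ 2 :=
      Sylow.exists_subgroup_card_pow_prime 2 (by rw [hQ]; norm_num)
    have hTQ : ∃ s : G, orderOf s = 2 ∧ (Q : Subgroup G) ≤ centralizer ({s} : Set G) := by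
      haveI : Finite ↥(normalizer ((Q : Subgroup G) : Set G)) := inferInstance
      obtain ⟨x, hx, hxc⟩ : ∃ x : G, x ∈ (Q : Subgroup G) ∧ x ≠ 1 := by
        obtain ⟨x, hx⟩ := exists_prime_orderOf_dvd_card' (G := (Q : Subgroup G)) 3 (by rw [hQc])
        exact ⟨x, x.2, fun h => by
          rw [← Subgroup.orderOf_coe, h, orderOf_one] at hx; omega⟩
      have hzp : zpowers x = (Q : Subgroup G) := eq_of_le_of_card_ge (zpowers_le.mpr hx) (by
        rw [hQc, Nat.card_zpowers]
        have h3 : x ^ 3 = 1 := by
          have := pow_card_eq_one' (x := (⟨x, hx⟩ : (Q : Subgroup G)))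
          rw [hQc] at this
          simpa using congrArg Subtype.val this
        rw [orderOf_eq_prime h3 hxc])
      have himg : ∀ u : T, (u : G) * x * (u : G)⁻¹ = x ∨ (u : G) * x * (u : G)⁻¹ = x⁻¹ := by
        intro u
        have hm : (u : G) * x * (u : G)⁻¹ ∈ zpowers x := by
          rw [hzp]; exact (mem_normalizer_iff.mp u.1.2 x).mp hx
        have hne : (u : G) * x * (u : G)⁻¹ ≠ 1 := by simpa using hxc
        have hord : orderOf x = 3 := by
          rw [← Nat.card_zpowers, hzp, hQc]
        have hx3 : x ^ 3 = 1 := hord ▸ pow_orderOf_eq_one x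
        obtain ⟨i, hi, hix⟩ : ∃ i < 3, x ^ i = (u : G) * x * (u : G)⁻¹ := by
          obtain ⟨n, hn⟩ := (mem_powers_iff_mem_zpowers.mpr hm)
          refine ⟨n % 3, Nat.mod_lt _ (by norm_num), ?_⟩
          rw [show n % 3 = n % orderOf x by rw [hord], pow_mod_orderOf]
          exact hn
        interval_cases i
        · simp only [pow_zero] at hix; exact absurd hix.symm hne
        · simp only [pow_one] at hix; exact Or.inl hix.symm
        · refine Or.inr (hix ▸ ?_)
          rw [eq_inv_iff_mul_eq_one, ← pow_succ]; exact hx3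
      -- the subgroup fixing `x` is nontrivial
      obtain ⟨v, hv1, hv⟩ : ∃ v : T, v ≠ 1 ∧ (v : G) * x * (v : G)⁻¹ = x := by
        by_contra hno
        push Not at hno
        have hinv : ∀ v : T, v ≠ 1 → (v : G) * x * (v : G)⁻¹ = x⁻¹ := fun v hv =>
          (himg v).resolve_left (hno v hv)
        have hall : ∀ v w : T, v ≠ 1 → w ≠ 1 → v * w = 1 := by
          intro v w hv hw
          by_contra hvw
          refine hno _ hvw ?_
          push_cast
          calc (v : G) * (w : G) * x * ((v : G) * (w : G))⁻¹
              = (v : G) * ((w : G) * x * (w : G)⁻¹) * (v : G)⁻¹ := by group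
            _ = ((v : G) * x * (v : G)⁻¹)⁻¹ := by rw [hinv w hw]; group
            _ = x := by rw [hinv v hv, inv_inv]
        have hsub : (Set.univ : Set T).ncard ≤ 2 := by
          obtain ⟨v, hv⟩ : ∃ v : T, v ≠ 1 := by
            by_contra hh
            push Not at hh
            have : Nat.card T ≤ 1 := Finite.card_le_one_iff_subsingleton.mpr
              ⟨fun a b => (hh a).trans (hh b).symm⟩
            omega
          refine (Set.ncard_le_ncard (t := {1, v}) (fun w _ => ?_)).trans
            ((Set.ncard_insert_le _ _).trans (by simp))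
          by_cases hw : w = 1
          · exact Or.inl hw
          · exact Or.inr (mul_left_cancel ((hall v w hv hw).trans (hall v v hv hv).symm))
        rw [Set.ncard_univ] at hsub
        omega
      have hvp : IsPGroup 2 (zpowers (v : G)) := by
        refine IsPGroup.of_card (n := (Nat.factorization (orderOf (v : G))) 2) ?_
        rw [Nat.card_zpowers]
        have hd : orderOf (v : G) ∣ 2 ^ 2 := by
          rw [← hTcard, Subgroup.orderOf_coe, Subgroup.orderOf_coe]
          exact orderOf_dvd_natCard v
        obtain ⟨j, -, hj⟩ := (Nat.dvd_prime_pow Nat.prime_two).mp hd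
        rw [hj, Nat.prime_two.factorization_pow, Finsupp.single_eq_same]
      have hvne : (v : G) ≠ 1 := fun h => hv1 (Subtype.ext (Subtype.ext h))
      obtain ⟨k, hk⟩ := IsPGroup.iff_card.mp hvp
      have h2d : 2 ∣ Nat.card (zpowers (v : G)) := by
        rw [hk]
        refine dvd_pow_self 2 fun h => ?_
        rw [h, pow_zero, Nat.card_zpowers, orderOf_eq_one_iff] at hk
        exact hvne hk
      obtain ⟨s, hs⟩ := exists_prime_orderOf_dvd_card' (G := zpowers (v : G)) 2 h2d
      refine ⟨s, by rw [Subgroup.orderOf_coe, hs], ?_⟩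
      refine hzp.ge.trans (zpowers_le.mpr (mem_centralizer_singleton_iff.mpr ?_))
      obtain ⟨i, hi⟩ := mem_zpowers_iff.mp s.2
      have hcomm : Commute (v : G) x := mul_inv_eq_iff_eq_mul.mp hv
      rw [← hi]
      exact ((hcomm.zpow_left i).eq).symm
    obtain ⟨s, hs2, hsQ⟩ := hTQ
    have hCs : 3 ∣ Nat.card (centralizer ({s} : Set G)) := hQc ▸ card_dvd_of_le hsQ
    -- `y` either centralizes `t` or moves the involutions transitively
    by_cases hyt : (y : G) * t * (y : G)⁻¹ = t
    · have : (y : G) ∈ centralizer ({t} : Set G) :=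
        mem_centralizer_singleton_iff.mpr (mul_inv_eq_iff_eq_mul.mp hyt)
      have hd := orderOf_dvd_natCard (⟨(y : G), this⟩ : centralizer ({t} : Set G))
      have hd' : orderOf (y : G) ∣ Nat.card (centralizer ({t} : Set G)) := by
        rw [← Subgroup.orderOf_coe] at hd
        exact hd
      rwa [Subgroup.orderOf_coe, hy] at hd'
    · have hzs : IsPGroup 2 (zpowers s) := IsPGroup.of_card (n := 1) (by rw [Nat.card_zpowers, hs2, pow_one])
      obtain ⟨S', hS'⟩ := hzs.exists_le_sylow
      obtain ⟨g, hg⟩ := MulAction.exists_smul_eq G S' S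
      have hsS : g * s * g⁻¹ ∈ (S : Subgroup G) := by
        have hmem : g * s * g⁻¹ ∈ ((g • S' : Sylow 2 G) : Subgroup G) :=
          Subgroup.mem_map_of_mem _ (hS' (mem_zpowers s))
        rwa [hg] at hmem
      -- the three conjugates of `t` exhaust the involutions of `S`
      set t1 := (y : G) * t * (y : G)⁻¹ with ht1def
      set t2 := (y : G) * t1 * (y : G)⁻¹ with ht2def
      have hy3 : (y : G) ^ 3 = 1 := by
        have := pow_orderOf_eq_one (y : G)
        rwa [Subgroup.orderOf_coe, hy] at this
      have ht3 : (y : G) * t2 * (y : G)⁻¹ = t := by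
        calc (y : G) * t2 * (y : G)⁻¹ = (y : G) ^ 3 * t * ((y : G) ^ 3)⁻¹ := by
              rw [ht2def, ht1def, pow_succ, pow_two]; group
          _ = t := by rw [hy3]; simp
      have hcon : ∀ z, z ∈ (S : Subgroup G) → (y : G) * z * (y : G)⁻¹ ∈ (S : Subgroup G) :=
        fun z hz => (mem_normalizer_iff.mp y.2 z).mp hz
      have hne2 : t2 ≠ t := fun h => hyt (by
        rw [h] at ht3; exact ht3)
      have hne12 : t2 ≠ t1 := fun h => by
        apply hyt
        have := h
        rw [ht2def] at this
        nth_rw 2 [ht1def] at this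
        exact mul_left_cancel (mul_right_cancel this)
      have hcover : ∀ z ∈ (S : Subgroup G), z ≠ 1 → z = t ∨ z = t1 ∨ z = t2 := by
        intro z hz hz1
        by_contra hno
        push Not at hno
        have hc : ({1, t, t1, t2, z} : Set G).ncard ≤ ((S : Subgroup G) : Set G).ncard := by
          refine Set.ncard_le_ncard ?_
          rintro w (rfl | rfl | rfl | rfl | rfl)
          · exact one_mem _
          · exact htS
          · exact hcon t htS
          · exact hcon _ (hcon t htS)
          · exact hz
        have hne1 : t1 ≠ 1 := by rw [ht1def]; simpa using ht1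
        have hne1' : t2 ≠ 1 := by rw [ht2def]; simpa using hne1
        rw [Set.ncard_insert_of_notMem (by simp [Ne.symm ht1, Ne.symm hne1, Ne.symm hne1', Ne.symm hz1]),
          Set.ncard_insert_of_notMem (by simp [Ne.symm hyt, Ne.symm hne2, Ne.symm hno.1]),
          Set.ncard_insert_of_notMem (by simp [Ne.symm hne12, Ne.symm hno.2.1]),
          Set.ncard_pair (Ne.symm hno.2.2)] at hc
        rw [← Nat.card_coe_set_eq] at hc
        simp only [SetLike.coe_sort_coe] at hc
        omega
      obtain ⟨c, hc⟩ : ∃ c : G, c * (g * s * g⁻¹) * c⁻¹ = t := by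
        rcases hcover _ hsS (fun h => by
          have : s = 1 := by simpa using h
          rw [this, orderOf_one] at hs2; omega) with h | h | h
        · exact ⟨1, by simp [h]⟩
        · refine ⟨(y : G) * (y : G), ?_⟩
          rw [h]
          calc (y : G) * (y : G) * t1 * ((y : G) * (y : G))⁻¹
              = (y : G) * t2 * (y : G)⁻¹ := by rw [ht2def]; group
            _ = t := ht3
        · exact ⟨(y : G), by rw [h]; exact ht3⟩
      have hmap : (centralizer ({s} : Set G)).map (MulAut.conj (c * g)).toMonoidHom ≤
          centralizer ({t} : Set G) := by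
        rintro _ ⟨w, hw, rfl⟩
        rw [mem_centralizer_singleton_iff]
        have hw' : w * s = s * w := mem_centralizer_singleton_iff.mp hw
        simp only [MulEquiv.coe_toMonoidHom, MulAut.conj_apply]
        rw [← hc]
        calc c * g * w * (c * g)⁻¹ * (c * (g * s * g⁻¹) * c⁻¹) = c * g * (w * s) * (c * g)⁻¹ := by group
          _ = c * g * (s * w) * (c * g)⁻¹ := by rw [hw']
          _ = c * (g * s * g⁻¹) * c⁻¹ * (c * g * w * (c * g)⁻¹) := by group
      refine dvd_trans hCs ?_
      rw [← card_map_of_injective (f := (MulAut.conj (c * g)).toMonoidHom) (MulEquiv.injective _)]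
      exact card_dvd_of_le hmap
  have h4 : 4 ∣ Nat.card (centralizer ({t} : Set G)) := hScard ▸ card_dvd_of_le (hSC t htS)
  have hcs := card_cases hG hmax (proper t ht1)
  simp only [List.mem_cons, List.not_mem_nil, or_false] at hcs
  rcases hcs with h | h | h | h | h | h | h | h | h | h | h | h <;> rw [h] at three h4 ⊢ <;> omega

/-- The normalizer of every proper nontrivial subgroup is maximal. -/
theorem coatom_normalizer (hB : ∀ P : Sylow 13 G, Nat.card (normalizer ((P : Subgroup G) : Set G)) = 78)
    {H : Subgroup G} (h1 : H ≠ ⊥) (h2 : H ≠ ⊤) : IsCoatom (normalizer (H : Set G)) := by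
  have hN := normalizer_ne_top h1 h2
  refine coatom_of_card hmax hN ?_
  have hle := card_dvd_of_le (le_normalizer (H := H))
  have hcs := card_cases hG hmax h2
  have hNs := card_cases hG hmax hN
  simp only [List.mem_cons, List.not_mem_nil, or_false] at hcs hNs
  have hH1 : Nat.card H ≠ 1 := fun h => h1 (card_eq_one.mp h)
  by_cases h13 : 13 ∣ Nat.card H
  · -- the Borel case
    haveI : Fact (Nat.Prime 13) := ⟨by norm_num⟩
    obtain ⟨x, hx⟩ := exists_prime_orderOf_dvd_card' (G := H) 13 h13
    have hxp : IsPGroup 13 (zpowers (x : G)) :=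
      IsPGroup.of_card (n := 1) (by rw [Nat.card_zpowers, Subgroup.orderOf_coe, hx, pow_one])
    obtain ⟨P, hP⟩ := hxp.exists_le_sylow
    have hPc := sylow_card hG 13 1 84 (by norm_num) (by norm_num) P
    rw [pow_one] at hPc
    have hPeq : zpowers (x : G) = P := eq_of_le_of_card_ge hP
      (by rw [hPc, Nat.card_zpowers, Subgroup.orderOf_coe, hx])
    have hPH : (P : Subgroup G) ≤ H := hPeq ▸ zpowers_le.mpr x.2
    set B := normalizer ((P : Subgroup G) : Set G) with hBdef
    have hBcard := hB P
    -- `P` is normal in `H`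
    have hHB : H ≤ B := by
      have hd : Nat.card (Sylow 13 H) * Nat.card (normalizer (((P.subtype hPH) : Subgroup H) : Set H)) =
          Nat.card H := SmallSimple.card_sylow_mul _
      have hmod := card_sylow_modEq_one 13 H
      have hone : Nat.card (Sylow 13 H) = 1 := by
        have hdv : Nat.card (Sylow 13 H) ∣ Nat.card H := Dvd.intro _ hd
        have hle : Nat.card (Sylow 13 H) ≤ 78 := by
          have := Nat.le_of_dvd Nat.card_pos hdv
          omega
        unfold Nat.ModEq at hmod
        rcases hcs with h | h | h | h | h | h | h | h | h | h | h | h <;> rw [h] at hdv h13 <;>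
          try omega
        all_goals
          interval_cases hn : Nat.card (Sylow 13 H) <;> omega
      haveI : Subsingleton (Sylow 13 H) := (Nat.card_eq_one_iff_unique.mp hone).1
      have hn : ((P.subtype hPH : Sylow 13 H) : Subgroup H).Normal := Sylow.normal_of_subsingleton _
      rw [Sylow.coe_subtype] at hn
      exact (normal_subgroupOf_iff_le_normalizer hPH).mp hn
    -- the centralizer of `P` in `B` is `P`
    have hC : ∀ c : G, (∀ z ∈ (P : Subgroup G), c * z = z * c) → c ∈ (P : Subgroup G) := by
      intro c hc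
      set C := centralizer ((P : Subgroup G) : Set G) with hCdef
      have hCB : C ≤ B := centralizer_le_normalizer _
      haveI : IsMulCommutative (P : Subgroup G) := by
        haveI := isCyclic_of_prime_card hPc
        infer_instance
      have hPC : (P : Subgroup G) ≤ C := le_centralizer _
      have hCd : Nat.card C ∣ 78 := hBcard ▸ card_dvd_of_le hCB
      have hcC : c ∈ C := mem_centralizer_iff.mpr fun z hz => (hc z hz).symm
      suffices hCc : Nat.card C ≤ 13 by
        exact (eq_of_le_of_card_ge hPC (hPc.symm ▸ hCc)).symm.le hcC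
      by_contra hlt
      push Not at hlt
      obtain ⟨q, hq, hqd, hq13⟩ : ∃ q : ℕ, q.Prime ∧ q ∣ Nat.card C ∧ (q = 2 ∨ q = 3) := by
        have : 13 ∣ Nat.card C := hPc ▸ card_dvd_of_le hPC
        have hle : Nat.card C ≤ 78 := Nat.le_of_dvd (by norm_num) hCd
        obtain ⟨k, hk⟩ := this
        have hk6 : k ∣ 6 := by
          rw [hk] at hCd
          exact Nat.dvd_of_mul_dvd_mul_left (by norm_num : 0 < 13) (by simpa using hCd)
        have hk1 : k ≠ 1 := fun h => by rw [h] at hk; omega
        have hk0 : k ≤ 6 := Nat.le_of_dvd (by norm_num) hk6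
        interval_cases k
        · omega
        · omega
        · exact ⟨2, Nat.prime_two, hk ▸ ⟨13, rfl⟩, Or.inl rfl⟩
        · exact ⟨3, Nat.prime_three, hk ▸ ⟨13, rfl⟩, Or.inr rfl⟩
        · omega
        · omega
        · exact ⟨2, Nat.prime_two, hk ▸ ⟨39, rfl⟩, Or.inl rfl⟩
      haveI := Fact.mk hq
      obtain ⟨u, hu⟩ := exists_prime_orderOf_dvd_card' (G := C) q hqd
      have hu' : orderOf (u : G) = q := by rw [Subgroup.orderOf_coe, hu]
      have hPu : ∀ z ∈ (P : Subgroup G), z * (u : G) = (u : G) * z := fun z hz =>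
        mem_centralizer_iff.mp u.2 z hz
      rcases hq13 with rfl | rfl
      · have h12 := card_centralizer_involution hG hmax hu'
        have : 13 ∣ 12 := h12 ▸ hPc ▸ card_dvd_of_le (H := (P : Subgroup G))
          (K := centralizer {(u : G)}) (fun z hz => mem_centralizer_singleton_iff.mpr (hPu z hz))
        omega
      · have hup : IsPGroup 3 (zpowers (u : G)) :=
          IsPGroup.of_card (n := 1) (by rw [Nat.card_zpowers, hu', pow_one])
        obtain ⟨R, hR⟩ := hup.exists_le_sylow
        have hRc := sylow_card hG 3 1 364 (by norm_num) (by norm_num) R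
        have hReq : zpowers (u : G) = R := eq_of_le_of_card_ge hR
          (by rw [hRc, Nat.card_zpowers, hu', pow_one])
        have : 13 ∣ 12 := normalizer_card_three hG hmax R ▸ hPc ▸ card_dvd_of_le
          (H := (P : Subgroup G)) (K := normalizer ((R : Subgroup G) : Set G)) (fun z hz => by
            refine centralizer_le_normalizer _ (mem_centralizer_iff.mpr fun w hw => ?_)
            rw [← hReq] at hw
            obtain ⟨i, rfl⟩ := mem_zpowers_iff.mp hw
            exact ((Commute.zpow_left (hPu z hz).symm i).eq))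
        omega
    have hBN : B ≤ normalizer (H : Set G) := by
      have key : ∀ b ∈ B, ∀ h ∈ H, b * h * b⁻¹ ∈ H := by
        intro b hb h hh
        have hcp : b * h * b⁻¹ * h⁻¹ ∈ (P : Subgroup G) := by
          refine hC _ fun z hz => ?_
          haveI := isCyclic_of_prime_card hPc
          obtain ⟨g0, hg0⟩ := IsCyclic.exists_generator (α := (P : Subgroup G))
          obtain ⟨k, hk⟩ := mem_zpowers_iff.mp (hg0 ⟨z, hz⟩)
          have hk' : (g0 : G) ^ k = z := congrArg Subtype.val hk
          have act : ∀ a ∈ B, ∃ i : ℤ, a * (g0 : G) * a⁻¹ = (g0 : G) ^ i := by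
            intro a ha
            obtain ⟨i, hi⟩ := mem_zpowers_iff.mp
              (hg0 ⟨_, (mem_normalizer_iff.mp ha _).mp g0.2⟩)
            exact ⟨i, (congrArg Subtype.val hi).symm⟩
          have hbB := act b hb
          obtain ⟨i, hi⟩ := hbB
          obtain ⟨j, hj⟩ := act h (hHB hh)
          have hci : b⁻¹ * (g0 : G) ^ i * b = g0 := by rw [← hi]; group
          have e2 : b * ((g0 : G) ^ j) * b⁻¹ = (g0 : G) ^ (i * j) := by
            rw [← conj_zpow, hi, ← zpow_mul]
          have e1 : h * ((g0 : G) ^ i) * h⁻¹ = (g0 : G) ^ (i * j) := by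
            rw [← conj_zpow, hj, ← zpow_mul, mul_comm]
          have hfix : Commute (b * h * b⁻¹ * h⁻¹) ((g0 : G) ^ (i * j)) := by
            show _ = _
            have : b * h * b⁻¹ * h⁻¹ * (g0 : G) ^ (i * j) * (b * h * b⁻¹ * h⁻¹)⁻¹ =
                (g0 : G) ^ (i * j) := by
              calc _ = b * (h * (b⁻¹ * (h⁻¹ * (g0 : G) ^ (i * j) * h) * b) * h⁻¹) * b⁻¹ := by group
                _ = b * (h * (b⁻¹ * (g0 : G) ^ i * b) * h⁻¹) * b⁻¹ := by rw [← e1]; group
                _ = b * ((g0 : G) ^ j) * b⁻¹ := by rw [hci, hj]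
                _ = _ := e2
            exact mul_inv_eq_iff_eq_mul.mp this
          -- `g0 ^ (i * j)` is again a generator
          have hgen : z ∈ zpowers ((g0 : G) ^ (i * j)) := by
            have hne : (g0 : G) ^ (i * j) ≠ 1 := by
              rw [← e2]
              intro hh'
              have hh2 : (g0 : G) ^ j = 1 := by simpa using hh'
              rw [← hj] at hh2
              have hh3 : (g0 : G) = 1 := by simpa using hh2
              have hg1 : g0 = 1 := Subtype.ext hh3
              have : Nat.card (P : Subgroup G) ≤ 1 := Finite.card_le_one_iff_subsingleton.mpr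
                ⟨fun a c => by
                  have ha := hg0 a; have hc := hg0 c
                  rw [hg1, zpowers_one_eq_bot, mem_bot] at ha hc
                  rw [ha, hc]⟩
              omega
            have hmem : (g0 : G) ^ (i * j) ∈ (P : Subgroup G) := zpow_mem g0.2 _
            have hp13 : ((g0 : G) ^ (i * j)) ^ 13 = 1 := by
              have := pow_card_eq_one' (x := (⟨_, hmem⟩ : (P : Subgroup G)))
              rw [hPc] at this
              simpa using congrArg Subtype.val this
            rw [eq_of_le_of_card_ge (zpowers_le.mpr hmem)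
              (by rw [hPc, Nat.card_zpowers, orderOf_eq_prime hp13 hne])]
            exact hz
          obtain ⟨m, rfl⟩ := mem_zpowers_iff.mp hgen
          exact (hfix.zpow_right m).eq
        have := mul_mem (hPH hcp) hh
        rwa [inv_mul_cancel_right] at this
      intro b hb
      rw [mem_normalizer_iff]
      refine fun h => ⟨key b hb h, fun hh => ?_⟩
      have := key _ (inv_mem hb) _ hh
      simpa [mul_assoc] using this
    have := card_dvd_of_le hBN
    rw [hBcard] at this
    rcases hNs with h | h | h | h | h | h | h | h | h | h | h | h <;> rw [h] at this ⊢ <;> omega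
  -- small orders
  have sub_le : ∀ (r : ℕ) [Fact r.Prime], r ∣ Nat.card H → ∀ k m : ℕ, 1092 = r ^ k * m → ¬ r ∣ m →
      Nat.card H = r ^ k → ∃ P : Sylow r G, H = P := by
    intro r _ _ k m hkm hm hH
    obtain ⟨P, hP⟩ := (IsPGroup.of_card hH).exists_le_sylow
    exact ⟨P, eq_of_le_of_card_ge hP (by rw [hH, sylow_card hG r k m hkm hm P])⟩
  rcases hcs with h | h | h | h | h | h | h | h | h | h | h | h
  · exact absurd h hH1
  · -- order two
    obtain ⟨x, hx⟩ := exists_prime_orderOf_dvd_card' (G := H) 2 (by rw [h])
    have hx' : orderOf (x : G) = 2 := by rw [Subgroup.orderOf_coe, hx]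
    have hHx : zpowers (x : G) = H :=
      eq_of_le_of_card_ge (zpowers_le.mpr x.2) (by rw [h, Nat.card_zpowers, hx'])
    have hC := card_centralizer_involution hG hmax hx'
    have hCN : centralizer ({(x : G)} : Set G) ≤ normalizer (H : Set G) := by
      refine le_trans ?_ (congrArg (fun K : Subgroup G => normalizer (K : Set G)) hHx).le
      intro c hc
      refine centralizer_le_normalizer _ (mem_centralizer_iff.mpr fun w hw => ?_)
      obtain ⟨i, rfl⟩ := mem_zpowers_iff.mp hw
      exact (Commute.zpow_left (mem_centralizer_singleton_iff.mp hc).symm i).eq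
    have := card_dvd_of_le hCN
    rw [hC] at this
    rcases hNs with h | h | h | h | h | h | h | h | h | h | h | h <;> rw [h] at this ⊢ <;> omega
  · obtain ⟨P, rfl⟩ := sub_le 3 (by rw [h]) 1 364 (by norm_num) (by norm_num) (by rw [h, pow_one])
    exact Or.inr (Or.inr (normalizer_card_three hG hmax P))
  · obtain ⟨P, rfl⟩ := sub_le 2 (by rw [h]; norm_num) 2 273 (by norm_num) (by norm_num) (by rw [h]; norm_num)
    exact Or.inr (Or.inr (normalizer_card_two hG hmax P))
  · -- order six
    obtain ⟨x, hx⟩ := exists_prime_orderOf_dvd_card' (G := H) 3 (h ▸ ⟨2, rfl⟩)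
    have hxp : IsPGroup 3 (zpowers (x : G)) :=
      IsPGroup.of_card (n := 1) (by rw [Nat.card_zpowers, Subgroup.orderOf_coe, hx, pow_one])
    obtain ⟨P, hP⟩ := hxp.exists_le_sylow
    have hPc := sylow_card hG 3 1 364 (by norm_num) (by norm_num) P
    have hPeq : zpowers (x : G) = P := eq_of_le_of_card_ge hP
      (by rw [hPc, Nat.card_zpowers, Subgroup.orderOf_coe, hx, pow_one])
    have hPH : (P : Subgroup G) ≤ H := hPeq ▸ zpowers_le.mpr x.2
    have hN3 := normalizer_card_three hG hmax P
    have hHN : H ≤ normalizer ((P : Subgroup G) : Set G) := by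
      refine (normal_subgroupOf_iff_le_normalizer hPH).mp (normal_of_index_eq_two ?_)
      have := (P : Subgroup G).subgroupOf H |>.card_mul_index
      rw [Nat.card_congr (subgroupOfEquivOfLe hPH).toEquiv, hPc, h] at this
      omega
    have hNN : normalizer ((P : Subgroup G) : Set G) ≤ normalizer (H : Set G) := by
      refine (normal_subgroupOf_iff_le_normalizer hHN).mp (normal_of_index_eq_two ?_)
      have := H.subgroupOf (normalizer ((P : Subgroup G) : Set G)) |>.card_mul_index
      rw [Nat.card_congr (subgroupOfEquivOfLe hHN).toEquiv, hN3, h] at this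
      omega
    have := card_dvd_of_le hNN
    rw [hN3] at this
    rcases hNs with h | h | h | h | h | h | h | h | h | h | h | h <;> rw [h] at this ⊢ <;> omega
  · haveI : Fact (Nat.Prime 7) := ⟨by norm_num⟩
    obtain ⟨P, rfl⟩ := sub_le 7 (by rw [h]) 1 156 (by norm_num) (by norm_num) (by rw [h, pow_one])
    exact Or.inr (Or.inl (normalizer_card_seven hG hmax P))
  · rw [h] at hle
    rcases hNs with h' | h' | h' | h' | h' | h' | h' | h' | h' | h' | h' | h' <;> rw [h'] at hle ⊢ <;> omega
  · exact absurd (by rw [h]) h13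
  · rw [h] at hle
    rcases hNs with h' | h' | h' | h' | h' | h' | h' | h' | h' | h' | h' | h' <;> rw [h'] at hle ⊢ <;> omega
  · exact absurd (h ▸ ⟨2, rfl⟩) h13
  · exact absurd (h ▸ ⟨3, rfl⟩) h13
  · exact absurd (h ▸ ⟨6, rfl⟩) h13

end Abstract

open CfsgLib.Linear.PSLTwo CfsgLib.Dickson.MaxSub in
/-- The maximal subgroups of `PSL₂(13)` have orders 78, 14 and 12. -/
theorem facts [Fact (Nat.Prime 13)] :
    Nat.card (Matrix.ProjectiveSpecialLinearGroup (Fin 2) (ZMod 13)) = 1092 ∧
    (∀ P : Sylow 13 (Matrix.ProjectiveSpecialLinearGroup (Fin 2) (ZMod 13)),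
      Nat.card (normalizer ((P : Subgroup (Matrix.ProjectiveSpecialLinearGroup (Fin 2) (ZMod 13))) :
        Set (Matrix.ProjectiveSpecialLinearGroup (Fin 2) (ZMod 13)))) = 78) ∧
    ∀ M : Subgroup (Matrix.ProjectiveSpecialLinearGroup (Fin 2) (ZMod 13)), IsCoatom M →
      Nat.card M = 78 ∨ Nat.card M = 14 ∨ Nat.card M = 12 := by
  have hq : Nat.card (ZMod 13) = 13 := by rw [Nat.card_zmod]
  have hcard : Nat.card (Matrix.ProjectiveSpecialLinearGroup (Fin 2) (ZMod 13)) = 1092 := by
    have := two_mul_card_psl (ZMod 13) (by rw [hq]; decide)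
    simp only [hq] at this
    norm_num at this ⊢
    linarith
  have hnorm : ∀ P : Sylow 13 (Matrix.ProjectiveSpecialLinearGroup (Fin 2) (ZMod 13)),
      Nat.card (normalizer ((P : Subgroup (Matrix.ProjectiveSpecialLinearGroup (Fin 2) (ZMod 13))) :
        Set (Matrix.ProjectiveSpecialLinearGroup (Fin 2) (ZMod 13)))) = 78 := by
    intro P
    have h1 := index_normalizer (p := 13) P
    have h2 := (normalizer ((P : Subgroup (Matrix.ProjectiveSpecialLinearGroup (Fin 2) (ZMod 13))) :
        Set (Matrix.ProjectiveSpecialLinearGroup (Fin 2) (ZMod 13)))).card_mul_index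
    rw [h1, hq, hcard] at h2
    omega
  refine ⟨hcard, hnorm, fun M hM => ?_⟩
  rcases psl_max (p := 13) (by rw [hq]; norm_num) hM with ⟨P, rfl⟩ | ⟨c, hc, ⟨d⟩⟩ | ⟨-, -, ⟨d⟩⟩ |
    ⟨-, ⟨-, h⟩, -⟩ | ⟨-, -, ⟨h, -⟩, -⟩ | ⟨f, m, hf, heq, hm, -⟩
  · exact Or.inl (hnorm P)
  · rw [hq] at hc
    have hcc : Nat.card M = 2 * (c / 2) := by
      rw [Nat.card_congr d.toEquiv, DihedralGroup.nat_card, hq]
      norm_num
    rcases hc with hc | hc
    · right; right; omega
    · right; left; omega
  · refine Or.inr (Or.inr ?_)
    rw [Nat.card_congr d.toEquiv]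
    rw [nat_card_alternatingGroup, Nat.card_fin]
    rfl
  · omega
  · rw [hq] at h; omega
  · exfalso
    rw [hq, ← pow_mul] at heq
    have h1 : f * m = 1 := by
      have := Nat.pow_right_injective (a := 13) (by norm_num) (show 13 ^ 1 = 13 ^ (f * m) by simpa using heq)
      omega
    exact hm.one_lt.ne' (Nat.eq_one_of_mul_eq_one_left h1)

/-- Every proper nontrivial subgroup of `PSL₂(13)` has maximal normalizer. -/
theorem psl_coatom {H : Subgroup (Matrix.ProjectiveSpecialLinearGroup (Fin 2) (ZMod 13))}
    (h1 : H ≠ ⊥) (h2 : H ≠ ⊤) :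
    IsCoatom (normalizer (H : Set (Matrix.ProjectiveSpecialLinearGroup (Fin 2) (ZMod 13)))) := by
  haveI : Fact (Nat.Prime 13) := ⟨by norm_num⟩
  haveI := CfsgLib.Linear.PSLTwo.isSimple (F := ZMod 13) (by rw [Nat.card_zmod]; norm_num)
  obtain ⟨hc, hB, hmax⟩ := facts
  exact coatom_normalizer hc hmax hB h1 h2

end CfsgLib.PSLThirteen
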