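import Cfsg.Agent.SmallSimple.Basic
import Mathlib.GroupTheory.SpecificGroups.Cyclic
import Mathlib.GroupTheory.Perm.Cycle.Type

/-!
# The normalizer of a Sylow 19-subgroup in a simple group of order 459648
-/

set_option autoImplicit false
set_option linter.style.haveILetI false

namespace CfsgLib.Order459648

open CfsgLib.SmallSimple Subgroup

theorem nineteen_divisor {n : ℕ} (h : n ∣ 24192) (hmod : n % 19 = 1) :
    n = 1 ∨ n = 96 ∨ n = 1008 := by
  obtain ⟨q, hq⟩ := h
  rcases le_or_gt n 155 with hn | hn
  · interval_cases n <;> omega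
  · have hq0 : q ≤ 155 := by
      by_contra hc
      have : 156 * 156 ≤ n * q := Nat.mul_le_mul (by omega) (by omega)
      omega
    interval_cases q <;> omega

/-- An element commuting with a cycle of prime length `19` fixes every moved point when the space
has fewer than `133` points. -/
theorem smul_eq_of_commute {G Ω : Type*} [Group G] [MulAction G Ω] [Finite Ω] {x y : G}
    (hxy : Commute x y) (hx : x ^ 19 = 1) (hy : y ^ 7 = 1) (hcard : Nat.card Ω < 133) {Q : Ω}
    (hxQ : x • Q ≠ Q) : y • Q = Q := by
  set z := x * y with hz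
  set k := Function.minimalPeriod (z • ·) Q with hk
  have hzpow : z ^ 133 = 1 := by
    rw [hz, hxy.mul_pow, show (133 : ℕ) = 19 * 7 from rfl, pow_mul, hx, one_pow, one_mul,
      show (19 * 7 : ℕ) = 7 * 19 from rfl, pow_mul, hy, one_pow]
  have hdvd : k ∣ 133 := MulAction.pow_smul_eq_iff_minimalPeriod_dvd.1 (by rw [hzpow, one_smul])
  have hle : k ≤ Nat.card Ω := by
    haveI := Fintype.ofFinite (MulAction.orbit (zpowers z) Q)
    rw [hk, MulAction.minimalPeriod_eq_card, ← Nat.card_eq_fintype_card]
    exact Nat.card_le_card_of_injective _ Subtype.val_injective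
  have hfix : ∀ j : ℕ, k ∣ j → z ^ j • Q = Q := fun j =>
    MulAction.pow_smul_eq_iff_minimalPeriod_dvd.2
  have hcases : k ∣ 7 ∨ k ∣ 19 := by
    have hm : k ∈ Nat.divisors 133 := Nat.mem_divisors.2 ⟨hdvd, by norm_num⟩
    rw [show Nat.divisors 133 = ({1, 7, 19, 133} : Finset ℕ) by decide] at hm
    simp only [Finset.mem_insert, Finset.mem_singleton] at hm
    rcases hm with h | h | h | h
    · exact Or.inl (h ▸ one_dvd 7)
    · exact Or.inl h.dvd
    · exact Or.inr h.dvd
    · omega
  rcases hcases with h | h
  · refine absurd ?_ hxQ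
    have h7 : x ^ 7 • Q = Q := by
      have := hfix 7 h
      rwa [hz, hxy.mul_pow, hy, mul_one] at this
    have h77 : (x ^ 7) ^ 11 = x := by
      rw [← pow_mul, show 7 * 11 = 19 * 4 + 1 from rfl, pow_succ, pow_mul, hx, one_pow, one_mul]
    rw [← h77]
    exact MulAction.mem_stabilizer_iff.1 (pow_mem (MulAction.mem_stabilizer_iff.2 h7) 11)
  · have h19 : y ^ 19 • Q = Q := by
      have := hfix 19 h
      rwa [hz, hxy.mul_pow, hx, one_mul] at this
    have h57 : (y ^ 19) ^ 3 = y := by
      rw [← pow_mul, show 19 * 3 = 7 * 8 + 1 from rfl, pow_succ, pow_mul, hy, one_pow, one_mul]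
    rw [← h57]
    exact MulAction.mem_stabilizer_iff.1 (pow_mem (MulAction.mem_stabilizer_iff.2 h19) 3)

universe u

variable {G : Type u} [Group G] [Finite G]

/-- The index of the centralizer in the normalizer of a cyclic group of order `19` divides `18`. -/
theorem relIndex_dvd (P : Subgroup G) (hP : Nat.card P = 19) :
    (centralizer (P : Set G)).relIndex (normalizer (P : Set G)) ∣ 18 := by
  haveI : Fact (Nat.Prime 19) := ⟨by norm_num⟩
  haveI : IsCyclic P := isCyclic_of_prime_card hP
  rw [relIndex, ← normalizerMonoidHom_ker, index_ker]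
  refine (card_subgroup_dvd_card _).trans ?_
  rw [IsCyclic.card_mulAut, hP, Nat.totient_prime (by norm_num)]

/-- The data of the normalizer of a Sylow 19-subgroup. -/
theorem sylow_data [IsSimpleGroup G] (hG : Nat.card G = 459648) :
    ∃ (P : Sylow 19 G) (e : ℕ), Nat.card (P : Subgroup G) = 19 ∧
      (centralizer ((P : Subgroup G) : Set G)).relIndex (normalizer ((P : Subgroup G) : Set G)) = e ∧
      Nat.card (normalizer ((P : Subgroup G) : Set G)) = 456 ∧ (e = 2 ∨ e = 3 ∨ e = 6) ∧
      (e = 6 → ∃ t ∈ centralizer ((P : Subgroup G) : Set G), orderOf t = 2) := by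
  haveI : Fact (Nat.Prime 19) := ⟨by norm_num⟩
  haveI : Fact (Nat.Prime 7) := ⟨by norm_num⟩
  obtain ⟨P⟩ : Nonempty (Sylow 19 G) := inferInstance
  have hP : Nat.card (P : Subgroup G) = 19 := by
    rw [card_sylow_eq P (k := 1) (m := 24192) (by rw [hG]; norm_num) (by norm_num), pow_one]
  set C := centralizer ((P : Subgroup G) : Set G) with hC
  set N := normalizer ((P : Subgroup G) : Set G) with hN
  set e := C.relIndex N with he
  have hCN : C ≤ N := centralizer_le_normalizer _
  have hmul : Nat.card C * e = Nat.card N := by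
    rw [he, relIndex, ← Nat.card_congr (subgroupOfEquivOfLe hCN).toEquiv, card_mul_index]
  have he18 : e ∣ 18 := relIndex_dvd _ hP
  have hne := card_sylow_ne_one P (by rw [hP]; norm_num) (by rw [hP, hG]; norm_num)
  have hnmul := card_sylow_mul P
  rw [hG, ← hN] at hnmul
  have hn : Nat.card (Sylow 19 G) ∣ 24192 := by
    have h1 : P.index = 24192 := by
      have h2 := (P : Subgroup G).card_mul_index
      rw [hP, hG] at h2
      change (P : Subgroup G).index = 24192
      omega
    have h3 := P.card_dvd_index
    rwa [h1] at h3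
  have hmod : Nat.card (Sylow 19 G) % 19 = 1 := card_sylow_modEq_one 19 G
  have hn1008 : Nat.card (Sylow 19 G) = 1008 := by
    rcases nineteen_divisor hn hmod with h | h | h
    · exact absurd h hne
    · exfalso
      rw [h] at hnmul
      have hN4788 : Nat.card N = 4788 := by omega
      rw [hN4788] at hmul
      have h7 : 7 ∣ Nat.card C := by
        have he' : e ≤ 18 := Nat.le_of_dvd (by norm_num) he18
        interval_cases e <;> omega
      obtain ⟨y, hy⟩ := exists_prime_orderOf_dvd_card' 7 h7
      have hy7 : (y : G) ^ 7 = 1 := by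
        rw [← hy, ← orderOf_coe]; exact pow_orderOf_eq_one _
      obtain ⟨⟨x, hxP⟩, hxgen⟩ := (isCyclic_of_prime_card hP).exists_zpow_surjective
      have hx19 : x ^ 19 = 1 := by
        have := pow_card_eq_one' (x := (⟨x, hxP⟩ : (P : Subgroup G)))
        rw [hP] at this
        exact congrArg Subtype.val this
      have hcomm : Commute x (y : G) := mem_centralizer_iff.1 y.2 x hxP
      have hfix : ∀ Q : Sylow 19 G, (y : G) • Q = Q := by
        intro Q
        by_cases hQ : x • Q = Q
        · have hxQ : x ∈ (Q : Subgroup G) := mem_sylow_of_smul_eq (n := 1) (by simpa using hx19) Q hQ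
          have hPQ : P = Q := by
            refine (Sylow.ext (P.3 Q.2 ?_)).symm
            intro a ha
            obtain ⟨i, hi⟩ := hxgen ⟨a, ha⟩
            have := congrArg Subtype.val hi
            simp only [SubgroupClass.coe_zpow] at this
            rw [← this]
            exact zpow_mem hxQ i
          subst hPQ
          exact Sylow.smul_eq_iff_mem_normalizer.2 (hCN y.2)
        · exact smul_eq_of_commute hcomm hx19 hy7 (by rw [h]; norm_num) hQ
      set f := MulAction.toPermHom G (Sylow 19 G) with hf
      rcases IsSimpleGroup.eq_bot_or_eq_top_of_normal f.ker inferInstance with hk | hk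
      · have : (y : G) ∈ f.ker := MonoidHom.mem_ker.2 (Equiv.ext fun Q => hfix Q)
        rw [hk, mem_bot, OneMemClass.coe_eq_one] at this
        rw [this, orderOf_one] at hy
        omega
      · have hall : ∀ Q : Sylow 19 G, Q = P := fun Q => by
          obtain ⟨g, hg⟩ := MulAction.exists_smul_eq G P Q
          have : f g = 1 := MonoidHom.mem_ker.1 (hk ▸ mem_top g)
          rw [← hg]
          exact Equiv.congr_fun this P
        exact hne (Nat.card_eq_one_iff_unique.2 ⟨⟨fun a b => (hall a).trans (hall b).symm⟩, ⟨P⟩⟩)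
    · exact h
  rw [hn1008] at hnmul
  have hN456 : Nat.card N = 456 := by omega
  rw [hN456] at hmul
  have he1 : e ≠ 1 := fun h1 =>
    not_le_centralizer P (by rw [hP]; norm_num) (by rw [hP, hG]; norm_num) (relIndex_eq_one.1 h1)
  have he' : e ≤ 18 := Nat.le_of_dvd (by norm_num) he18
  refine ⟨P, e, hP, rfl, hN456, ?_, fun h6 => ?_⟩
  · interval_cases e <;> omega
  · haveI : Fact (Nat.Prime 2) := ⟨Nat.prime_two⟩
    obtain ⟨t, ht⟩ := exists_prime_orderOf_dvd_card' (G := C) 2 (by rw [h6] at hmul; omega)
    exact ⟨t, t.2, by rw [orderOf_coe]; exact ht⟩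

end CfsgLib.Order459648
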